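import Mathlib

/-! Helper lemmas for extending morphisms near a point (helper67): `genPt`, integral/reduced open
neighbourhoods, gluing of morphisms on opens. -/
set_option autoImplicit false
universe u
open AlgebraicGeometry CategoryTheory

namespace Groth.Agent.Lib.Helper67.ExtendVal


/-- the image of the generic point of `Spec 𝒪_{X,x}` -/
noncomputable def genPt {X : Scheme.{u}} (x : X) [IsDomain (X.presheaf.stalk x)] : X :=
  X.fromSpecStalk x ⟨⊥, Ideal.isPrime_bot⟩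

lemma genPt_specializes {X : Scheme.{u}} (x : X) [IsDomain (X.presheaf.stalk x)] :
    genPt x ⤳ x := by
  have : genPt x ∈ Set.range (X.fromSpecStalk x) := ⟨_, rfl⟩
  rw [Scheme.range_fromSpecStalk] at this
  exact this

lemma genPt_specializes_of_specializes {X : Scheme.{u}} (x : X) [IsDomain (X.presheaf.stalk x)]
    {y : X} (hy : y ⤳ x) : genPt x ⤳ y := by
  have : y ∈ Set.range (X.fromSpecStalk x) := by
    rw [Scheme.range_fromSpecStalk]; exact hy
  obtain ⟨𝔭, rfl⟩ := this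
  apply Specializes.map _ (X.fromSpecStalk x).continuous
  exact (PrimeSpectrum.le_iff_specializes
    (⟨⊥, Ideal.isPrime_bot⟩ : PrimeSpectrum (X.presheaf.stalk x)) 𝔭).mp
    (bot_le (a := 𝔭.asIdeal))

/-- with finitely many irreducible components, some open neighbourhood of `x` consists of
specializations of `genPt x`. -/
lemma exists_open_nhd_forall_genPt_specializes {X : Scheme.{u}} (x : X)
    [IsDomain (X.presheaf.stalk x)] (hfin : (irreducibleComponents X).Finite) :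
    ∃ O : X.Opens, x ∈ O ∧ ∀ y ∈ O, genPt x ⤳ y := by
  set F : Set (Set X) := {Z ∈ irreducibleComponents X | x ∉ Z} with hF
  have hFfin : F.Finite := hfin.subset (fun Z hZ => hZ.1)
  have hC : IsClosed (⋃₀ F) := by
    rw [Set.sUnion_eq_biUnion]
    exact hFfin.isClosed_biUnion fun Z hZ => isClosed_of_mem_irreducibleComponents Z hZ.1
  refine ⟨⟨(⋃₀ F)ᶜ, hC.isOpen_compl⟩, ?_, ?_⟩
  · rintro ⟨Z, hZ, hxZ⟩
    exact hZ.2 hxZ
  · intro y hy
    have hxZ : x ∈ irreducibleComponent y := by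
      by_contra hx
      exact hy ⟨irreducibleComponent y,
        ⟨irreducibleComponent_mem_irreducibleComponents y, hx⟩, mem_irreducibleComponent⟩
    obtain ⟨η, hη⟩ := QuasiSober.sober (isIrreducible_irreducibleComponent (x := y))
      isClosed_irreducibleComponent
    have h1 : η ⤳ x := hη.specializes hxZ
    have h2 : η ⤳ y := hη.specializes mem_irreducibleComponent
    exact (genPt_specializes_of_specializes x h1).trans h2



/-- finitely many sections with zero germ at `x` vanish on a common open neighbourhood -/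
lemma exists_open_res_eq_zero {X : Scheme.{u}} (V : X.Opens) (x : X) (hxV : x ∈ V)
    (T : Finset Γ(X, V)) (hT : ∀ t ∈ T, X.presheaf.germ V x hxV t = 0) :
    ∃ (W : X.Opens) (hWV : W ≤ V), x ∈ W ∧
      ∀ t ∈ T, (X.presheaf.map (homOfLE hWV).op).hom t = 0 := by
  classical
  induction T using Finset.induction_on with
  | empty => exact ⟨V, le_rfl, hxV, by simp⟩
  | insert a T ha ih =>
    obtain ⟨W, hWV, hxW, hW⟩ := ih (fun t ht => hT t (Finset.mem_insert_of_mem ht))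
    have h0 : X.presheaf.germ V x hxV a = X.presheaf.germ V x hxV 0 := by
      rw [hT a (Finset.mem_insert_self _ _), map_zero]
    obtain ⟨W', hxW', i1, i2, e⟩ := X.presheaf.germ_eq x hxV hxV a 0 h0
    refine ⟨W ⊓ W', inf_le_left.trans hWV, ⟨hxW, hxW'⟩, ?_⟩
    intro t ht
    rw [Finset.mem_insert] at ht
    rcases ht with rfl | ht
    · have : (X.presheaf.map (homOfLE (inf_le_left.trans hWV : W ⊓ W' ≤ V)).op) =
          X.presheaf.map i1.op ≫ X.presheaf.map (homOfLE (inf_le_right : W ⊓ W' ≤ W')).op := by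
        rw [← Functor.map_comp, ← op_comp]; rfl
      rw [this, CommRingCat.comp_apply]
      erw [e]
      simp
    · have : (X.presheaf.map (homOfLE (inf_le_left.trans hWV : W ⊓ W' ≤ V)).op) =
          X.presheaf.map (homOfLE hWV).op ≫
            X.presheaf.map (homOfLE (inf_le_left : W ⊓ W' ≤ W)).op := by
        rw [← Functor.map_comp, ← op_comp]; rfl
      rw [this, CommRingCat.comp_apply, hW t ht, map_zero]

lemma exists_reduced_open_nhd {X : Scheme.{u}} [IsLocallyNoetherian X] (x : X)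
    [_root_.IsReduced (X.presheaf.stalk x)] :
    ∃ X₀ : X.Opens, x ∈ X₀ ∧ IsReduced (X₀ : Scheme.{u}) := by
  classical
  obtain ⟨_, ⟨V, hV, rfl⟩, hxV, -⟩ :=
    X.isBasis_affineOpens.exists_subset_of_mem_open (Set.mem_univ x) isOpen_univ
  haveI : IsNoetherianRing Γ(X, V) := IsLocallyNoetherian.component_noetherian ⟨V, hV⟩
  obtain ⟨T, hT⟩ : (nilradical Γ(X, V)).FG := IsNoetherian.noetherian _
  have hTg : ∀ t ∈ T, X.presheaf.germ V x hxV t = 0 := by
    intro t ht
    have htn : IsNilpotent t := by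
      have : t ∈ nilradical Γ(X, V) := hT ▸ Ideal.subset_span ht
      exact this
    exact (htn.map (X.presheaf.germ V x hxV).hom).eq_zero
  obtain ⟨W, hWV, hxW, hW⟩ := exists_open_res_eq_zero V x hxV T hTg
  obtain ⟨s, hs, hxs⟩ := hV.exists_basicOpen_le ⟨x, hxW⟩ hxV
  refine ⟨X.basicOpen s, hxs, ?_⟩
  haveI hloc := hV.isLocalization_basicOpen s
  have hres : ∀ t ∈ T, algebraMap Γ(X, V) Γ(X, X.basicOpen s) t = 0 := by
    intro t ht
    have : (X.presheaf.map (homOfLE (X.basicOpen_le s)).op) =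
        X.presheaf.map (homOfLE hWV).op ≫ X.presheaf.map (homOfLE hs).op := by
      rw [← Functor.map_comp, ← op_comp]; rfl
    rw [RingHom.algebraMap_toAlgebra, this, CommRingCat.comp_apply, hW t ht, map_zero]
  have hnil : nilradical Γ(X, X.basicOpen s) = ⊥ := by
    have h1 := IsLocalization.map_radical (.powers s) Γ(X, X.basicOpen s) (⊥ : Ideal Γ(X, V))
    rw [Ideal.map_bot] at h1
    change (nilradical Γ(X, V)).map _ = nilradical _ at h1
    rw [← h1, ← hT, Ideal.map_span, Ideal.span_eq_bot]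
    rintro _ ⟨t, ht, rfl⟩
    exact hres t ht
  haveI hred : _root_.IsReduced Γ(X, X.basicOpen s) := nilradical_eq_bot_iff.mp hnil
  haveI : IsAffine (X.basicOpen s : Scheme.{u}) := hV.basicOpen s
  haveI : _root_.IsReduced Γ((X.basicOpen s : Scheme.{u}), ⊤) :=
    isReduced_of_injective (X.basicOpen s).topIso.hom.hom
      (ConcreteCategory.bijective_of_isIso (X.basicOpen s).topIso.hom).1
  exact isReduced_of_isAffine_isReduced _

/-- an open all of whose points are specializations of one of its points is irreducible -/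
lemma irreducibleSpace_of_forall_specializes {X : Scheme.{u}} (X₁ : X.Opens) (η : X) (hη : η ∈ X₁)
    (h : ∀ y ∈ X₁, η ⤳ y) : IrreducibleSpace (X₁ : Scheme.{u}) := by
  haveI : Nonempty (X₁ : Scheme.{u}) := ⟨⟨η, hη⟩⟩
  refine { isPreirreducible_univ := ?_, toNonempty := ‹_› }
  rintro u v hu hv ⟨a, -, hau⟩ ⟨b, -, hbv⟩
  have ha : (⟨η, hη⟩ : ↥X₁) ⤳ a := by
    rw [← Topology.IsInducing.subtypeVal.specializes_iff]
    exact h a.1 a.2
  have hb : (⟨η, hη⟩ : ↥X₁) ⤳ b := by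
    rw [← Topology.IsInducing.subtypeVal.specializes_iff]
    exact h b.1 b.2
  exact ⟨⟨η, hη⟩, trivial, ha.mem_open hu hau, hb.mem_open hv hbv⟩

lemma exists_integral_open_nhd {X : Scheme.{u}} (x : X) [IsDomain (X.presheaf.stalk x)]
    (hfin : (irreducibleComponents X).Finite) (X₀ : X.Opens) (hx₀ : x ∈ X₀)
    [IsReduced (X₀ : Scheme.{u})] :
    ∃ X₁ : X.Opens, x ∈ X₁ ∧ IsIntegral (X₁ : Scheme.{u}) ∧ ∀ y ∈ X₁, genPt x ⤳ y := by
  obtain ⟨O, hxO, hO⟩ := exists_open_nhd_forall_genPt_specializes x hfin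
  refine ⟨X₀ ⊓ O, ⟨hx₀, hxO⟩, ?_, fun y hy => hO y hy.2⟩
  haveI : IsReduced ((X₀ ⊓ O : X.Opens) : Scheme.{u}) :=
    isReduced_of_isOpenImmersion (X.homOfLE (inf_le_left : X₀ ⊓ O ≤ X₀))
  haveI : IrreducibleSpace ((X₀ ⊓ O : X.Opens) : Scheme.{u}) :=
    irreducibleSpace_of_forall_specializes (X₀ ⊓ O) (genPt x)
      ((genPt_specializes x).mem_open (X₀ ⊓ O).isOpen ⟨hx₀, hxO⟩) (fun y hy => hO y hy.2)
  exact isIntegral_of_irreducibleSpace_of_isReduced _



open CategoryTheory.Limits in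
lemma exists_glue {X Y : Scheme.{u}} {J : Type} (U : J → X.Opens)
    (f : ∀ j, ((U j : X.Opens) : Scheme.{u}) ⟶ Y)
    (h : ∀ i j, X.homOfLE (inf_le_left : U i ⊓ U j ≤ U i) ≫ f i =
      X.homOfLE (inf_le_right : U i ⊓ U j ≤ U j) ≫ f j) :
    ∃ f' : ((⨆ j, U j : X.Opens) : Scheme.{u}) ⟶ Y, ∀ j, X.homOfLE (le_iSup U j) ≫ f' = f j := by
  refine ⟨(Scheme.Opens.iSupOpenCover U).glueMorphisms f ?_, fun j =>
    (Scheme.Opens.iSupOpenCover U).ι_glueMorphisms f _ j⟩
  intro i j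
  have hpb := isPullback_opens_inf_le (le_iSup U i) (le_iSup U j)
  change pullback.fst (X.homOfLE (le_iSup U i)) (X.homOfLE (le_iSup U j)) ≫ f i =
    pullback.snd (X.homOfLE (le_iSup U i)) (X.homOfLE (le_iSup U j)) ≫ f j
  rw [← hpb.isoPullback_inv_fst, ← hpb.isoPullback_inv_snd, Category.assoc, Category.assoc, h i j]

lemma exists_glue₂ {X Y : Scheme.{u}} (U₁ U₂ : X.Opens) (f₁ : (U₁ : Scheme.{u}) ⟶ Y)
    (f₂ : (U₂ : Scheme.{u}) ⟶ Y)
    (h : X.homOfLE (inf_le_left : U₁ ⊓ U₂ ≤ U₁) ≫ f₁ =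
      X.homOfLE (inf_le_right : U₁ ⊓ U₂ ≤ U₂) ≫ f₂) :
    ∃ (U' : X.Opens) (h₁ : U₁ ≤ U') (h₂ : U₂ ≤ U') (f' : (U' : Scheme.{u}) ⟶ Y),
      X.homOfLE h₁ ≫ f' = f₁ ∧ X.homOfLE h₂ ≫ f' = f₂ ∧
      (∀ {Z : Scheme.{u}} (a b : (U' : Scheme.{u}) ⟶ Z), X.homOfLE h₁ ≫ a = X.homOfLE h₁ ≫ b →
        X.homOfLE h₂ ≫ a = X.homOfLE h₂ ≫ b → a = b) := by
  let Uf : Bool → X.Opens := fun b => cond b U₁ U₂
  let ff : ∀ b, ((Uf b : X.Opens) : Scheme.{u}) ⟶ Y := fun b =>
    match b with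
    | true => f₁
    | false => f₂
  have hff : ∀ i j, X.homOfLE (inf_le_left : Uf i ⊓ Uf j ≤ Uf i) ≫ ff i =
      X.homOfLE (inf_le_right : Uf i ⊓ Uf j ≤ Uf j) ≫ ff j := by
    intro i j
    cases i <;> cases j
    · rfl
    · change X.homOfLE (inf_le_left : U₂ ⊓ U₁ ≤ U₂) ≫ f₂ =
        X.homOfLE (inf_le_right : U₂ ⊓ U₁ ≤ U₁) ≫ f₁
      have e : U₂ ⊓ U₁ ≤ U₁ ⊓ U₂ := by rw [inf_comm]
      have h1 := congrArg (fun g => X.homOfLE e ≫ g) h
      simp only [Scheme.homOfLE_homOfLE_assoc] at h1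
      exact h1.symm
    · exact h
    · rfl
  obtain ⟨f', hf'⟩ := exists_glue Uf ff hff
  refine ⟨⨆ j, Uf j, le_iSup Uf true, le_iSup Uf false, f', hf' true, hf' false, ?_⟩
  intro Z a b h1 h2
  refine (Scheme.Opens.iSupOpenCover Uf).hom_ext _ _ fun j => ?_
  cases j
  · exact h2
  · exact h1


end Groth.Agent.Lib.Helper67.ExtendVal
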