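import Mathlib
import Groth.Agent.S4366
import Groth.Agent.Lib.QCoh.Helper74_FlatOverPullback

open CategoryTheory CategoryTheory.Limits AlgebraicGeometry TensorProduct

namespace Groth.Agent.Lib.Helper67.FlatAtBC

universe u

/-- Flatness at a point is stable under base change: in a pullback square `(g', f', f, g)`, if `g` is
flat at `f' x'`, then `g'` is flat at `x'`. -/
theorem flat_stalkMap_of_isPullback {X Y X' Y' : Scheme.{u}} {f : X ⟶ Y} {f' : X' ⟶ Y'}
    {g' : X' ⟶ X} {g : Y' ⟶ Y} (hc : IsPullback g' f' f g) (x' : X')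
    (hflat : (g.stalkMap (f' x')).hom.Flat) : (g'.stalkMap x').hom.Flat := by
  let s := Y'.fromSpecStalk (f' x')
  haveI : Flat s := Groth.Agent.S4366.flat_fromSpecStalk Y' (f' x')
  let p1 := pullback.fst f' s
  let p2 := pullback.snd f' s
  have hsq : IsPullback (p1 ≫ g') p2 f (s ≫ g) :=
    (IsPullback.of_hasPullback f' s).paste_horiz hc
  have hsg : Flat (s ≫ g) := by
    have e : s ≫ g = Spec.map (g.stalkMap (f' x')) ≫ Y.fromSpecStalk (g (f' x')) :=
      (Scheme.SpecMap_stalkMap_fromSpecStalk g).symm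
    rw [e]
    haveI : Flat (Spec.map (g.stalkMap (f' x'))) := Flat.SpecMap_iff.mpr hflat
    haveI : Flat (Y.fromSpecStalk (g (f' x'))) := Groth.Agent.S4366.flat_fromSpecStalk Y _
    infer_instance
  haveI hfl : Flat (p1 ≫ g') := MorphismProperty.of_isPullback (P := @Flat) hsq.flip hsg
  obtain ⟨p, hp1, -⟩ := Scheme.Pullback.exists_preimage_pullback (f := f') (g := s) x'
    (IsLocalRing.closedPoint _) (Scheme.fromSpecStalk_closedPoint).symm
  haveI : IsIso (p1.stalkMap p) := Groth.Agent.S4366.isIso_stalkMap_of_flat_of_mono p1 p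
  have h1 : ((p1 ≫ g').stalkMap p).hom.Flat := Flat.stalkMap (p1 ≫ g') p
  have h2 : (p1 ≫ g').stalkMap p = g'.stalkMap (p1 p) ≫ p1.stalkMap p :=
    Scheme.Hom.stalkMap_comp ..
  have h1' : (g'.stalkMap (p1 p) ≫ p1.stalkMap p).hom.Flat := by
    have := h1
    rwa [h2] at this
  have h3 : g'.stalkMap (p1 p) = (g'.stalkMap (p1 p) ≫ p1.stalkMap p) ≫ inv (p1.stalkMap p) := by
    rw [Category.assoc, IsIso.hom_inv_id, Category.comp_id]
  have h4 : (g'.stalkMap (p1 p)).hom.Flat := by
    rw [h3, CommRingCat.hom_comp]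
    refine RingHom.Flat.comp h1' (RingHom.Flat.of_bijective ?_)
    exact ConcreteCategory.bijective_of_isIso (inv (p1.stalkMap p))
  exact hp1 ▸ h4

/-- Flatness descends along faithfully flat ring maps. -/
theorem flat_of_faithfullyFlat_of_flat (A B C : Type u) [CommRing A] [CommRing B] [CommRing C]
    [Algebra A B] [Algebra B C] [Algebra A C] [IsScalarTower A B C] [Module.FaithfullyFlat B C]
    [Module.Flat A C] : Module.Flat A B := by
  haveI : Module.Flat A (C ⊗[B] B) :=
    Module.Flat.of_linearEquiv ((TensorProduct.rid B C).restrictScalars A)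
  exact Groth.Agent.Lib.QCoh.flat_of_flat_tensor_of_faithfullyFlat A B C B

end Groth.Agent.Lib.Helper67.FlatAtBC
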