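import Groth.Agent.Lib.Helper67.HopfModSub

/-!
# Invariant cotangent bases along a free closed orbit (helper67)

`R` a comodule algebra over a linearly reductive commutative Hopf algebra `A` over a field `K`,
`o : R → A` a surjective comodule-algebra map with kernel `I`.  Then `I/I²` is a Hopf module over
`A ≅ R/I`, so (fundamental theorem) it is free on its invariants; these lift to invariants of `I`.
-/

set_option autoImplicit false
universe u

open TensorProduct

namespace Groth.Agent.Lib.Helper67.FreeOrbit

open Groth.Agent.Lib.Helper75 Groth.Agent.Lib.Helper67.LinRed Groth.Agent.Lib.Helper67.HopfMod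

section

variable {K : Type u} [Field K] {A : Type u} [CommRing A] [HopfAlgebra K A]
variable {R : Type u} [CommRing R] [Algebra K R] [HopfRep.Comod K A R] [GLin.IsCoactAlg K A R]

/-- transfer of linear independence along a ring isomorphism acting compatibly -/
theorem linearIndependent_of_ringEquiv {S T M : Type*} [CommRing S] [CommRing T] [AddCommGroup M]
    [Module S M] [Module T M] (e : S ≃+* T) (h : ∀ (s : S) (m : M), e s • m = s • m)
    {ι : Type*} (v : ι → M) (hv : LinearIndependent S v) : LinearIndependent T v := by
  rw [linearIndependent_iff'] at hv ⊢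
  intro s g hg i hi
  have h' : ∑ j ∈ s, (e.symm (g j)) • v j = 0 := by
    rw [← hg]
    refine Finset.sum_congr rfl (fun j _ => ?_)
    rw [← h, RingEquiv.apply_symm_apply]
  have := hv s (fun j => e.symm (g j)) h' i hi
  simpa using this

theorem span_eq_top_of_ringEquiv {S T M : Type*} [CommRing S] [CommRing T] [AddCommGroup M]
    [Module S M] [Module T M] (e : S ≃+* T) (h : ∀ (s : S) (m : M), e s • m = s • m)
    (X : Set M) (hX : Submodule.span S X = ⊤) : Submodule.span T X = ⊤ := by
  rw [eq_top_iff]
  intro m _
  have hm : m ∈ Submodule.span S X := by rw [hX]; trivial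
  refine Submodule.span_induction ?_ ?_ ?_ ?_ hm
  · intro x hx; exact Submodule.subset_span hx
  · exact Submodule.zero_mem _
  · intro x y _ _ hx hy; exact Submodule.add_mem _ hx hy
  · intro a x _ hx
    rw [← h]
    exact Submodule.smul_mem _ _ hx

theorem exists_invariant_cotangent_basis (hred : HopfRep.IsLinearlyReductive K A)
    [IsNoetherianRing R] (o : R →ₐ[K] A) (ho : Function.Surjective o)
    (hoc : Hoch.IsComodHom A o.toLinearMap) (I : Ideal R) (hI : I = RingHom.ker o) :
    ∃ (r : ℕ) (f : Fin r → R) (_ : ∀ i, f i ∈ GLin.invariants K A R) (hf : ∀ i, f i ∈ I),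
      LinearIndependent (R ⧸ I) (fun i => I.toCotangent ⟨f i, hf i⟩) ∧
      Submodule.span (R ⧸ I) (Set.range fun i => I.toCotangent ⟨f i, hf i⟩) = ⊤ := by
  classical
  subst hI
  set I : Ideal R := RingHom.ker o with hIdef
  -- `o` commutes with the actions of functionals
  have hoact : ∀ (f : A →ₗ[K] K) (r : R), o (act f r) = act f (o r) :=
    (isComodHom_iff (A := A) o.toLinearMap).1 hoc
  -- `I` is stable
  have hIsub : HopfRep.IsSubcomod (k := K) (A := A) (I.restrictScalars K) := by
    rw [isSubcomod_iff]
    intro f r hr
    have hr' : o r = 0 := hr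
    show o (act f r) = 0
    rw [hoact, hr', map_zero]
  have hI2sub : HopfRep.IsSubcomod (k := K) (A := A) ((I ^ 2).restrictScalars K) := by
    rw [pow_two]
    exact isSubcomod_mul I I hIsub hIsub
  -- the comodule structure on `I`
  have hιinj : Function.Injective (I.subtype.restrictScalars K) := Subtype.val_injective
  have hrange : LinearMap.range (I.subtype.restrictScalars K) = I.restrictScalars K := by
    ext y
    constructor
    · rintro ⟨z, rfl⟩; exact z.2
    · intro hy; exact ⟨⟨y, hy⟩, rfl⟩
  have hr : HopfRep.IsSubcomod (k := K) (A := A) (LinearMap.range (I.subtype.restrictScalars K)) := by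
    rw [hrange]; exact hIsub
  letI cI : HopfRep.Comod K A I := comodOfInjective (I.subtype.restrictScalars K) hιinj hr
  have hcI : ∀ y : I, (I.subtype.restrictScalars K).rTensor A (coactMap K A I y) =
      coactMap K A R (I.subtype y) :=
    fun y => comodOfInjective_coact (I.subtype.restrictScalars K) hιinj hr y
  haveI : TameAct.IsHopfMod K A R R := isHopfMod_self
  haveI hHI : TameAct.IsHopfMod K A R I := isHopfMod_of_injective (M := R) I.subtype
    Subtype.val_injective hcI
  have hιact : ∀ (f : A →ₗ[K] K) (y : I), ((act f y : I) : R) = act f (y : R) := by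
    have hh : Hoch.IsComodHom A (I.subtype.restrictScalars K) :=
      LinearMap.ext (fun y => (hcI y).symm)
    exact (isComodHom_iff (A := A) (I.subtype.restrictScalars K)).1 hh
  -- the comodule structure on the cotangent space
  have hπsurj : Function.Surjective (I.toCotangent.restrictScalars K) := I.toCotangent_surjective
  have hker : HopfRep.IsSubcomod (k := K) (A := A)
      (LinearMap.ker (I.toCotangent.restrictScalars K)) := by
    rw [isSubcomod_iff]
    intro f y hy
    rw [LinearMap.mem_ker] at hy ⊢
    have hy' : I.toCotangent y = 0 := hy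
    show I.toCotangent (act f y) = 0
    rw [Ideal.toCotangent_eq_zero] at hy' ⊢
    rw [hιact]
    exact (isSubcomod_iff ((I ^ 2).restrictScalars K)).1 hI2sub f _ hy'
  letI cM : HopfRep.Comod K A I.Cotangent :=
    comodOfSurjective (I.toCotangent.restrictScalars K) hπsurj hker
  have hcM : ∀ y : I, coactMap K A I.Cotangent (I.toCotangent y) =
      (I.toCotangent.restrictScalars K).rTensor A (coactMap K A I y) :=
    fun y => comodOfSurjective_coact (I.toCotangent.restrictScalars K) hπsurj hker y
  haveI hHM : TameAct.IsHopfMod K A R I.Cotangent :=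
    isHopfMod_of_surjective (M := I) I.toCotangent I.toCotangent_surjective hcM
  have hπact : ∀ (f : A →ₗ[K] K) (y : I),
      I.toCotangent (act f y) = act f (I.toCotangent y) := by
    have hh : Hoch.IsComodHom A (I.toCotangent.restrictScalars K) :=
      LinearMap.ext (fun y => hcM y)
    exact (isComodHom_iff (A := A) (I.toCotangent.restrictScalars K)).1 hh
  -- the `A`-module structure
  let e : (R ⧸ I) ≃ₐ[K] A := Ideal.quotientKerAlgEquivOfSurjective ho
  letI mA : Module A I.Cotangent := Module.compHom I.Cotangent (e.symm : A →+* R ⧸ I)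
  have hAsmul : ∀ (a : A) (m : I.Cotangent), a • m = (e.symm a) • m := fun _ _ => rfl
  have hmk : ∀ (r : R) (m : I.Cotangent), (Ideal.Quotient.mk I r) • m = r • m := by
    intro r m
    have : (Ideal.Quotient.mk I r) = r • (1 : R ⧸ I) := by
      rw [Algebra.smul_def, mul_one]; rfl
    rw [this, smul_assoc, one_smul]
  have hosmul : ∀ (r : R) (m : I.Cotangent), o r • m = r • m := by
    intro r m
    rw [hAsmul, Ideal.quotientKerAlgEquivOfSurjective_symm_apply, hmk]
  haveI : IsScalarTower K A I.Cotangent := ⟨by
    intro c a m
    obtain ⟨r, rfl⟩ := ho a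
    rw [← map_smul, hosmul, hosmul, smul_assoc]⟩
  haveI hHA : TameAct.IsHopfMod K A A I.Cotangent :=
    isHopfMod_of_algHom (B := R) o ho (fun b => LinearMap.congr_fun hoc b) hosmul
  -- a `K`-basis of the invariants
  let bas := Module.Basis.ofVectorSpace K (HopfRep.fixedPts K A I.Cotangent)
  let v : Module.Basis.ofVectorSpaceIndex K (HopfRep.fixedPts K A I.Cotangent) → I.Cotangent :=
    fun i => (bas i : I.Cotangent)
  have hvli : LinearIndependent K v :=
    bas.linearIndependent.map' (HopfRep.fixedPts K A I.Cotangent).subtype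
      (Submodule.ker_subtype _)
  have hvsp : Submodule.span K (Set.range v) = HopfRep.fixedPts K A I.Cotangent := by
    have : Set.range v = (HopfRep.fixedPts K A I.Cotangent).subtype '' Set.range bas := by
      rw [← Set.range_comp]; rfl
    rw [this, ← Submodule.map_span, bas.span_eq, Submodule.map_top, Submodule.range_subtype]
  obtain ⟨hliA, hspA⟩ := basis_of_fixedPts (K := K) (A := A) v hvli hvsp
  have hesm : ∀ (a : A) (m : I.Cotangent), e.symm.toRingEquiv a • m = a • m := fun _ _ => rfl
  have hliQ : LinearIndependent (R ⧸ I) v :=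
    linearIndependent_of_ringEquiv e.symm.toRingEquiv hesm v hliA
  have hspQ : Submodule.span (R ⧸ I) (Set.range v) = ⊤ :=
    span_eq_top_of_ringEquiv e.symm.toRingEquiv hesm _ hspA
  -- finiteness of the index set
  haveI : Nontrivial (R ⧸ I) := by
    haveI : Nontrivial A := by
      refine ⟨⟨0, 1, fun h => ?_⟩⟩
      have := congrArg (CoalgebraStruct.counit (R := K) (A := A)) h
      rw [map_zero, Bialgebra.counit_one] at this
      exact zero_ne_one this
    exact e.toRingEquiv.nontrivial
  haveI : Module.Finite R I.Cotangent :=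
    Module.Finite.of_surjective I.toCotangent I.toCotangent_surjective
  haveI : Module.Finite (R ⧸ I) I.Cotangent :=
    Module.Finite.of_restrictScalars_finite R (R ⧸ I) I.Cotangent
  haveI : Finite (Module.Basis.ofVectorSpaceIndex K (HopfRep.fixedPts K A I.Cotangent)) :=
    Module.Finite.finite_basis (Module.Basis.mk hliQ (le_of_eq hspQ.symm))
  obtain ⟨r, ⟨eι⟩⟩ := Finite.exists_equiv_fin
    (Module.Basis.ofVectorSpaceIndex K (HopfRep.fixedPts K A I.Cotangent))
  -- lift the invariants
  have hvfix : ∀ i, v i ∈ HopfRep.fixedPts K A I.Cotangent := fun i => (bas i).2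
  have hlift : ∀ j : Fin r, ∃ y : I, y ∈ HopfRep.fixedPts K A I ∧
      I.toCotangent y = v (eι.symm j) := by
    intro j
    obtain ⟨y, hy⟩ := I.toCotangent_surjective (v (eι.symm j))
    obtain ⟨y', hy'fix, _, hy'⟩ := exists_invariant_preimage hred
      (I.toCotangent.restrictScalars K) hπact y (by
        show I.toCotangent y ∈ _
        rw [hy]; exact hvfix _)
    refine ⟨y', hy'fix, ?_⟩
    have : I.toCotangent y' = I.toCotangent y := hy'
    rw [this, hy]
  choose y hyfix hyv using hlift
  refine ⟨r, fun j => (y j : R), ?_, fun j => (y j).2, ?_, ?_⟩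
  · intro j
    show HopfRep.Comod.coact (k := K) (A := A) ((y j : I) : R) = ((y j : I) : R) ⊗ₜ[K] (1 : A)
    have h1 := hcI (y j)
    have h2 : coactMap K A I (y j) = (y j) ⊗ₜ[K] (1 : A) := hyfix j
    rw [h2, LinearMap.rTensor_tmul] at h1
    exact h1.symm
  · have : (fun i => I.toCotangent ⟨(y i : R), (y i).2⟩) = v ∘ eι.symm := by
      funext j
      exact hyv j
    rw [this]
    exact hliQ.comp _ eι.symm.injective
  · have : (fun i => I.toCotangent ⟨(y i : R), (y i).2⟩) = v ∘ eι.symm := by
      funext j
      exact hyv j
    rw [this, eι.symm.surjective.range_comp]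
    exact hspQ

end

end Groth.Agent.Lib.Helper67.FreeOrbit
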