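import Groth.Agent.Lib.Helper67.LinRed
import Groth.Prelude.Def_GLin

/-!
# Comodule algebras over a Hopf algebra: shear identity, stability of conductors (helper67)

* `shear_coact` : `Σ ρ(y₀) (1 ⊗ S y₁) = y ⊗ 1`.
* `contractR_mul_tmul_one`, `contractR_mul_one_tmul` : contraction rules in `R ⊗ A`.
* `act_mul_of_mem_invariants` : `act g (r * x) = act g r * x` for invariant `x`.
* `isSubcomod_span_of_invariants` : ideals generated by invariants are subcomodules.
* `act_mul_mem` / `isSubcomod_conductor` : the conductor `(J : I)` of stable ideals is stable.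
-/

set_option autoImplicit false
universe u v

open TensorProduct

namespace Groth.Agent.Lib.Helper67.LinRed

open Groth.Agent.Lib.Helper75

section Alg

variable {K : Type u} [Field K] {A : Type v} [CommRing A] [HopfAlgebra K A]
variable {R : Type v} [CommRing R] [Algebra K R] [HopfRep.Comod K A R] [GLin.IsCoactAlg K A R]

omit [GLin.IsCoactAlg K A R] in
theorem contractR_mul_tmul_one (f : A →ₗ[K] K) (x : R ⊗[K] A) (y : R) :
    contractR R f (x * (y ⊗ₜ[K] (1 : A))) = contractR R f x * y := by
  induction x using TensorProduct.induction_on with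
  | zero => simp
  | tmul r a =>
    rw [Algebra.TensorProduct.tmul_mul_tmul, contractR_tmul, contractR_tmul, mul_one, smul_mul_assoc]
  | add x₁ x₂ h₁ h₂ => rw [add_mul, map_add, h₁, h₂, map_add, add_mul]

omit [GLin.IsCoactAlg K A R] in
theorem contractR_mul_one_tmul (f : A →ₗ[K] K) (x : R ⊗[K] A) (a : A) :
    contractR R f (x * ((1 : R) ⊗ₜ[K] a)) = contractR R (f ∘ₗ LinearMap.mulRight K a) x := by
  induction x using TensorProduct.induction_on with
  | zero => simp
  | tmul r a' =>
    rw [Algebra.TensorProduct.tmul_mul_tmul, contractR_tmul, contractR_tmul, mul_one]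
    rfl
  | add x₁ x₂ h₁ h₂ => rw [add_mul, map_add, h₁, h₂, map_add]

theorem coact_mul' (x y : R) : coactMap K A R (x * y) = coactMap K A R x * coactMap K A R y :=
  GLin.IsCoactAlg.coact_mul (k := K) (A := A) x y

/-- `act g (r * x) = act g r * x` for an invariant `x`. -/
theorem act_mul_of_mem_invariants (g : A →ₗ[K] K) (r x : R) (hx : x ∈ GLin.invariants K A R) :
    act g (r * x) = act g r * x := by
  rw [act_apply, coact_mul', act_apply]
  have : coactMap K A R x = x ⊗ₜ[K] (1 : A) := hx
  rw [this, contractR_mul_tmul_one]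

/-- An ideal generated by invariants is a subcomodule. -/
theorem isSubcomod_span_of_invariants (s : Set R) (hs : ∀ x ∈ s, x ∈ GLin.invariants K A R) :
    HopfRep.IsSubcomod (k := K) (A := A) ((Ideal.span s).restrictScalars K) := by
  rw [isSubcomod_iff]
  intro g w hw
  rw [Submodule.restrictScalars_mem] at hw ⊢
  suffices h : ∀ t : R ⊗[K] A, contractR R g (t * coactMap K A R w) ∈ Ideal.span s by
    have := h 1
    rwa [one_mul] at this
  induction hw using Submodule.span_induction with
  | mem x hx =>
    intro t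
    have : coactMap K A R x = x ⊗ₜ[K] (1 : A) := hs x hx
    rw [this, contractR_mul_tmul_one]
    exact Ideal.mul_mem_left _ _ (Ideal.subset_span hx)
  | zero => intro t; rw [map_zero, mul_zero, map_zero]; exact Submodule.zero_mem _
  | add x y _ _ hx hy =>
    intro t
    rw [map_add, mul_add, map_add]
    exact Submodule.add_mem _ (hx t) (hy t)
  | smul a x _ hx =>
    intro t
    rw [smul_eq_mul, coact_mul', ← mul_assoc]
    exact hx _

/-- The shear map `r ⊗ a ↦ ρ(r) (1 ⊗ S a)`. -/
noncomputable def shear (K : Type u) [Field K] (A : Type v) [CommRing A] [HopfAlgebra K A]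
    (R : Type v) [CommRing R] [Algebra K R] [HopfRep.Comod K A R] :
    R ⊗[K] A →ₗ[K] R ⊗[K] A :=
  LinearMap.mul' K (R ⊗[K] A) ∘ₗ
    TensorProduct.map (coactMap K A R)
      ((Algebra.TensorProduct.includeRight : A →ₐ[K] R ⊗[K] A).toLinearMap ∘ₗ
        HopfAlgebraStruct.antipode (R := K) (A := A))

omit [GLin.IsCoactAlg K A R] in
theorem shear_tmul (r : R) (a : A) :
    shear K A R (r ⊗ₜ[K] a) =
      coactMap K A R r * ((1 : R) ⊗ₜ[K] HopfAlgebraStruct.antipode (R := K) (A := A) a) := by
  simp [shear]

omit [GLin.IsCoactAlg K A R] in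
/-- The shear identity: `Σ ρ(y₀) (1 ⊗ S y₁) = y ⊗ 1`. -/
theorem shear_coact (y : R) : shear K A R (coactMap K A R y) = y ⊗ₜ[K] (1 : A) := by
  -- `shear = μ ∘ (ρ ⊗ id)` with `μ (t ⊗ a) = t * (1 ⊗ S a)`
  let μ : (R ⊗[K] A) ⊗[K] A →ₗ[K] R ⊗[K] A :=
    LinearMap.mul' K (R ⊗[K] A) ∘ₗ
      TensorProduct.map LinearMap.id
        ((Algebra.TensorProduct.includeRight : A →ₐ[K] R ⊗[K] A).toLinearMap ∘ₗ
          HopfAlgebraStruct.antipode (R := K) (A := A))
  have h1 : shear K A R = μ ∘ₗ (coactMap K A R).rTensor A := by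
    apply TensorProduct.ext'
    intro r a
    simp [shear, μ]
  have h2 : μ ∘ₗ (TensorProduct.assoc K R A A).symm.toLinearMap =
      (LinearMap.mul' K A ∘ₗ (HopfAlgebraStruct.antipode (R := K) (A := A)).lTensor A).lTensor R := by
    apply TensorProduct.ext'
    intro r t
    induction t using TensorProduct.induction_on with
    | zero => simp
    | tmul a a' => simp [μ]
    | add x y hx hy => simp only [TensorProduct.tmul_add, map_add, hx, hy]
  have hco := LinearMap.congr_fun (HopfRep.Comod.coassoc (k := K) (A := A) (V := R)) y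
  simp only [LinearMap.coe_comp, LinearEquiv.coe_coe, Function.comp_apply] at hco
  have h3 : (coactMap K A R).rTensor A (coactMap K A R y) =
      (TensorProduct.assoc K R A A).symm
        ((CoalgebraStruct.comul (R := K) (A := A)).lTensor R (coactMap K A R y)) := by
    rw [← hco, LinearEquiv.symm_apply_apply]
  rw [h1, LinearMap.comp_apply, h3]
  have h4 := LinearMap.congr_fun h2
    ((CoalgebraStruct.comul (R := K) (A := A)).lTensor R (coactMap K A R y))
  simp only [LinearMap.coe_comp, LinearEquiv.coe_coe, Function.comp_apply] at h4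
  rw [h4, ← LinearMap.comp_apply, ← LinearMap.lTensor_comp, LinearMap.comp_assoc,
    HopfAlgebra.mul_antipode_lTensor_comul, LinearMap.lTensor_comp, LinearMap.comp_apply]
  have hcu := LinearMap.congr_fun (HopfRep.Comod.counit_comp (k := K) (A := A) (V := R)) y
  simp only [LinearMap.coe_comp, Function.comp_apply] at hcu
  rw [hcu]
  simp [Algebra.linearMap_apply]

/-- The key stability estimate for conductors. -/
theorem act_mul_mem (I J : Ideal R)
    (hI : HopfRep.IsSubcomod (k := K) (A := A) (I.restrictScalars K))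
    (hJ : HopfRep.IsSubcomod (k := K) (A := A) (J.restrictScalars K))
    (b : R) (hb : ∀ y ∈ I, b * y ∈ J) (f : A →ₗ[K] K) :
    ∀ y ∈ I, act f b * y ∈ J := by
  intro y hy
  have e1 : act f b * y = contractR R f (coactMap K A R b * shear K A R (coactMap K A R y)) := by
    rw [shear_coact, contractR_mul_tmul_one, act_apply]
  rw [e1]
  obtain ⟨t, ht⟩ := hI y hy
  have ht' : coactMap K A R y = (I.restrictScalars K).subtype.rTensor A t := ht.symm
  rw [ht']
  clear ht ht' e1
  induction t using TensorProduct.induction_on with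
  | zero => simp
  | tmul i a =>
    rw [LinearMap.rTensor_tmul, shear_tmul, ← mul_assoc, ← coact_mul', contractR_mul_one_tmul]
    have hbi : b * (i : R) ∈ J := hb _ i.2
    exact (isSubcomod_iff (J.restrictScalars K)).1 hJ _ _ hbi
  | add t₁ t₂ h₁ h₂ =>
    rw [map_add, map_add, mul_add, map_add]
    exact J.add_mem h₁ h₂

/-- The conductor `(J : I)` of two stable ideals, as a `K`-subspace. -/
def conductor (K : Type u) [Field K] {R : Type v} [CommRing R] [Algebra K R] (I J : Ideal R) :
    Submodule K R where
  carrier := {b | ∀ y ∈ I, b * y ∈ J}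
  add_mem' {a b} ha hb y hy := by rw [add_mul]; exact J.add_mem (ha y hy) (hb y hy)
  zero_mem' y _ := by rw [zero_mul]; exact J.zero_mem
  smul_mem' c b hb y hy := by
    rw [smul_mul_assoc, Algebra.smul_def]
    exact J.mul_mem_left _ (hb y hy)

theorem mem_conductor (I J : Ideal R) (b : R) : b ∈ conductor K I J ↔ ∀ y ∈ I, b * y ∈ J := Iff.rfl

theorem isSubcomod_conductor (I J : Ideal R)
    (hI : HopfRep.IsSubcomod (k := K) (A := A) (I.restrictScalars K))
    (hJ : HopfRep.IsSubcomod (k := K) (A := A) (J.restrictScalars K)) :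
    HopfRep.IsSubcomod (k := K) (A := A) (conductor K I J) := by
  rw [isSubcomod_iff]
  intro f b hb
  exact act_mul_mem I J hI hJ b hb f

end Alg

end Groth.Agent.Lib.Helper67.LinRed
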