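import Mathlib
import Groth.Agent.Lib.Helper35.AffineChart

set_option autoImplicit false
set_option linter.style.haveILetI false
universe w u

open CategoryTheory CategoryTheory.Limits AlgebraicGeometry MvPolynomial

namespace Groth.Agent.Lib.Helper67.AffSmoothDim

/-- the presentation of a polynomial algebra with no relations. -/
noncomputable def mvPres (R : Type u) [CommRing R] (ι : Type w) :
    Algebra.Presentation R (MvPolynomial ι R) ι PEmpty.{1} where
  __ := Algebra.Generators.mvPolynomial R ι
  relation := PEmpty.elim
  span_range_relation_eq_ker := by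
    have h1 : (Set.range (PEmpty.elim : PEmpty.{1} → MvPolynomial ι R)) = ∅ := by
      ext x
      simp
    rw [h1, Ideal.span_empty]
    symm
    rw [eq_bot_iff]
    intro p hp
    rw [Algebra.Generators.ker_eq_ker_aeval_val] at hp
    have : aeval (Algebra.Generators.mvPolynomial R ι).val p = p := by
      simp [Algebra.Generators.mvPolynomial_val]
    rw [RingHom.mem_ker] at hp
    change aeval (Algebra.Generators.mvPolynomial R ι).val p = 0 at hp
    rw [this] at hp
    rw [hp]
    exact Ideal.zero_mem _

noncomputable def mvPre (R : Type u) [CommRing R] (ι : Type w) :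
    Algebra.PreSubmersivePresentation R (MvPolynomial ι R) ι PEmpty.{1} where
  toPresentation := mvPres R ι
  map := PEmpty.elim
  map_inj (a b : PEmpty) h := by contradiction

theorem mvPre_jacobian (R : Type u) [CommRing R] (ι : Type w) : (mvPre R ι).jacobian = 1 := by
  rw [Algebra.PreSubmersivePresentation.jacobian_eq_jacobiMatrix_det, Matrix.det_isEmpty, map_one]

noncomputable def mvSub (R : Type u) [CommRing R] (ι : Type w) :
    Algebra.SubmersivePresentation R (MvPolynomial ι R) ι PEmpty.{1} where
  __ := mvPre R ι
  jacobian_isUnit := by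
    rw [mvPre_jacobian]
    exact isUnit_one

theorem isStandardSmooth_mvPolynomial (R : Type u) [CommRing R] (ι : Type w) [Finite ι] (n : ℕ)
    (hn : Nat.card ι = n) :
    Algebra.IsStandardSmoothOfRelativeDimension n R (MvPolynomial ι R) :=
  (mvSub R ι).isStandardSmoothOfRelativeDimension (by
    simp [Algebra.Presentation.dimension, hn])

local notation3 "ℤ[" n "]" => CommRingCat.of (MvPolynomial n (ULift ℤ))

/-- Affine `d`-space over `S` is smooth of relative dimension `d` over `S`. -/
instance smoothOfRelativeDimension_over (d : ℕ) (S : Scheme.{u}) :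
    SmoothOfRelativeDimension d (𝔸(ULift.{u} (Fin d); S) ↘ S) :=
  haveI := smoothOfRelativeDimension_isStableUnderBaseChange d
  MorphismProperty.pullback_fst _ _ <| by
  have := isIso_of_isTerminal specULiftZIsTerminal.{u} terminalIsTerminal (terminal.from _)
  rw [← terminal.comp_from (Spec.map (CommRingCat.ofHom MvPolynomial.C)),
    MorphismProperty.cancel_right_of_respectsIso (P := @SmoothOfRelativeDimension d),
    HasRingHomProperty.Spec_iff (P := @SmoothOfRelativeDimension d)]
  apply RingHom.locally_of RingHom.isStandardSmoothOfRelativeDimension_respectsIso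
  have hsm : Algebra.IsStandardSmoothOfRelativeDimension d (ULift.{u} ℤ)
      (MvPolynomial (ULift.{u} (Fin d)) (ULift.{u} ℤ)) :=
    isStandardSmooth_mvPolynomial _ _ d (by simp)
  rw [RingHom.IsStandardSmoothOfRelativeDimension]
  convert! hsm
  exact Algebra.algebra_ext _ _ fun _ ↦ rfl

end Groth.Agent.Lib.Helper67.AffSmoothDim
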