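import Mathlib
import Groth.Prelude.Def_EGA4b
import Groth.Agent.Lib.Helper29.CM
import Groth.Agent.Lib.Helper73.FibreDimRing
import Groth.Agent.Lib.Helper62.DimLoc8

/-!
# Fibre local rings `S_q/pS_q` (helper67)

Comparison of `EGA4.FibLocRing R S q` with the localization of the fibre ring `κ(p) ⊗ S`,
behaviour under quotients of `S`, dimension-theoretic detection of regular sequences in
Cohen–Macaulay local rings, and the ring dictionary for local fibre dimension.
-/

set_option autoImplicit false
set_option linter.style.haveILetI false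
universe u

open TensorProduct CategoryTheory AlgebraicGeometry

namespace Groth.Agent.Lib.Helper67.FibLoc


variable {R S : Type u} [CommRing R] [CommRing S] [Algebra R S]

theorem comap_includeRight_under (p : Ideal R) [p.IsPrime] (Q : Ideal (p.Fiber S)) [Q.IsPrime] :
    (Q.comap (Algebra.TensorProduct.includeRight : S →ₐ[R] p.Fiber S)).comap (algebraMap R S) = p := by
  have h1 : (Q.comap (Algebra.TensorProduct.includeRight : S →ₐ[R] p.Fiber S)).comap (algebraMap R S)
      = Q.comap (algebraMap R (p.Fiber S)) := by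
    ext r
    simp only [Ideal.mem_comap]
    rw [AlgHom.commutes]
  rw [h1]
  exact (Ideal.over_def Q p).symm

/-- The fibre local ring `S_q/pS_q` is the localization of the fibre ring `κ(p) ⊗ S` at the
corresponding prime. -/
theorem nonempty_ringEquiv (p : Ideal R) [p.IsPrime] (Q : Ideal (p.Fiber S)) [Q.IsPrime]
    (q : Ideal S) [q.IsPrime]
    (hq : Q.comap (Algebra.TensorProduct.includeRight : S →ₐ[R] p.Fiber S) = q) :
    Nonempty (Localization.AtPrime Q ≃+* EGA4.FibLocRing R S q) := by
  subst hq
  set r := Q.comap (Algebra.TensorProduct.includeRight : S →ₐ[R] p.Fiber S) with hr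
  have hrp : r.comap (algebraMap R S) = p := comap_includeRight_under p Q
  haveI : r.LiesOver p := ⟨hrp.symm⟩
  letI := Localization.AtPrime.algebraOfLiesOver p r
  have e := Ideal.Fiber.localizationAlgEquivQuotient p Q
  refine ⟨e.toRingEquiv.trans (Ideal.quotEquivOfEq ?_)⟩
  rw [hrp]



/-- the fibre local ring of `S/I` at `q'` is the quotient of the fibre local ring of `S`
at `q = q' ∩ S` by `I`. -/
theorem nonempty_ringEquiv_quotient (I : Ideal S) (q' : Ideal (S ⧸ I)) [q'.IsPrime]
    (q : Ideal S) [q.IsPrime] (hq : q'.comap (Ideal.Quotient.mk I) = q) :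
    Nonempty ((EGA4.FibLocRing R S q ⧸ I.map (algebraMap S (EGA4.FibLocRing R S q))) ≃+*
      EGA4.FibLocRing R (S ⧸ I) q') := by
  subst hq
  set q := q'.comap (Ideal.Quotient.mk I) with hq
  set Sq := Localization.AtPrime q
  set Iq := I.map (algebraMap S Sq) with hIq
  set J := (q.comap (algebraMap R S)).map (algebraMap R Sq) with hJ
  haveI : q'.LiesOver q := ⟨rfl⟩
  have hsub : Algebra.algebraMapSubmonoid (S ⧸ I) q.primeCompl = q'.primeCompl :=
    Ideal.algebraMapSubmonoid_primeCompl_of_liesOver_surjective q' q Ideal.Quotient.mk_surjective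
  haveI hloc : IsLocalization.AtPrime (Sq ⧸ Iq) q' := by
    have : IsLocalization (Algebra.algebraMapSubmonoid (S ⧸ I) q.primeCompl) (Sq ⧸ Iq) :=
      inferInstance
    rwa [hsub] at this
  let e : Localization.AtPrime q' ≃ₐ[S ⧸ I] (Sq ⧸ Iq) :=
    IsLocalization.algEquiv q'.primeCompl _ _
  have h1 : I.map (algebraMap S (EGA4.FibLocRing R S q)) = Iq.map (Ideal.Quotient.mk J) := by
    rw [hIq, Ideal.map_map]
    rfl
  refine ⟨(Ideal.quotEquivOfEq h1).trans ((DoubleQuot.quotQuotEquivComm J Iq).trans
    (Ideal.quotientEquiv _ _ e.symm.toRingEquiv ?_))⟩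
  rw [hJ, Ideal.map_map, Ideal.map_map]
  have hp : q'.comap (algebraMap R (S ⧸ I)) = q.comap (algebraMap R S) := by
    rw [hq, Ideal.comap_comap]
    rfl
  rw [hp]
  congr 1
  ext r
  simp only [RingHom.comp_apply]
  have : (Ideal.Quotient.mk Iq) (algebraMap R Sq r) =
      algebraMap (S ⧸ I) (Sq ⧸ Iq) (algebraMap R (S ⧸ I) r) := by
    rw [IsScalarTower.algebraMap_apply R S Sq]
    rfl
  rw [this]
  change algebraMap R (Localization.AtPrime q') r = e.symm _
  rw [e.symm.commutes, ← IsScalarTower.algebraMap_apply]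


open RingTheory.Sequence IsLocalRing in
/-- regular sequences in a Cohen–Macaulay local ring are detected by dimension. -/
theorem isRegular_iff_of_isCM (B : Type u) [CommRing B] [hB : LocCoh.IsCohenMacaulayLocalRing B]
    (xs : List B) (hxs : ∀ x ∈ xs, x ∈ maximalIdeal B) :
    (IsRegular B xs ↔ ringKrullDim (B ⧸ Ideal.ofList xs) + xs.length = ringKrullDim B) ∧
      ringKrullDim B ≤ ringKrullDim (B ⧸ Ideal.ofList xs) + xs.length := by
  have hsub : ∀ N : Submodule B B, N = Ideal.ofList xs →
      Module.supportDim B (B ⧸ N) = ringKrullDim (B ⧸ Ideal.ofList xs) := by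
    intro N hN
    subst hN
    exact Module.supportDim_quotient_eq_ringKrullDim _
  have hN : Ideal.ofList xs • (⊤ : Submodule B B) = Ideal.ofList xs := by
    rw [smul_eq_mul, Ideal.mul_top]
  have h1 := Groth.Agent.Lib.Helper29.CMLib.isWeaklyRegular_iff_of_isCM B xs B
    hB.supportDim_eq_depth hxs
  have h2 := Groth.Agent.Lib.Helper29.CMLib.supportDim_le_quotient_add_length B xs B hxs
  rw [hsub _ hN, Module.supportDim_self_eq_ringKrullDim] at h1 h2
  refine ⟨?_, h2⟩
  rw [← h1.1]
  constructor
  · exact fun h => h.toIsWeaklyRegular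
  · intro h
    refine ⟨h, ?_⟩
    rw [hN]
    intro htop
    have hle : Ideal.ofList xs ≤ maximalIdeal B := by
      unfold Ideal.ofList
      rw [Ideal.span_le]
      exact fun x hx => hxs x hx
    have : (⊤ : Ideal B) ≤ maximalIdeal B := by
      have h3 : (⊤ : Submodule B B) = (Ideal.ofList xs : Submodule B B) := htop
      calc (⊤ : Ideal B) = Ideal.ofList xs := h3
        _ ≤ _ := hle
    exact (IsLocalRing.maximalIdeal.isMaximal B).ne_top (top_le_iff.mp this)


theorem fibreDimAt_eq_of_comap (R S : Type u) [CommRing R] [CommRing S] [Algebra R S]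
    (q : PrimeSpectrum S) (Q : PrimeSpectrum ((q.asIdeal.under R).Fiber S))
    (hQ : Q.asIdeal.comap (Algebra.TensorProduct.includeRight.toRingHom) = q.asIdeal) :
    FlatMor.fibreDimAt (Spec.map (CommRingCat.ofHom (algebraMap R S)))
        (show ↥(Spec (CommRingCat.of S)) from q) =
      FlatMor.localDim (PrimeSpectrum ((q.asIdeal.under R).Fiber S)) Q := by
  rw [Groth.Agent.Lib.Helper73.FibreDimRing.fibreDimAt_Spec_eq]
  set p := PrimeSpectrum.comap (algebraMap R S) q with hp
  set h := PrimeSpectrum.preimageHomeomorphFiber R S p with hh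
  have hq : (h.symm (h ⟨q, rfl⟩)) = ⟨q, rfl⟩ := h.symm_apply_apply _
  have : Q = h ⟨q, rfl⟩ := by
    apply h.symm.injective
    rw [hq]
    apply Subtype.ext
    apply PrimeSpectrum.ext
    exact hQ
  rw [this]

/-- quotient by the preimage of a prime under a surjection. -/
theorem ringKrullDim_quotient_comap_of_surjective {F F' : Type*} [CommRing F] [CommRing F']
    (ψ : F →+* F') (hψ : Function.Surjective ψ) (Q' : Ideal F') :
    ringKrullDim (F ⧸ Q'.comap ψ) = ringKrullDim (F' ⧸ Q') := by
  have hs : Function.Surjective ((Ideal.Quotient.mk Q').comp ψ) :=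
    Ideal.Quotient.mk_surjective.comp hψ
  have hk : RingHom.ker ((Ideal.Quotient.mk Q').comp ψ) = Q'.comap ψ := by
    rw [← RingHom.comap_ker, Ideal.mk_ker]
  exact ringKrullDim_eq_of_ringEquiv ((Ideal.quotEquivOfEq hk.symm).trans
    (RingHom.quotientKerEquivOfSurjective hs))

/-- local dimension of an equidimensional finite type algebra over a field. -/
theorem localDim_eq_of_equidim (k F : Type u) [Field k] [CommRing F] [Algebra k F]
    [Algebra.FiniteType k F] (d : ℕ)
    (heq : ∀ P ∈ minimalPrimes F, ringKrullDim (F ⧸ P) = (d : WithBot ℕ∞))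
    (Q : Ideal F) [hQ : Q.IsPrime] :
    ringKrullDim (Localization.AtPrime Q) + ringKrullDim (F ⧸ Q) = (d : WithBot ℕ∞) := by
  rw [← Groth.Agent.Lib.Helper62.DimLoc.localDim_eq_ringKrullDim_add k F Q,
    Groth.Agent.Lib.Helper62.DimLoc.localDim_eq_compDim k F]
  apply le_antisymm
  · rw [Groth.Agent.Lib.Helper62.DimLoc.compDim_le_iff]
    intro P hP _
    exact (heq P hP).le
  · obtain ⟨P, hP, hPQ⟩ := Groth.Agent.Lib.Helper62.DimLoc.exists_minimalPrimes_le Q
    rw [← heq P hP]
    exact Groth.Agent.Lib.Helper62.DimLoc.le_compDim hP hPQ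

end Groth.Agent.Lib.Helper67.FibLoc
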