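import Mathlib
import Groth.Agent.S9501

/-!
# The local ring of the fibre through a point

For `f : X ⟶ S` and `x : X`, the local ring of the fibre `f ⁻¹ (f x)` at (the point corresponding to) `x`
is `O_{X,x} / m_{f x} O_{X,x}`.  This repackages `Groth.Agent.S9501.result` at the point `x` itself
(rather than at a point of the fibre).
-/

set_option autoImplicit false
universe u

open CategoryTheory CategoryTheory.Limits AlgebraicGeometry

namespace Groth.Agent.Lib.Helper67.FibreStalk

/-- The ideal `m_{f x} O_{X,x}` of the local ring at `x`. -/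
noncomputable abbrev fibreIdeal {X S : Scheme.{u}} (f : X ⟶ S) (x : X) : Ideal (X.presheaf.stalk x) :=
  Ideal.map (f.stalkMap x).hom (IsLocalRing.maximalIdeal (S.presheaf.stalk (f x)))

/-- There is a surjection from `O_{X,x}` onto the local ring of the fibre through `x`, with kernel
`m_{f x} O_{X,x}`. -/
theorem exists_surjective {X S : Scheme.{u}} (f : X ⟶ S) (x : X) :
    ∃ τ : X.presheaf.stalk x →+* (f.fiber (f x)).presheaf.stalk (f.asFiber x),
      Function.Surjective τ ∧ RingHom.ker τ = fibreIdeal f x := by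
  have hw : f.fiberι _ (f.asFiber x) = x := f.fiberι_asFiber x
  obtain ⟨h1, h2⟩ := Groth.Agent.S9501.result f (f x) (f.asFiber x)
  have key : ∀ (w : X) (_ : w = x) (τ : X.presheaf.stalk w →+* (f.fiber (f x)).presheaf.stalk (f.asFiber x)),
      Function.Surjective τ → RingHom.ker τ = fibreIdeal f w →
      ∃ τ : X.presheaf.stalk x →+* (f.fiber (f x)).presheaf.stalk (f.asFiber x),
        Function.Surjective τ ∧ RingHom.ker τ = fibreIdeal f x := by
    intro w hw τ h1 h2
    subst hw
    exact ⟨τ, h1, h2⟩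
  exact key _ hw _ h1 h2

lemma fibreIdeal_le {X S : Scheme.{u}} (f : X ⟶ S) (x : X) :
    fibreIdeal f x ≤ IsLocalRing.maximalIdeal (X.presheaf.stalk x) :=
  IsLocalRing.map_maximalIdeal_le (f.stalkMap x).hom

lemma fibreIdeal_ne_top {X S : Scheme.{u}} (f : X ⟶ S) (x : X) : fibreIdeal f x ≠ ⊤ := fun h =>
  (IsLocalRing.maximalIdeal.isMaximal _).ne_top (top_le_iff.mp (h ▸ fibreIdeal_le f x))

instance {X S : Scheme.{u}} (f : X ⟶ S) (x : X) : Nontrivial (X.presheaf.stalk x ⧸ fibreIdeal f x) :=
  Ideal.Quotient.nontrivial_iff.mpr (fibreIdeal_ne_top f x)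

instance {X S : Scheme.{u}} (f : X ⟶ S) (x : X) : IsLocalRing (X.presheaf.stalk x ⧸ fibreIdeal f x) :=
  IsLocalRing.of_surjective' (Ideal.Quotient.mk _) Ideal.Quotient.mk_surjective

/-- The local ring of the fibre through `x` is `O_{X,x} / m_{f x} O_{X,x}`. -/
theorem nonempty_ringEquiv {X S : Scheme.{u}} (f : X ⟶ S) (x : X) :
    Nonempty ((X.presheaf.stalk x ⧸ fibreIdeal f x) ≃+*
      (f.fiber (f x)).presheaf.stalk (f.asFiber x)) := by
  obtain ⟨τ, h1, h2⟩ := exists_surjective f x
  exact ⟨(Ideal.quotEquivOfEq h2.symm).trans (RingHom.quotientKerEquivOfSurjective h1)⟩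

end Groth.Agent.Lib.Helper67.FibreStalk
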