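import Mathlib
import Groth.Prelude.Def_CInt

/-!
# Schematically dense opens (helper67)

* `injective_of_isSchematicallyDense`: restriction `Γ(V) → Γ(V')` is injective whenever
  `V ⊓ U ≤ V' ≤ V` and `U` is schematically dense.
* `ker_ι_eq_bot_of_isSchematicallyDense`: `U.ι.ker = ⊥`.
* `isIso_of_isClosedImmersion_of_ker_eq_bot`.
* `ext_of_ker_eq_bot_of_isSeparated`: two morphisms to a separated `Y/Z` that agree after
  precomposition with a morphism with trivial kernel are equal.
-/

set_option autoImplicit false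
universe u
open AlgebraicGeometry CategoryTheory Limits

namespace Groth.Agent.Lib.Helper67.SchDense

lemma injective_of_isSchematicallyDense {X : Scheme.{u}} {U : X.Opens}
    (hU : CInt.IsSchematicallyDense U) {V V' : X.Opens} (h : V' ≤ V) (h' : V ⊓ U ≤ V') :
    Function.Injective (X.presheaf.map (homOfLE h).op) := by
  have h1 : X.presheaf.map (homOfLE (inf_le_left : V ⊓ U ≤ V)).op =
      X.presheaf.map (homOfLE h).op ≫ X.presheaf.map (homOfLE h').op := by
    rw [← Functor.map_comp, ← op_comp, homOfLE_comp]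
  have h2 := hU V
  rw [h1] at h2
  exact Function.Injective.of_comp (f := (X.presheaf.map (homOfLE h').op)) (by
    simpa using h2)

lemma ker_ι_eq_bot_of_isSchematicallyDense {X : Scheme.{u}} {U : X.Opens}
    (hU : CInt.IsSchematicallyDense U) : U.ι.ker = ⊥ := by
  rw [← le_bot_iff]
  intro V s hs
  have h1 := U.ι.ideal_ker_le V hs
  rw [RingHom.mem_ker] at h1
  have hinj : Function.Injective (U.ι.app V.1) := by
    rw [Scheme.Opens.ι_app]
    refine injective_of_isSchematicallyDense hU _ ?_
    rintro x ⟨hxV, hxU⟩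
    exact ⟨⟨x, hxU⟩, hxV, rfl⟩
  have : s = 0 := hinj (by rw [map_zero]; exact h1)
  rw [this]
  exact Ideal.zero_mem _

lemma isIso_of_isClosedImmersion_of_ker_eq_bot {X Y : Scheme.{u}} (f : X ⟶ Y)
    [IsClosedImmersion f] (h : f.ker = ⊥) : IsIso f := by
  rw [← f.toImage_imageι]
  haveI : IsIso f.imageι := (Scheme.isIso_subschemeι_iff_eq_bot _).mpr h
  infer_instance

/-- Non-reduced analogue of `ext_of_isDominant_of_isSeparated`. -/
lemma ext_of_ker_eq_bot_of_isSeparated {W X Y Z : Scheme.{u}} {f g : X ⟶ Y}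
    (s : Y ⟶ Z) [IsSeparated s] (h : f ≫ s = g ≫ s)
    (ι : W ⟶ X) (hι : ι.ker = ⊥) (hU : ι ≫ f = ι ≫ g) : f = g := by
  let X' : Over Z := Over.mk (f ≫ s)
  let Y' : Over Z := Over.mk s
  let U' : Over Z := Over.mk (ι ≫ f ≫ s)
  let f' : X' ⟶ Y' := Over.homMk f
  let g' : X' ⟶ Y' := Over.homMk g
  let ι' : U' ⟶ X' := Over.homMk ι
  have : IsSeparated Y'.hom := ‹_›
  have hfac : (equalizer.lift ι' (f := f') (g := g') (by ext1; exact hU)).left ≫
      (equalizer.ι f' g').left = ι := by
    rw [← Over.comp_left, equalizer.lift_ι]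
    rfl
  have hk : (equalizer.ι f' g').left.ker = ⊥ := by
    rw [← le_bot_iff, ← hι, ← hfac]
    exact Scheme.Hom.le_ker_comp _ _
  have := isIso_of_isClosedImmersion_of_ker_eq_bot (Y := X) (equalizer.ι f' g').left hk
  rw [← cancel_epi (equalizer.ι f' g').left]
  exact congr($(equalizer.condition f' g').left)

end Groth.Agent.Lib.Helper67.SchDense
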