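import Groth.Prelude.Def_SGA1
import Groth.Agent.S2908
import Groth.Agent.S13596
import Mathlib

/-!
# Tools for quotients of schemes by finite groups (`SGA1.IsQuot`)

* `sigma`, the action of `g` on sections over `p⁻¹W`, with `sigma_one`, `sigma_mul`;
* `isIntegral_app`: sections over `p⁻¹W` are integral over sections over `W` (any open `W`);
* `exists_basicOpen_finset`: prime avoidance on an affine open;
* `isAffineOpen_of_preimage`: if `p⁻¹W` is affine then `W` is affine.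
-/

set_option autoImplicit false
open CategoryTheory CategoryTheory.Limits AlgebraicGeometry
universe u

namespace Groth.Agent.Lib.Helper67.QuotAffine

variable {X Y : Scheme.{u}} {G : Type u} [Group G]

/-- the action of `g` on sections over `p⁻¹W`. -/
noncomputable def sigma (ρ : G →* Aut X) (p : X ⟶ Y) (hinv : ∀ g : G, (ρ g).hom ≫ p = p)
    (W : Y.Opens) (g : G) : Γ(X, p ⁻¹ᵁ W) →+* Γ(X, p ⁻¹ᵁ W) :=
  ((ρ g).hom.appLE (p ⁻¹ᵁ W) (p ⁻¹ᵁ W) (SGA1.preimage_le_of_inv ρ p hinv g W)).hom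

theorem sigma_one (ρ : G →* Aut X) (p : X ⟶ Y) (hinv : ∀ g : G, (ρ g).hom ≫ p = p)
    (W : Y.Opens) : sigma ρ p hinv W 1 = RingHom.id _ := by
  have h1 : (ρ 1).hom = 𝟙 X := by rw [map_one]; rfl
  have := Groth.Agent.S13596.appLE_of_eq_id (p ⁻¹ᵁ W) (ρ 1).hom h1
    (SGA1.preimage_le_of_inv ρ p hinv 1 W)
  show (((ρ 1).hom.appLE (p ⁻¹ᵁ W) (p ⁻¹ᵁ W) _)).hom = _
  rw [this]
  rfl

theorem sigma_mul (ρ : G →* Aut X) (p : X ⟶ Y) (hinv : ∀ g : G, (ρ g).hom ≫ p = p)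
    (W : Y.Opens) (g h : G) :
    sigma ρ p hinv W (g * h) = (sigma ρ p hinv W h).comp (sigma ρ p hinv W g) := by
  have h1 : (ρ (g * h)).hom = (ρ h).hom ≫ (ρ g).hom := by rw [map_mul]; rfl
  have := Groth.Agent.S13596.appLE_of_eq_comp (p ⁻¹ᵁ W) (ρ h).hom (ρ g).hom (ρ (g * h)).hom h1
    (SGA1.preimage_le_of_inv ρ p hinv h W) (SGA1.preimage_le_of_inv ρ p hinv g W)
    (SGA1.preimage_le_of_inv ρ p hinv (g * h) W)
  show (((ρ (g * h)).hom.appLE (p ⁻¹ᵁ W) (p ⁻¹ᵁ W) _)).hom = _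
  rw [this]
  rfl

theorem sigma_mul_apply (ρ : G →* Aut X) (p : X ⟶ Y) (hinv : ∀ g : G, (ρ g).hom ≫ p = p)
    (W : Y.Opens) (g h : G) (a : Γ(X, p ⁻¹ᵁ W)) :
    sigma ρ p hinv W (g * h) a = sigma ρ p hinv W h (sigma ρ p hinv W g a) := by
  rw [sigma_mul]; rfl

theorem mem_range_iff (ρ : G →* Aut X) (p : X ⟶ Y) (hp : SGA1.IsQuot ρ p) (W : Y.Opens)
    (s : Γ(X, p ⁻¹ᵁ W)) :
    s ∈ Set.range (p.app W).hom ↔ ∀ g : G, sigma ρ p hp.inv W g s = s :=
  hp.range_iff W s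

theorem basicOpen_sigma (ρ : G →* Aut X) (p : X ⟶ Y) (hinv : ∀ g : G, (ρ g).hom ≫ p = p)
    (W : Y.Opens) (g : G) (a : Γ(X, p ⁻¹ᵁ W)) :
    X.basicOpen (sigma ρ p hinv W g a) = p ⁻¹ᵁ W ⊓ (ρ g).hom ⁻¹ᵁ (X.basicOpen a) :=
  Scheme.basicOpen_appLE _ _ _ _ _

/-- the product over the group of the translates is invariant, hence comes from below. -/
theorem prod_sigma_mem_range [Fintype G] (ρ : G →* Aut X) (p : X ⟶ Y) (hp : SGA1.IsQuot ρ p)
    (W : Y.Opens) (a : Γ(X, p ⁻¹ᵁ W)) :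
    (∏ g : G, sigma ρ p hp.inv W g a) ∈ Set.range (p.app W).hom := by
  rw [mem_range_iff ρ p hp]
  intro h
  rw [map_prod]
  refine Fintype.prod_equiv (Equiv.mulRight h) _ _ (fun g => ?_)
  rw [Equiv.coe_mulRight, sigma_mul_apply]

/-- Sections over `p⁻¹W` are integral over sections over `W`, for every open `W`. -/
theorem isIntegral_app [Finite G] (ρ : G →* Aut X) (p : X ⟶ Y) (hp : SGA1.IsQuot ρ p)
    (W : Y.Opens) : (p.app W).hom.IsIntegral := by
  let φ : G →* (Γ(X, p ⁻¹ᵁ W) →+* Γ(X, p ⁻¹ᵁ W)) :=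
    { toFun := fun g => sigma ρ p hp.inv W g⁻¹
      map_one' := by rw [inv_one, sigma_one]; rfl
      map_mul' := fun g h => by rw [mul_inv_rev, sigma_mul]; rfl }
  let _ : MulSemiringAction G Γ(X, p ⁻¹ᵁ W) := MulSemiringAction.compHom _ φ
  let _ : Algebra Γ(Y, W) Γ(X, p ⁻¹ᵁ W) := (p.app W).hom.toAlgebra
  have hinv : Algebra.IsInvariant Γ(Y, W) Γ(X, p ⁻¹ᵁ W) G := by
    refine ⟨fun b hb => ?_⟩
    have hb' : b ∈ Set.range (p.app W).hom := by
      rw [mem_range_iff ρ p hp]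
      intro g
      have := hb g⁻¹
      have e : g⁻¹ • b = sigma ρ p hp.inv W g b := by
        show φ g⁻¹ b = _
        show sigma ρ p hp.inv W g⁻¹⁻¹ b = _
        rw [inv_inv]
      rw [e] at this
      exact this
    exact hb'
  have hint := Algebra.IsInvariant.isIntegral Γ(Y, W) Γ(X, p ⁻¹ᵁ W) G
  exact algebraMap_isIntegral_iff.2 hint

/-- Prime avoidance on an affine open: a function on `U` whose non-vanishing locus lies in `V`
and contains a given finite set of points of `U ∩ V`. -/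
theorem exists_basicOpen_finset {U : X.Opens} (hU : IsAffineOpen U) (V : X.Opens)
    (F : Finset U) (hF : ∀ x ∈ F, x.1 ∈ V) :
    ∃ a : Γ(X, U), X.basicOpen a ≤ V ∧ ∀ x ∈ F, x.1 ∈ X.basicOpen a := by
  classical
  -- the ideal of functions whose basic open lies in `V`
  let I : Ideal Γ(X, U) :=
    { carrier := {a | X.basicOpen a ≤ V}
      add_mem' := fun {a b} ha hb => (X.basicOpen_add_le a b).trans (sup_le ha hb)
      zero_mem' := by
        show X.basicOpen (0 : Γ(X, U)) ≤ V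
        rw [Scheme.basicOpen_zero]; exact bot_le
      smul_mem' := fun c a ha => by
        show X.basicOpen (c * a) ≤ V
        rw [Scheme.basicOpen_mul]; exact inf_le_right.trans ha }
  have hmem : ∀ (x : U) (a : Γ(X, U)),
      a ∈ (hU.primeIdealOf x).asIdeal ↔ x.1 ∉ X.basicOpen a := by
    intro x a
    have h1 : x.1 ∈ X.basicOpen a ↔ hU.primeIdealOf x ∈ PrimeSpectrum.basicOpen a := by
      rw [← hU.fromSpec_preimage_basicOpen]
      show _ ↔ hU.fromSpec.base (hU.primeIdealOf x) ∈ X.basicOpen a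
      rw [hU.fromSpec_primeIdealOf]
    rw [h1, PrimeSpectrum.mem_basicOpen, not_not]
  by_contra hcon
  push_neg at hcon
  have hsub : (I : Set Γ(X, U)) ⊆ ⋃ x ∈ (F : Set U), ((hU.primeIdealOf x).asIdeal : Set Γ(X, U)) := by
    intro a ha
    obtain ⟨x, hxF, hx⟩ := hcon a ha
    exact Set.mem_biUnion hxF ((hmem x a).2 hx)
  by_cases hFe : F = ∅
  · subst hFe
    obtain ⟨x, hx, -⟩ := hcon 0 (by show X.basicOpen (0 : Γ(X, U)) ≤ V; simp)
    exact absurd hx (Finset.notMem_empty _)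
  obtain ⟨x₀, hx₀⟩ := Finset.nonempty_iff_ne_empty.2 hFe
  obtain ⟨x, hxF, hle⟩ := (Ideal.subset_union_prime (s := F)
    (f := fun x => (hU.primeIdealOf x).asIdeal) x₀ x₀
    (fun x _ _ _ => (hU.primeIdealOf x).isPrime)).1 hsub
  obtain ⟨a, haV, hax⟩ := hU.exists_basicOpen_le (V := V) ⟨x.1, hF x hxF⟩ x.2
  exact (hmem x a).1 (hle (show a ∈ I from haV)) hax

theorem mem_basicOpen_prod {U : X.Opens} {ι : Type*} (s : Finset ι) (f : ι → Γ(X, U)) (x : X)
    (hx : x ∈ U) :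
    x ∈ X.basicOpen (∏ i ∈ s, f i) ↔ ∀ i ∈ s, x ∈ X.basicOpen (f i) := by
  classical
  induction s using Finset.induction_on with
  | empty =>
    rw [Finset.prod_empty, Scheme.basicOpen_of_isUnit _ isUnit_one]
    simp [hx]
  | insert a s ha ih =>
    rw [Finset.prod_insert ha, Scheme.basicOpen_mul, Finset.forall_mem_insert, ← ih]
    rfl

/-- If `p : X ⟶ Y` is a quotient by a finite group and `p⁻¹W` is affine, then `W` is affine. -/
theorem isAffineOpen_of_preimage [Finite G] (ρ : G →* Aut X) (p : X ⟶ Y) (hp : SGA1.IsQuot ρ p)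
    (W : Y.Opens) (hW : IsAffineOpen (p ⁻¹ᵁ W)) : IsAffineOpen W := by
  classical
  cases nonempty_fintype G
  obtain ⟨hsurj, hfib, -⟩ := Groth.Agent.S2908.result ρ p hp
  -- Step 1: affine basic opens cover `W`
  have step1 : ∀ y ∈ W, ∃ b : Γ(Y, W), y ∈ Y.basicOpen b ∧ IsAffineOpen (Y.basicOpen b) := by
    intro y hy
    obtain ⟨_, ⟨V, hV : IsAffineOpen V, rfl⟩, hyV, hVW⟩ :=
      Y.isBasis_affineOpens.exists_subset_of_mem_open hy W.isOpen
    obtain ⟨x₀, rfl⟩ := hsurj y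
    have hpg : ∀ g : G, p.base ((ρ g).hom.base x₀) = p.base x₀ := fun g => by
      rw [← Scheme.Hom.comp_apply, hp.inv]
    have hx₀ : ∀ g : G, (ρ g).hom.base x₀ ∈ p ⁻¹ᵁ W := fun g => by
      show p.base ((ρ g).hom.base x₀) ∈ W
      rw [hpg]; exact hy
    let F : Finset (p ⁻¹ᵁ W) := Finset.univ.image (fun g : G => ⟨(ρ g).hom.base x₀, hx₀ g⟩)
    obtain ⟨a, haV, haF⟩ := exists_basicOpen_finset hW (p ⁻¹ᵁ V) F (by
      intro x hx
      obtain ⟨g, -, rfl⟩ := Finset.mem_image.1 hx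
      show p.base ((ρ g).hom.base x₀) ∈ V
      rw [hpg]; exact hyV)
    obtain ⟨b, hb⟩ := prod_sigma_mem_range ρ p hp W a
    have hpre : p ⁻¹ᵁ (Y.basicOpen b) = X.basicOpen (∏ g : G, sigma ρ p hp.inv W g a) := by
      rw [Scheme.preimage_basicOpen, ← hb]
    have hx₀1 : x₀ ∈ p ⁻¹ᵁ W := by
      have := hx₀ 1
      rwa [map_one] at this
    have hx₀mem : x₀ ∈ X.basicOpen (∏ g : G, sigma ρ p hp.inv W g a) := by
      rw [mem_basicOpen_prod _ _ _ hx₀1]
      intro g _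
      rw [basicOpen_sigma]
      refine ⟨hx₀1, ?_⟩
      exact haF ⟨(ρ g).hom.base x₀, hx₀ g⟩ (Finset.mem_image.2 ⟨g, Finset.mem_univ _, rfl⟩)
    have hle : X.basicOpen (∏ g : G, sigma ρ p hp.inv W g a) ≤ p ⁻¹ᵁ V := by
      intro x hx
      have hxW : x ∈ p ⁻¹ᵁ W := Scheme.basicOpen_le _ _ hx
      have := (mem_basicOpen_prod _ _ _ hxW).1 hx 1 (Finset.mem_univ _)
      rw [sigma_one] at this
      exact haV this
    have hbV : Y.basicOpen b ≤ V := by
      intro y' hy'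
      obtain ⟨x', rfl⟩ := hsurj y'
      have : x' ∈ p ⁻¹ᵁ (Y.basicOpen b) := hy'
      rw [hpre] at this
      exact hle this
    refine ⟨b, ?_, ?_⟩
    · have : x₀ ∈ p ⁻¹ᵁ (Y.basicOpen b) := by rw [hpre]; exact hx₀mem
      exact this
    · have e : Y.basicOpen (Y.presheaf.map (homOfLE hVW).op b) = Y.basicOpen b := by
        rw [Scheme.basicOpen_res]
        exact inf_eq_right.2 hbV
      rw [← e]
      exact hV.basicOpen _
  -- Step 2: they generate the unit ideal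
  apply isAffineOpen_of_isAffineOpen_basicOpen W {b : Γ(Y, W) | IsAffineOpen (Y.basicOpen b)}
  · by_contra hne
    obtain ⟨m, hm, hle⟩ := Ideal.exists_le_maximal _ hne
    let _ : Algebra Γ(Y, W) Γ(X, p ⁻¹ᵁ W) := (p.app W).hom.toAlgebra
    have hint : Algebra.IsIntegral Γ(Y, W) Γ(X, p ⁻¹ᵁ W) :=
      algebraMap_isIntegral_iff.1 (isIntegral_app ρ p hp W)
    have hker : RingHom.ker (algebraMap Γ(Y, W) Γ(X, p ⁻¹ᵁ W)) ≤ m := by
      have : RingHom.ker (algebraMap Γ(Y, W) Γ(X, p ⁻¹ᵁ W)) = ⊥ :=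
        (RingHom.injective_iff_ker_eq_bot _).1 (hp.injective W)
      rw [this]
      exact bot_le
    obtain ⟨Q, hQmax, hQ⟩ := Ideal.exists_ideal_over_maximal_of_isIntegral m hker
    let P : PrimeSpectrum Γ(X, p ⁻¹ᵁ W) := ⟨Q, hQmax.isPrime⟩
    let x : X := hW.fromSpec.base P
    have hxW : x ∈ p ⁻¹ᵁ W := by
      have := hW.opensRange_fromSpec
      rw [← this]
      exact ⟨P, rfl⟩
    obtain ⟨b, hyb, hbaff⟩ := step1 (p.base x) hxW
    have hbm : b ∈ m := hle (Ideal.subset_span hbaff)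
    have hbQ : (p.app W).hom b ∈ Q := by
      rw [← hQ] at hbm
      exact hbm
    have hxb : x ∈ X.basicOpen ((p.app W).hom b) := by
      have : x ∈ p ⁻¹ᵁ (Y.basicOpen b) := hyb
      rw [Scheme.preimage_basicOpen] at this
      exact this
    have : P ∈ hW.fromSpec ⁻¹ᵁ X.basicOpen ((p.app W).hom b) := hxb
    rw [hW.fromSpec_preimage_basicOpen] at this
    exact (PrimeSpectrum.mem_basicOpen _ _).1 this hbQ
  · intro b hb
    exact hb

end Groth.Agent.Lib.Helper67.QuotAffine
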