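import Mathlib

set_option autoImplicit false
universe u
open CategoryTheory CategoryTheory.Limits AlgebraicGeometry Opposite

namespace Groth.Agent.Lib.Helper67.AffLim

variable {I : Type u} [SmallCategory I] (D : I ⥤ Scheme.{u})

/-- the cone over `D ⋙ yoneda` with apex `D.cones`. -/
def conesCone : Cone (D ⋙ yoneda) where
  pt := D.cones
  π :=
    { app := fun i => { app := fun T => ↾(fun (t : (Functor.const I).obj T.unop ⟶ D) => t.app i)
                        naturality := by intros; rfl }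
      naturality := by
        intro i j φ
        ext T (t : (Functor.const I).obj T.unop ⟶ D)
        have := t.naturality φ
        simp at this
        simp [this] }

lemma conesCone_π_app_app (i : I) (T : Scheme.{u}ᵒᵖ) (t : (Functor.const I).obj T.unop ⟶ D) :
    ((conesCone D).π.app i).app T t = t.app i := rfl

/-- `D.cones` is the limit of the representables. -/
noncomputable def isLimitConesCone : IsLimit (conesCone D) := by
  refine evaluationJointlyReflectsLimits _ fun T => ?_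
  refine ((Types.isLimit_iff _).2 ?_).some
  intro s hs
  refine ⟨(⟨fun i => s i, ?_⟩ : (Functor.const I).obj T.unop ⟶ D), ?_, ?_⟩
  · intro i j φ
    have := hs φ
    simp at this ⊢
    exact this.symm
  · intro j
    rfl
  · intro (y : (Functor.const I).obj T.unop ⟶ D) hy
    apply NatTrans.ext
    funext j
    exact hy j

end Groth.Agent.Lib.Helper67.AffLim

namespace Groth.Agent.Lib.Helper67.AffLim

variable {I : Type u} [SmallCategory I] (D : I ⥤ Scheme.{u})

lemma isSheaf_cones : Presheaf.IsSheaf Scheme.zariskiTopology.{u} D.cones :=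
  Sheaf.isSheaf_of_isLimit (D ⋙ Scheme.zariskiTopology.yoneda) (conesCone D) (isLimitConesCone D)

/-- `D.cones` as a Zariski sheaf. -/
def conesSheaf : Sheaf Scheme.zariskiTopology.{u} (Type u) := ⟨D.cones, isSheaf_cones D⟩

end Groth.Agent.Lib.Helper67.AffLim

namespace Groth.Agent.Lib.Helper67.AffLim

/-- A (small) diagram of affine schemes has a limit in `Scheme`. -/
lemma hasLimit_of_isAffine {J : Type u} [SmallCategory J] (E : J ⥤ Scheme.{u})
    [∀ j, IsAffine (E.obj j)] : HasLimit E := by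
  let α : E ⟶ (E ⋙ Scheme.Γ.rightOp) ⋙ Scheme.Spec := E.whiskerLeft ΓSpec.adjunction.unit
  have (i : _) : IsIso (α.app i) := IsAffine.affine
  have : IsIso α := NatIso.isIso_of_isIso_app α
  exact hasLimit_of_iso (asIso α).symm

end Groth.Agent.Lib.Helper67.AffLim

namespace Groth.Agent.Lib.Helper67.AffLim

variable {I : Type u} [SmallCategory I] (D : I ⥤ Scheme.{u}) [IsCofiltered I]
  (i₀ : I) (U : (D.obj i₀).Opens) [HasLimit (opensDiagram D i₀ U)]

/-- The cone over `D` with apex `lim_j D_j|_U`. -/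
noncomputable def coneU : Cone D :=
  Functor.Initial.extendCone.obj
    ((Cones.postcompose (opensDiagramι D i₀ U)).obj (limit.cone (opensDiagram D i₀ U)))

lemma coneU_π (j : Over i₀) {i : I} (φ : j.left ⟶ i) :
    (coneU D i₀ U).π.app i =
      limit.π (opensDiagram D i₀ U) j ≫ (D.map j.hom ⁻¹ᵁ U).ι ≫ D.map φ := by
  unfold coneU
  rw [Functor.Initial.extendCone_obj_π_app' _ (X := j) (show (Over.forget i₀).obj j ⟶ i from φ)]
  rfl

/-- The comparison map `t_{i₀}⁻¹ U ⟶ lim_j D_j|_U` of a cone `t`. -/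
noncomputable def liftU (t : Cone D) : (t.π.app i₀ ⁻¹ᵁ U : Scheme.{u}) ⟶ limit (opensDiagram D i₀ U) :=
  limit.lift _ (opensCone D t i₀ U)

lemma liftU_π (t : Cone D) (j : Over i₀) :
    liftU D i₀ U t ≫ limit.π (opensDiagram D i₀ U) j ≫ (D.map j.hom ⁻¹ᵁ U).ι =
      (t.π.app i₀ ⁻¹ᵁ U).ι ≫ t.π.app j.left := by
  have h : liftU D i₀ U t ≫ limit.π (opensDiagram D i₀ U) j = (opensCone D t i₀ U).π.app j :=
    limit.lift_π (opensCone D t i₀ U) j
  rw [reassoc_of% h]
  simp only [opensCone_π_app]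
  exact Scheme.Hom.resLE_comp_ι _ _

lemma liftU_coneU (t : Cone D) (i : I) :
    liftU D i₀ U t ≫ (coneU D i₀ U).π.app i = (t.π.app i₀ ⁻¹ᵁ U).ι ≫ t.π.app i := by
  rw [coneU_π D i₀ U (Over.mk (IsCofiltered.minToLeft i₀ i)) (IsCofiltered.minToRight i₀ i)]
  rw [reassoc_of% liftU_π]
  simp

lemma hom_ext_limU {W : Scheme.{u}} (a b : W ⟶ limit (opensDiagram D i₀ U))
    (h : ∀ j : Over i₀, a ≫ limit.π (opensDiagram D i₀ U) j ≫ (D.map j.hom ⁻¹ᵁ U).ι =
      b ≫ limit.π (opensDiagram D i₀ U) j ≫ (D.map j.hom ⁻¹ᵁ U).ι) : a = b := by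
  refine limit.hom_ext fun j => ?_
  exact (cancel_mono (f := (D.map j.hom ⁻¹ᵁ U).ι) (g := a ≫ limit.π _ j)
    (h := b ≫ limit.π _ j)).mp
      ((Category.assoc _ _ _).trans ((h j).trans (Category.assoc _ _ _).symm))

/-- the morphism of presheaves attached to a cone. -/
noncomputable def coneHom (t : Cone D) : yoneda.obj t.pt ⟶ D.cones := yonedaEquiv.symm t.π

lemma coneHom_app (t : Cone D) (W : Scheme.{u}ᵒᵖ) (a : W.unop ⟶ t.pt) (i : I) :
    (((coneHom D t).app W a : (Functor.const I).obj W.unop ⟶ D)).app i = a ≫ t.π.app i := by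
  rfl

lemma coneHom_surj {T : Scheme.{u}} (g : yoneda.obj T ⟶ D.cones) :
    ∃ t : Cone D, ∃ h : t.pt = T, g = eqToHom (by rw [h]) ≫ coneHom D t := by
  refine ⟨⟨T, yonedaEquiv g⟩, rfl, ?_⟩
  simp [coneHom]

lemma isPullback_coneU (t : Cone D) :
    IsPullback (yoneda.map (liftU D i₀ U t)) (yoneda.map (t.π.app i₀ ⁻¹ᵁ U).ι)
      (coneHom D (coneU D i₀ U)) (coneHom D t) := by
  refine IsPullback.of_forall_isPullback_app fun W => ?_
  rw [Types.isPullback_iff]
  refine ⟨?_, ?_, ?_⟩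
  · ext (a : W.unop ⟶ (t.π.app i₀ ⁻¹ᵁ U : Scheme.{u}))
    apply NatTrans.ext
    funext i
    show (a ≫ liftU D i₀ U t) ≫ (coneU D i₀ U).π.app i = (a ≫ (t.π.app i₀ ⁻¹ᵁ U).ι) ≫ t.π.app i
    rw [Category.assoc, Category.assoc, liftU_coneU]
  · rintro (a₁ : W.unop ⟶ (t.π.app i₀ ⁻¹ᵁ U : Scheme.{u})) (a₂ : W.unop ⟶ _) ⟨-, h2⟩
    have h2' : a₁ ≫ (t.π.app i₀ ⁻¹ᵁ U).ι = a₂ ≫ (t.π.app i₀ ⁻¹ᵁ U).ι := h2
    exact (cancel_mono _).mp h2'
  · rintro (x₂ : W.unop ⟶ limit (opensDiagram D i₀ U)) (x₃ : W.unop ⟶ t.pt) h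
    have h' : ∀ i, x₂ ≫ (coneU D i₀ U).π.app i = x₃ ≫ t.π.app i := fun i =>
      congr($(h).app i)
    have hrange : Set.range x₃ ⊆ Set.range (t.π.app i₀ ⁻¹ᵁ U).ι := by
      rintro _ ⟨w, rfl⟩
      rw [Scheme.Opens.range_ι]
      show t.π.app i₀ (x₃ w) ∈ U
      rw [← Scheme.Hom.comp_apply, ← h' i₀,
        coneU_π D i₀ U (Over.mk (𝟙 i₀)) (𝟙 i₀)]
      simp only [Scheme.Hom.comp_apply]
      have y : ↥(D.map (Over.mk (𝟙 i₀)).hom ⁻¹ᵁ U) :=
        limit.π (opensDiagram D i₀ U) (Over.mk (𝟙 i₀)) (x₂ w)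
      exact (limit.π (opensDiagram D i₀ U) (Over.mk (𝟙 i₀)) (x₂ w) :
        ↥(D.map (Over.mk (𝟙 i₀)).hom ⁻¹ᵁ U)).2
    refine ⟨IsOpenImmersion.lift (t.π.app i₀ ⁻¹ᵁ U).ι x₃ hrange, ?_, ?_⟩
    · show IsOpenImmersion.lift (t.π.app i₀ ⁻¹ᵁ U).ι x₃ hrange ≫ liftU D i₀ U t = x₂
      refine hom_ext_limU D i₀ U _ _ fun j => ?_
      rw [Category.assoc, liftU_π,
        IsOpenImmersion.lift_fac_assoc, ← h' j.left, coneU_π D i₀ U j (𝟙 j.left)]
      simp
    · show IsOpenImmersion.lift (t.π.app i₀ ⁻¹ᵁ U).ι x₃ hrange ≫ (t.π.app i₀ ⁻¹ᵁ U).ι = x₃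
      exact IsOpenImmersion.lift_fac _ _ _

end Groth.Agent.Lib.Helper67.AffLim


namespace Groth.Agent.Lib.Helper67.AffLim

variable {I : Type u} [SmallCategory I] (D : I ⥤ Scheme.{u}) [IsCofiltered I]

/-- **Existence of cofiltered limits of schemes with affine transition maps.** -/
theorem hasLimit_of_isAffineHom [∀ {i j} (f : i ⟶ j), IsAffineHom (D.map f)] : HasLimit D := by
  obtain ⟨i₀⟩ := IsCofiltered.nonempty (C := I)
  have hlim : ∀ U : (D.obj i₀).affineOpens, HasLimit (opensDiagram D i₀ U.1) := fun U => by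
    haveI : ∀ j, IsAffine ((opensDiagram D i₀ U.1).obj j) := fun j => U.2.preimage (D.map j.hom)
    exact hasLimit_of_isAffine _
  let X : (D.obj i₀).affineOpens → Scheme.{u} := fun U =>
    haveI := hlim U
    limit (opensDiagram D i₀ U.1)
  let f : (U : (D.obj i₀).affineOpens) → (yoneda.obj (X U) ⟶ (conesSheaf D).1) := fun U =>
    haveI := hlim U
    coneHom D (coneU D i₀ U.1)
  have hf : ∀ U, IsOpenImmersion.presheaf (f U) := by
    intro U
    haveI := hlim U
    refine MorphismProperty.relative.of_exists fun T g => ?_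
    have hg : g = coneHom D ⟨T, yonedaEquiv g⟩ := (Equiv.symm_apply_apply _ _).symm
    refine ⟨((Cone.mk T (yonedaEquiv g)).π.app i₀ ⁻¹ᵁ U.1 : Scheme.{u}),
      yoneda.map (liftU D i₀ U.1 ⟨T, yonedaEquiv g⟩),
      ((Cone.mk T (yonedaEquiv g)).π.app i₀ ⁻¹ᵁ U.1).ι, ?_, inferInstance⟩
    rw [hg]
    exact isPullback_coneU D i₀ U.1 ⟨T, yonedaEquiv g⟩
  haveI : Presheaf.IsLocallySurjective Scheme.zariskiTopology (Sigma.desc f) := by
    constructor
    intro T (s : (Functor.const I).obj T ⟶ D)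
    have hcov : TopologicalSpace.IsOpenCover (fun U : (D.obj i₀).affineOpens =>
        (Cone.mk T s).π.app i₀ ⁻¹ᵁ U.1) := by
      apply TopologicalSpace.IsOpenCover.mk
      rw [eq_top_iff]
      intro x _
      obtain ⟨_, ⟨W, hW, rfl⟩, hxW, -⟩ := (D.obj i₀).isBasis_affineOpens.exists_subset_of_mem_open
        (Set.mem_univ (s.app i₀ x)) isOpen_univ
      exact TopologicalSpace.Opens.mem_iSup.mpr ⟨⟨W, hW⟩, hxW⟩
    refine GrothendieckTopology.superset_covering _ ?_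
      (T.openCoverOfIsOpenCover _ hcov).mem_grothendieckTopology
    rintro V _ ⟨W, a, _, ⟨U⟩, rfl⟩
    apply Sieve.downward_closed
    haveI := hlim U
    refine ⟨(Sigma.ι (fun U => yoneda.obj (X U)) U).app _ (liftU D i₀ U.1 ⟨T, s⟩), ?_⟩
    have h1 : (Sigma.desc f).app _ ((Sigma.ι (fun U => yoneda.obj (X U)) U).app _
        (liftU D i₀ U.1 ⟨T, s⟩)) = (f U).app _ (liftU D i₀ U.1 ⟨T, s⟩) := by
      rw [← Sigma.ι_desc f U]
      rfl
    refine h1.trans ?_
    apply NatTrans.ext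
    funext i
    exact liftU_coneU D i₀ U.1 ⟨T, s⟩ i
  have hrep : D.cones.IsRepresentable := Scheme.LocalRepresentability.isRepresentable hf
  obtain ⟨Y, ⟨h⟩⟩ := hrep.has_representation
  exact ⟨⟨⟨_, IsLimit.ofRepresentableBy h⟩⟩⟩

end Groth.Agent.Lib.Helper67.AffLim
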