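import Mathlib

set_option autoImplicit false
set_option linter.style.haveILetI false

namespace Groth.Agent.Lib.Helper67.ArtinSub

open IsLocalRing

variable {D : Type*} [CommRing D] [IsLocalRing D] [IsArtinianRing D]

theorem exists_pow_maximalIdeal_eq_bot : ∃ N : ℕ, maximalIdeal D ^ N = ⊥ := by
  have h := IsArtinianRing.isNilpotent_jacobson_bot (R := D)
  rw [IsLocalRing.jacobson_eq_maximalIdeal ⊥ bot_ne_top] at h
  obtain ⟨N, hN⟩ := h
  exact ⟨N, hN⟩

/-- nilpotent Nakayama by hand -/
theorem finite_of_span_sup (D₀ : Subring D) (hm : ∀ x ∈ maximalIdeal D, x ∈ D₀) (s : Finset D)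
    (hs : ∀ c : D, ∃ n ∈ Submodule.span D₀ (s : Set D), c - n ∈ maximalIdeal D) :
    Module.Finite D₀ D := by
  obtain ⟨N, hN⟩ := exists_pow_maximalIdeal_eq_bot (D := D)
  have key : ∀ k : ℕ, ∀ c : D, ∃ n ∈ Submodule.span D₀ (s : Set D),
      c - n ∈ maximalIdeal D ^ (k + 1) := by
    intro k
    induction k with
    | zero => intro c; simpa using hs c
    | succ k ih =>
      intro c
      obtain ⟨n, hn, hcn⟩ := ih c
      obtain ⟨n₁, hn₁, h1⟩ := hs 1
      have hmem : c - n ∈ D₀ := hm _ (Ideal.pow_le_self (by omega) hcn)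
      refine ⟨n + (⟨c - n, hmem⟩ : D₀) • n₁, Submodule.add_mem _ hn
        (Submodule.smul_mem _ _ hn₁), ?_⟩
      have : c - (n + (⟨c - n, hmem⟩ : D₀) • n₁) = (c - n) * (1 - n₁) := by
        change c - (n + (c - n) * n₁) = _
        ring
      rw [this, pow_succ]
      exact Ideal.mul_mem_mul hcn h1
  refine ⟨⟨s, ?_⟩⟩
  rw [eq_top_iff]
  intro c _
  obtain ⟨n, hn, hcn⟩ := key N c
  have : c - n ∈ maximalIdeal D ^ N := Ideal.pow_le_pow_right (by omega) hcn
  rw [hN] at this
  have : c = n := by simpa [sub_eq_zero] using this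
  rw [this]; exact hn

theorem isUnit_iff (D₀ : Subring D) [Module.Finite D₀ D] (x : D₀) :
    IsUnit x ↔ IsUnit (x : D) := by
  refine ⟨fun h => h.map D₀.subtype, fun h => ?_⟩
  by_contra hx
  obtain ⟨P, hP, hxP⟩ := exists_max_ideal_of_mem_nonunits hx
  haveI : Algebra.IsIntegral D₀ D := Algebra.IsIntegral.of_finite D₀ D
  obtain ⟨Q, hQ, hQP⟩ := Ideal.exists_ideal_over_maximal_of_isIntegral (S := D) P (by
    have : RingHom.ker (algebraMap D₀ D) = ⊥ :=
      (RingHom.injective_iff_ker_eq_bot _).mp Subtype.val_injective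
    rw [this]; exact bot_le)
  have : (x : D) ∈ Q := by
    have : x ∈ Ideal.comap (algebraMap D₀ D) Q := hQP ▸ hxP
    exact this
  exact hQ.ne_top (Ideal.eq_top_of_isUnit_mem _ this h)

theorem isLocalRing_sub (D₀ : Subring D) [Module.Finite D₀ D] : IsLocalRing D₀ := by
  refine IsLocalRing.of_nonunits_add ?_
  intro a b ha hb
  rw [mem_nonunits_iff, isUnit_iff] at ha hb ⊢
  exact (IsLocalRing.maximalIdeal D).add_mem ha hb |> fun h => h

theorem isLocalHom_subtype (D₀ : Subring D) [Module.Finite D₀ D] : IsLocalHom D₀.subtype :=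
  ⟨fun x hx => (isUnit_iff D₀ x).mpr hx⟩

theorem isArtinianRing_sub (D₀ : Subring D) (hm : ∀ x ∈ maximalIdeal D, x ∈ D₀)
    [Module.Finite D₀ D] : IsArtinianRing D₀ := by
  haveI := isLocalRing_sub D₀
  obtain ⟨N, hN⟩ := exists_pow_maximalIdeal_eq_bot (D := D)
  have hmax : ∀ x : D₀, x ∈ maximalIdeal D₀ ↔ (x : D) ∈ maximalIdeal D := by
    intro x
    rw [mem_maximalIdeal, mem_maximalIdeal, mem_nonunits_iff, mem_nonunits_iff, isUnit_iff]
  -- nilpotent
  have hnil : maximalIdeal D₀ ^ N = ⊥ := by
    rw [eq_bot_iff]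
    have : Ideal.map D₀.subtype (maximalIdeal D₀ ^ N) ≤ maximalIdeal D ^ N := by
      rw [Ideal.map_pow]
      apply Ideal.pow_right_mono
      rw [Ideal.map_le_iff_le_comap]
      intro x hx
      exact (hmax x).mp hx
    intro x hx
    have h2 : D₀.subtype x ∈ maximalIdeal D ^ N := this (Ideal.mem_map_of_mem _ hx)
    rw [hN] at h2
    have : (x : D) = 0 := by simpa using h2
    simpa using Subtype.ext this
  have hprime : ∀ P : Ideal D₀, P.IsPrime → P = maximalIdeal D₀ := by
    intro P hP
    refine le_antisymm (IsLocalRing.le_maximalIdeal hP.ne_top) ?_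
    exact hP.le_of_pow_le (n := N) (by rw [hnil]; exact bot_le)
  rw [isArtinianRing_iff_isNoetherianRing_krullDimLE_zero]
  refine ⟨IsNoetherianRing.of_prime ?_, ?_⟩
  · intro P hP
    rw [hprime P hP]
    -- maximal ideal of D is finite over D, D finite over D₀
    haveI : IsNoetherianRing D := inferInstance
    haveI : Module.Finite D (maximalIdeal D) := Module.Finite.iff_fg.mpr (IsNoetherian.noetherian _)
    haveI : Module.Finite D₀ (maximalIdeal D) := Module.Finite.trans D _
    -- linear equiv between maximalIdeal D₀ and maximalIdeal D over D₀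
    let f : (maximalIdeal D) →ₗ[D₀] (maximalIdeal D₀) :=
      { toFun := fun x => ⟨⟨x.1, hm _ x.2⟩, (hmax _).mpr x.2⟩
        map_add' := fun x y => rfl
        map_smul' := fun r x => rfl }
    have hf : Function.Surjective f := by
      intro y
      exact ⟨⟨y.1.1, (hmax _).mp y.2⟩, rfl⟩
    haveI : Module.Finite D₀ (maximalIdeal D₀) := Module.Finite.of_surjective f hf
    exact Module.Finite.iff_fg.mp inferInstance
  · rw [Ring.krullDimLE_zero_iff]
    intro P hP
    rw [hprime P hP]
    exact IsLocalRing.maximalIdeal.isMaximal D₀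


/-! ### The subring of elements whose residue class comes from `φ` -/

section Alg

variable {O : Type*} [CommRing O] [IsLocalRing O]

/-- elements of `D` whose residue class is in the image of `φ` -/
noncomputable def sub (φ : O →+* D) : Subring D :=
  Subring.comap (residue D) ((residue D).comp φ).range

theorem mem_sub_iff (φ : O →+* D) (c : D) :
    c ∈ sub φ ↔ ∃ y : O, c - φ y ∈ maximalIdeal D := by
  unfold sub
  rw [Subring.mem_comap, RingHom.mem_range]
  constructor
  · rintro ⟨y, hy⟩
    refine ⟨y, ?_⟩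
    rw [← Ideal.Quotient.eq]
    exact hy.symm
  · rintro ⟨y, hy⟩
    refine ⟨y, ?_⟩
    rw [← Ideal.Quotient.eq] at hy
    exact hy.symm

theorem maximalIdeal_le_sub (φ : O →+* D) : ∀ x ∈ maximalIdeal D, x ∈ sub φ := by
  intro x hx
  rw [mem_sub_iff]
  exact ⟨0, by simpa using hx⟩

theorem range_le_sub (φ : O →+* D) (y : O) : φ y ∈ sub φ := by
  rw [mem_sub_iff]
  exact ⟨y, by simp⟩

/-- finiteness of the residue field over the subring -/
theorem finite_residueField (φ : O →+* D) [IsLocalHom φ]
    (hfin : (ResidueField.map φ).Finite) : Module.Finite (sub φ) (ResidueField D) := by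
  letI := (ResidueField.map φ).toAlgebra
  have hfin' : Module.Finite (ResidueField O) (ResidueField D) := hfin
  obtain ⟨S, hS⟩ := hfin'.fg_top
  refine ⟨⟨S, ?_⟩⟩
  rw [eq_top_iff]
  intro z hz0
  clear hz0
  have hz : z ∈ Submodule.span (ResidueField O) (S : Set (ResidueField D)) := by
    rw [hS]; trivial
  induction hz using Submodule.span_induction with
  | mem x hx => exact Submodule.subset_span hx
  | zero => exact Submodule.zero_mem _
  | add x y _ _ hx hy => exact Submodule.add_mem _ hx hy
  | smul l x _ hx =>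
    obtain ⟨y, rfl⟩ := residue_surjective l
    have : (residue O y) • x = (⟨φ y, range_le_sub φ y⟩ : sub φ) • x := by
      change ResidueField.map φ (residue O y) * x = residue D (φ y) * x
      rfl
    rw [this]
    exact Submodule.smul_mem _ _ hx

/-- from finiteness of the residue field to the spanning condition -/
theorem exists_span_of_finite_residueField (D₀ : Subring D)
    [Module.Finite D₀ (ResidueField D)] :
    ∃ s : Finset D, ∀ c : D, ∃ n ∈ Submodule.span D₀ (s : Set D), c - n ∈ maximalIdeal D := by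
  obtain ⟨S, hS⟩ := (inferInstance : Module.Finite D₀ (ResidueField D)).fg_top
  classical
  let lift : ResidueField D → D := Function.surjInv (residue_surjective (R := D))
  have hlift : ∀ z, residue D (lift z) = z := Function.surjInv_eq _
  refine ⟨S.image lift, fun c => ?_⟩
  let r : D →ₗ[D₀] ResidueField D :=
    { toFun := residue D
      map_add' := map_add _
      map_smul' := fun d x => by
        change residue D (d.1 * x) = residue D d.1 * residue D x
        exact map_mul _ _ _ }
  have hmap : Submodule.map r (Submodule.span D₀ ((S.image lift : Finset D) : Set D)) = ⊤ := by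
    rw [Submodule.map_span, ← hS]
    congr 1
    ext z
    simp only [Finset.coe_image, Set.mem_image, Finset.mem_coe, exists_exists_and_eq_and]
    constructor
    · rintro ⟨w, hw, rfl⟩
      have : r (lift w) = w := hlift w
      rw [this]; exact hw
    · intro hz
      exact ⟨z, hz, hlift z⟩
  have : r c ∈ Submodule.map r (Submodule.span D₀ ((S.image lift : Finset D) : Set D)) := by
    rw [hmap]; trivial
  obtain ⟨n, hn, hnc⟩ := this
  refine ⟨n, hn, ?_⟩
  rw [← Ideal.Quotient.eq]
  exact hnc.symm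

theorem finite_of_finite_residueField (D₀ : Subring D) (hm : ∀ x ∈ maximalIdeal D, x ∈ D₀)
    [Module.Finite D₀ (ResidueField D)] : Module.Finite D₀ D := by
  obtain ⟨s, hs⟩ := exists_span_of_finite_residueField D₀
  exact finite_of_span_sup D₀ hm s hs

/-- surjectivity on residue fields -/
theorem residueField_map_surjective {D₁ : Type*} [CommRing D₁] [IsLocalRing D₁]
    (φ₀ : O →+* D₁) [IsLocalHom φ₀]
    (h : ∀ r : D₁, ∃ y : O, r - φ₀ y ∈ maximalIdeal D₁) :
    Function.Surjective (ResidueField.map φ₀) := by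
  intro z
  obtain ⟨r, rfl⟩ := residue_surjective z
  obtain ⟨y, hy⟩ := h r
  refine ⟨residue O y, ?_⟩
  rw [ResidueField.map_residue]
  symm
  exact (Ideal.Quotient.eq).mpr hy

/-- finiteness passes to the preimage subring along a surjection -/
theorem finite_comap {D' : Type*} [CommRing D'] (π : D' →+* D) (hπ : Function.Surjective π)
    (D₀ : Subring D) [Module.Finite D₀ D] : Module.Finite (D₀.comap π) D' := by
  obtain ⟨s, hs⟩ := (inferInstance : Module.Finite D₀ D).fg_top
  classical
  let lift : D → D' := Function.surjInv hπ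
  have hlift : ∀ z, π (lift z) = z := Function.surjInv_eq _
  refine ⟨⟨insert 1 (s.image lift), ?_⟩⟩
  rw [eq_top_iff]
  intro c' _
  have key : ∀ n ∈ Submodule.span D₀ (s : Set D),
      ∃ n' ∈ Submodule.span (D₀.comap π) ((s.image lift : Finset D') : Set D'), π n' = n := by
    intro n hn
    induction hn using Submodule.span_induction with
    | mem x hx =>
      exact ⟨lift x, Submodule.subset_span (by simpa using ⟨x, hx, rfl⟩), hlift x⟩
    | zero => exact ⟨0, Submodule.zero_mem _, map_zero _⟩
    | add x y _ _ hx hy =>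
      obtain ⟨x', hx', rfl⟩ := hx
      obtain ⟨y', hy', rfl⟩ := hy
      exact ⟨x' + y', Submodule.add_mem _ hx' hy', map_add _ _ _⟩
    | smul d x _ hx =>
      obtain ⟨x', hx', rfl⟩ := hx
      have hd : lift d.1 ∈ D₀.comap π := by
        rw [Subring.mem_comap, hlift]; exact d.2
      refine ⟨(⟨lift d.1, hd⟩ : D₀.comap π) • x', Submodule.smul_mem _ _ hx', ?_⟩
      change π (lift d.1 * x') = d.1 * π x'
      rw [map_mul, hlift]
  obtain ⟨n', hn', hn'c⟩ := key (π c') (by rw [hs]; trivial)
  have hmem : c' - n' ∈ D₀.comap π := by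
    rw [Subring.mem_comap, map_sub, hn'c, sub_self]; exact D₀.zero_mem
  have : c' = n' + (⟨c' - n', hmem⟩ : D₀.comap π) • (1 : D') := by
    change c' = n' + (c' - n') * 1
    ring
  rw [this]
  refine Submodule.add_mem _ (Submodule.span_mono (by simp) hn') ?_
  exact Submodule.smul_mem _ _ (Submodule.subset_span (by simp))

end Alg


/-! ### Scheme-level lemmas -/

section Sch

open AlgebraicGeometry CategoryTheory

universe u

variable {X Y : Scheme.{u}} {R : Type u} [CommRing R] [IsLocalRing R]

theorem range_stalkClosedPointTo_mk (x : X) (φ : X.presheaf.stalk x ⟶ CommRingCat.of R)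
    (hφ : IsLocalHom φ.hom) :
    Set.range (Scheme.stalkClosedPointTo (Spec.map φ ≫ X.fromSpecStalk x)).hom
      = Set.range φ.hom := by
  have := (SpecToEquivOfLocalRing X (CommRingCat.of R)).right_inv ⟨x, φ, hφ⟩
  exact congrArg (fun p : (Σ x, { f : X.presheaf.stalk x ⟶ CommRingCat.of R //
    IsLocalHom f.hom }) => Set.range p.2.1.hom) this

theorem range_stalkClosedPointTo_comp (f : Spec (CommRingCat.of R) ⟶ X) (g : X ⟶ Y) :
    Set.range (Scheme.stalkClosedPointTo (f ≫ g)).hom
      ⊆ Set.range (Scheme.stalkClosedPointTo f).hom := by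
  rw [Scheme.stalkClosedPointTo_comp]
  rintro _ ⟨y, rfl⟩
  exact ⟨_, rfl⟩

theorem range_stalkClosedPointTo_Spec_map {R' : Type u} [CommRing R'] [IsLocalRing R']
    (π : R →+* R') [IsLocalHom π] (f : Spec (CommRingCat.of R) ⟶ X) :
    Set.range (Scheme.stalkClosedPointTo (Spec.map (CommRingCat.ofHom π) ≫ f)).hom
      = π '' Set.range (Scheme.stalkClosedPointTo f).hom := by
  have e1 : Spec.map (CommRingCat.ofHom π) ≫ f =
      Spec.map (Scheme.stalkClosedPointTo f ≫ CommRingCat.ofHom π) ≫ X.fromSpecStalk _ := by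
    rw [Spec.map_comp, Category.assoc, Scheme.Spec_stalkClosedPointTo_fromSpecStalk]
  rw [congrArg (fun f => Set.range (Scheme.stalkClosedPointTo f).hom) e1]
  rw [range_stalkClosedPointTo_mk]
  · ext z
    simp only [CommRingCat.hom_comp, CommRingCat.hom_ofHom, RingHom.coe_comp, Set.mem_range,
      Function.comp_apply, Set.mem_image, exists_exists_eq_and]
  · rw [CommRingCat.hom_comp]
    exact RingHom.isLocalHom_comp _ _


theorem exists_factor (R₀ : Subring R) [IsLocalRing R₀] (hloc : IsLocalHom R₀.subtype)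
    (f : Spec (CommRingCat.of R) ⟶ X)
    (h : ∀ y, (Scheme.stalkClosedPointTo f).hom y ∈ R₀) :
    ∃ f₀ : Spec (CommRingCat.of R₀) ⟶ X,
      Spec.map (CommRingCat.ofHom R₀.subtype) ≫ f₀ = f ∧
      ∀ r : R₀, (∃ y, (r : R) = (Scheme.stalkClosedPointTo f).hom y) →
        r ∈ Set.range (Scheme.stalkClosedPointTo f₀).hom := by
  let φ₀ : X.presheaf.stalk (f (closedPoint R)) →+* R₀ :=
    (Scheme.stalkClosedPointTo f).hom.codRestrict R₀ h
  have hφ₀ : IsLocalHom φ₀ := by
    constructor
    intro y hy
    have : IsUnit ((Scheme.stalkClosedPointTo f).hom y) := hy.map R₀.subtype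
    exact (isUnit_map_iff (Scheme.stalkClosedPointTo f).hom y).mp this
  refine ⟨Spec.map (CommRingCat.ofHom φ₀) ≫ X.fromSpecStalk _, ?_, ?_⟩
  · rw [← Category.assoc, ← Spec.map_comp]
    have : CommRingCat.ofHom φ₀ ≫ CommRingCat.ofHom R₀.subtype = Scheme.stalkClosedPointTo f := by
      ext y; rfl
    rw [this, Scheme.Spec_stalkClosedPointTo_fromSpecStalk]
  · rintro r ⟨y, hy⟩
    rw [range_stalkClosedPointTo_mk _ _ (by simpa using hφ₀)]
    exact ⟨y, Subtype.ext hy.symm⟩

instance isLocalHom_iso_hom :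
    IsLocalHom (stalkClosedPointIso (CommRingCat.of R)).hom.hom :=
  isLocalHom_of_iso _

theorem residueField_map_stalkClosedPointTo (f : Spec (CommRingCat.of R) ⟶ X) :
    ResidueField.map (Scheme.stalkClosedPointTo f).hom =
      (ResidueField.map (stalkClosedPointIso (CommRingCat.of R)).hom.hom).comp
        (f.residueFieldMap (closedPoint R)).hom := by
  exact ResidueField.map_comp (f.stalkMap (closedPoint R)).hom
    (stalkClosedPointIso (CommRingCat.of R)).hom.hom

theorem bijective_residueField_map_iso :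
    Function.Bijective
      (ResidueField.map (stalkClosedPointIso (CommRingCat.of R)).hom.hom) :=
  (ResidueField.mapEquiv (stalkClosedPointIso (CommRingCat.of R)).commRingCatIsoToRingEquiv).bijective

theorem finite_residueField_map (f : Spec (CommRingCat.of R) ⟶ X)
    (h : (f.residueFieldMap (closedPoint R)).hom.Finite) :
    (ResidueField.map (Scheme.stalkClosedPointTo f).hom).Finite := by
  rw [residueField_map_stalkClosedPointTo]
  exact RingHom.Finite.comp (RingHom.Finite.of_surjective _ bijective_residueField_map_iso.2) h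

theorem surjective_residueFieldMap (f : Spec (CommRingCat.of R) ⟶ X)
    (h : Function.Surjective (ResidueField.map (Scheme.stalkClosedPointTo f).hom)) :
    Function.Surjective (f.residueFieldMap (closedPoint R)).hom := by
  intro z
  obtain ⟨w, hw⟩ := h (ResidueField.map (stalkClosedPointIso (CommRingCat.of R)).hom.hom z)
  have e := DFunLike.congr_fun (residueField_map_stalkClosedPointTo f) w
  rw [hw] at e
  exact ⟨w, (bijective_residueField_map_iso.1 e).symm⟩

theorem cancel_Spec_map {R₀ : Type u} [CommRing R₀] [IsLocalRing R₀] (ι : R₀ →+* R)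
    [IsLocalHom ι] (hι : Function.Injective ι) (f₁ f₂ : Spec (CommRingCat.of R₀) ⟶ X)
    (h : Spec.map (CommRingCat.ofHom ι) ≫ f₁ = Spec.map (CommRingCat.ofHom ι) ≫ f₂) :
    f₁ = f₂ := by
  have hcl : (Spec.map (CommRingCat.ofHom ι)) (closedPoint R) = closedPoint R₀ :=
    Spec_closedPoint
  have hx : f₁ (closedPoint R₀) = f₂ (closedPoint R₀) := by
    have := congrArg (fun g => g (closedPoint R)) h
    simpa [hcl] using this
  obtain ⟨_, ⟨W, hW, rfl⟩, hxW, -⟩ :=
    X.isBasis_affineOpens.exists_subset_of_mem_open (Set.mem_univ (f₁ (closedPoint R₀))) isOpen_univ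
  obtain ⟨W, rfl⟩ : ∃ W' : X.Opens, W' = W := ⟨W, rfl⟩
  have h1 : f₁ ⁻¹ᵁ W = ⊤ := Scheme.preimage_eq_top_of_closedPoint_mem f₁ hxW
  have h2 : f₂ ⁻¹ᵁ W = ⊤ := Scheme.preimage_eq_top_of_closedPoint_mem f₂ (hx ▸ hxW)
  have hr1 : Set.range f₁ ⊆ Set.range W.ι := by
    rintro _ ⟨z, rfl⟩
    have : z ∈ f₁ ⁻¹ᵁ W := by rw [h1]; trivial
    simpa using this
  have hr2 : Set.range f₂ ⊆ Set.range W.ι := by
    rintro _ ⟨z, rfl⟩
    have : z ∈ f₂ ⁻¹ᵁ W := by rw [h2]; trivial
    simpa using this
  haveI : IsAffine W := hW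
  have e : Spec.map (CommRingCat.ofHom ι) ≫ IsOpenImmersion.lift W.ι f₁ hr1 =
      Spec.map (CommRingCat.ofHom ι) ≫ IsOpenImmersion.lift W.ι f₂ hr2 := by
    rw [← cancel_mono W.ι]
    simpa using h
  have e' : IsOpenImmersion.lift W.ι f₁ hr1 = IsOpenImmersion.lift W.ι f₂ hr2 := by
    apply ext_of_isAffine
    have e2 := congrArg Scheme.Hom.appTop e
    rw [Scheme.Hom.comp_appTop, Scheme.Hom.comp_appTop] at e2
    have hinj : Function.Injective (Spec.map (CommRingCat.ofHom ι)).appTop.hom := by
      have e3 := Scheme.ΓSpecIso_naturality (CommRingCat.ofHom ι)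
      have h4 : Function.Injective
          ((Spec.map (CommRingCat.ofHom ι)).appTop ≫ (Scheme.ΓSpecIso _).hom).hom := by
        rw [e3, CommRingCat.hom_comp, RingHom.coe_comp]
        exact hι.comp (ConcreteCategory.bijective_of_isIso (Scheme.ΓSpecIso _).hom).1
      rw [CommRingCat.hom_comp, RingHom.coe_comp] at h4
      exact Function.Injective.of_comp h4
    ext y
    apply hinj
    exact congrArg (fun g => g.hom y) e2
  rw [← IsOpenImmersion.lift_fac W.ι f₁ hr1, ← IsOpenImmersion.lift_fac W.ι f₂ hr2, e']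


/-- Formal versality (lifting with trivial residue extension) implies the lifting property for
finite residue field extensions. -/
theorem lift_of_finite {S T : Scheme.{u}} (g : T ⟶ S) (t : T)
    (hT : ∀ (C C' : Type u) [CommRing C] [CommRing C'] [IsLocalRing C] [IsLocalRing C']
        [IsArtinianRing C] [IsArtinianRing C'] (π : C' →+* C), Function.Surjective π →
        ∀ (a : Spec (CommRingCat.of C) ⟶ T) (b : Spec (CommRingCat.of C') ⟶ S),
          a (IsLocalRing.closedPoint C) = t →
          Function.Surjective (a.residueFieldMap (IsLocalRing.closedPoint C)).hom →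
          Spec.map (CommRingCat.ofHom π) ≫ b = a ≫ g →
          ∃ c : Spec (CommRingCat.of C') ⟶ T,
            Spec.map (CommRingCat.ofHom π) ≫ c = a ∧ c ≫ g = b) :
    ∀ (C C' : Type u) [CommRing C] [CommRing C'] [IsLocalRing C] [IsLocalRing C']
        [IsArtinianRing C] [IsArtinianRing C'] (π : C' →+* C), Function.Surjective π →
        ∀ (a : Spec (CommRingCat.of C) ⟶ T) (b : Spec (CommRingCat.of C') ⟶ S),
          a (IsLocalRing.closedPoint C) = t →
          (a.residueFieldMap (IsLocalRing.closedPoint C)).hom.Finite →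
          Spec.map (CommRingCat.ofHom π) ≫ b = a ≫ g →
          ∃ c : Spec (CommRingCat.of C') ⟶ T,
            Spec.map (CommRingCat.ofHom π) ≫ c = a ∧ c ≫ g = b := by
  intro C C' _ _ _ _ _ _ π hπ a b hat hfin hcomm
  set φ := (Scheme.stalkClosedPointTo a).hom with hφ
  haveI : IsLocalHom π := hπ.isLocalHom
  let C₀ : Subring C := sub φ
  have hmC : ∀ x ∈ maximalIdeal C, x ∈ C₀ := maximalIdeal_le_sub φ
  haveI : Module.Finite C₀ (ResidueField C) :=
    finite_residueField φ (finite_residueField_map a hfin)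
  haveI finC : Module.Finite C₀ C := finite_of_finite_residueField C₀ hmC
  haveI : IsLocalRing C₀ := isLocalRing_sub C₀
  haveI : IsArtinianRing C₀ := isArtinianRing_sub C₀ hmC
  have hlocC : IsLocalHom C₀.subtype := isLocalHom_subtype C₀
  let C'₀ : Subring C' := C₀.comap π
  have hmC' : ∀ x ∈ maximalIdeal C', x ∈ C'₀ := by
    intro x hx
    exact hmC _ (map_nonunit π x hx)
  haveI finC' : Module.Finite C'₀ C' := finite_comap π hπ C₀
  haveI : IsLocalRing C'₀ := isLocalRing_sub C'₀
  haveI : IsArtinianRing C'₀ := isArtinianRing_sub C'₀ hmC'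
  have hlocC' : IsLocalHom C'₀.subtype := isLocalHom_subtype C'₀
  let π₀ : C'₀ →+* C₀ := (π.comp C'₀.subtype).codRestrict C₀ (fun x => x.2)
  have hπ₀ : Function.Surjective π₀ := by
    rintro ⟨d, hd⟩
    obtain ⟨d', rfl⟩ := hπ d
    exact ⟨⟨d', hd⟩, rfl⟩
  have hsq : Spec.map (CommRingCat.ofHom C₀.subtype) ≫ Spec.map (CommRingCat.ofHom π₀) =
      Spec.map (CommRingCat.ofHom π) ≫ Spec.map (CommRingCat.ofHom C'₀.subtype) := by
    rw [← Spec.map_comp, ← Spec.map_comp]
    rfl
  obtain ⟨a₀, ha₀, ha₀r⟩ := exists_factor C₀ hlocC a (fun y => range_le_sub φ y)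
  have hb : ∀ y, (Scheme.stalkClosedPointTo b).hom y ∈ C'₀ := by
    intro y
    change π ((Scheme.stalkClosedPointTo b).hom y) ∈ C₀
    have h1 : π ((Scheme.stalkClosedPointTo b).hom y) ∈
        Set.range (Scheme.stalkClosedPointTo (Spec.map (CommRingCat.ofHom π) ≫ b)).hom := by
      rw [range_stalkClosedPointTo_Spec_map]; exact ⟨_, ⟨y, rfl⟩, rfl⟩
    rw [congrArg (fun f => Set.range (Scheme.stalkClosedPointTo f).hom) hcomm] at h1
    obtain ⟨y', hy'⟩ := range_stalkClosedPointTo_comp a g h1
    rw [← hy']; exact range_le_sub φ y'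
  obtain ⟨b₀, hb₀, -⟩ := exists_factor C'₀ hlocC' b hb
  have hcompat : Spec.map (CommRingCat.ofHom π₀) ≫ b₀ = a₀ ≫ g := by
    haveI := hlocC
    apply cancel_Spec_map C₀.subtype Subtype.val_injective
    rw [← Category.assoc, hsq, Category.assoc, hb₀, hcomm, ← Category.assoc, ha₀]
  have hcl : a₀ (closedPoint C₀) = t := by
    rw [← hat, ← ha₀]
    haveI := hlocC
    have : (Spec.map (CommRingCat.ofHom C₀.subtype)) (closedPoint C) = closedPoint C₀ :=
      Spec_closedPoint
    rw [Scheme.Hom.comp_apply, this]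
  have hsurj : Function.Surjective (a₀.residueFieldMap (closedPoint C₀)).hom := by
    apply surjective_residueFieldMap
    apply residueField_map_surjective
    intro r
    obtain ⟨y, hy⟩ := (mem_sub_iff φ r.1).mp r.2
    have hmem : (⟨φ y, range_le_sub φ y⟩ : C₀) ∈
        Set.range (Scheme.stalkClosedPointTo a₀).hom := ha₀r _ ⟨y, rfl⟩
    obtain ⟨y₀, hy₀⟩ := hmem
    refine ⟨y₀, ?_⟩
    rw [hy₀, mem_maximalIdeal, mem_nonunits_iff, isUnit_iff]
    exact hy
  obtain ⟨c₀, hc₀, hc₀g⟩ := hT C₀ C'₀ π₀ hπ₀ a₀ b₀ hcl hsurj hcompat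
  refine ⟨Spec.map (CommRingCat.ofHom C'₀.subtype) ≫ c₀, ?_, ?_⟩
  · rw [← Category.assoc, ← hsq, Category.assoc, hc₀, ha₀]
  · rw [Category.assoc, hc₀g, hb₀]

end Sch

end Groth.Agent.Lib.Helper67.ArtinSub
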