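import Mathlib
import Groth.Agent.Lib.Helper67.ArtinSub
import Groth.Agent.Lib.Helper51.EtaleQF
import Groth.Agent.Lib.Helper81.QFinFib

set_option autoImplicit false
set_option linter.style.haveILetI false

namespace Groth.Agent.Lib.Helper67.EtLift

open AlgebraicGeometry CategoryTheory IsLocalRing

universe u

theorem exists_factor_affine {X : Scheme.{u}} {R : Type u} [CommRing R] [IsLocalRing R]
    (f : Spec (CommRingCat.of R) ⟶ X) {W : X.Opens} (hW : IsAffineOpen W)
    (hx : f (closedPoint R) ∈ W) :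
    ∃ γ : Γ(X, W) ⟶ CommRingCat.of R, Spec.map γ ≫ hW.fromSpec = f := by
  have h1 : f ⁻¹ᵁ W = ⊤ := Scheme.preimage_eq_top_of_closedPoint_mem f hx
  have hr : Set.range f ⊆ Set.range W.ι := by
    rintro _ ⟨z, rfl⟩
    have : z ∈ f ⁻¹ᵁ W := by rw [h1]; trivial
    simpa using this
  refine ⟨Spec.preimage (IsOpenImmersion.lift W.ι f hr ≫ hW.isoSpec.hom), ?_⟩
  rw [Spec.map_preimage, Category.assoc, ← IsAffineOpen.isoSpec_inv_ι, Iso.hom_inv_id_assoc,
    IsOpenImmersion.lift_fac]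

theorem isNilpotent_ker {C C' : Type u} [CommRing C] [CommRing C'] [IsLocalRing C]
    [IsLocalRing C'] [IsArtinianRing C'] (π : C' →+* C) [IsLocalHom π] :
    IsNilpotent (RingHom.ker π) := by
  obtain ⟨N, hN⟩ := Groth.Agent.Lib.Helper67.ArtinSub.exists_pow_maximalIdeal_eq_bot (D := C')
  refine ⟨N, ?_⟩
  rw [Ideal.zero_eq_bot, eq_bot_iff, ← hN]
  apply Ideal.pow_right_mono
  intro x hx
  rw [RingHom.mem_ker] at hx
  rw [mem_maximalIdeal, mem_nonunits_iff]
  intro hu
  have := hu.map π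
  rw [hx] at this
  exact not_isUnit_zero this

theorem exists_lift_of_etale {U T : Scheme.{u}} (e : U ⟶ T) [Etale e] {C C' : Type u}
    [CommRing C] [CommRing C'] [IsLocalRing C] [IsLocalRing C'] [IsArtinianRing C']
    (π : C' →+* C) (hπ : Function.Surjective π)
    (a : Spec (CommRingCat.of C) ⟶ U) (c' : Spec (CommRingCat.of C') ⟶ T)
    (h : Spec.map (CommRingCat.ofHom π) ≫ c' = a ≫ e) :
    ∃ c : Spec (CommRingCat.of C') ⟶ U,
      Spec.map (CommRingCat.ofHom π) ≫ c = a ∧ c ≫ e = c' := by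
  haveI : IsLocalHom π := hπ.isLocalHom
  -- affine opens
  obtain ⟨_, ⟨W, hW, rfl⟩, hxW, -⟩ :=
    T.isBasis_affineOpens.exists_subset_of_mem_open
      (Set.mem_univ (c' (closedPoint C'))) isOpen_univ
  obtain ⟨W, rfl⟩ : ∃ W' : T.Opens, W' = W := ⟨W, rfl⟩
  have hcl : (Spec.map (CommRingCat.ofHom π)) (closedPoint C) = closedPoint C' :=
    Spec_closedPoint
  have haW : a (closedPoint C) ∈ e ⁻¹ᵁ W := by
    change e (a (closedPoint C)) ∈ W
    have := congrArg (fun g => g (closedPoint C)) h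
    simp only [Scheme.Hom.comp_apply, hcl] at this
    rw [← this]; exact hxW
  obtain ⟨_, ⟨V, hV, rfl⟩, haV, hVW⟩ :=
    U.isBasis_affineOpens.exists_subset_of_mem_open haW (e ⁻¹ᵁ W).isOpen
  obtain ⟨V, rfl⟩ : ∃ V' : U.Opens, V' = V := ⟨V, rfl⟩
  have hVW' : V ≤ e ⁻¹ᵁ W := hVW
  obtain ⟨α, hα⟩ := exists_factor_affine a hV haV
  obtain ⟨γ', hγ'⟩ := exists_factor_affine c' hW hxW
  set ψ := e.appLE W V hVW' with hψdef
  have hψ : RingHom.Etale ψ.hom :=
    HasRingHomProperty.appLE @Etale e inferInstance ⟨W, hW⟩ ⟨V, hV⟩ hVW'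
  have hsq : ψ ≫ α = γ' ≫ CommRingCat.ofHom π := by
    apply Spec.map_injective
    rw [← cancel_mono hW.fromSpec, Spec.map_comp, Category.assoc,
      IsAffineOpen.SpecMap_appLE_fromSpec e hW hV hVW', ← Category.assoc, hα,
      Spec.map_comp, Category.assoc, hγ', h]
  -- algebra structures
  letI : Algebra Γ(T, W) Γ(U, V) := ψ.hom.toAlgebra
  letI : Algebra Γ(T, W) C' := γ'.hom.toAlgebra
  letI : Algebra Γ(T, W) C := (γ' ≫ CommRingCat.ofHom π).hom.toAlgebra
  haveI : Algebra.Etale Γ(T, W) Γ(U, V) := hψ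
  let πalg : C' →ₐ[Γ(T, W)] C := { π with commutes' := fun r => rfl }
  let αalg : Γ(U, V) →ₐ[Γ(T, W)] C :=
    { α.hom with
      commutes' := fun r => by
        have := congrArg (fun g => g.hom r) hsq
        exact this }
  have hnil : IsNilpotent (RingHom.ker (πalg : C' →+* C)) := isNilpotent_ker π
  let β := Algebra.FormallySmooth.liftOfSurjective αalg πalg hπ hnil
  have hβ1 : ∀ x, π (β x) = α.hom x :=
    Algebra.FormallySmooth.liftOfSurjective_apply αalg πalg hπ hnil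
  have hβ2 : ∀ r : Γ(T, W), β (ψ.hom r) = γ'.hom r := fun r => β.commutes r
  refine ⟨Spec.map (CommRingCat.ofHom β.toRingHom) ≫ hV.fromSpec, ?_, ?_⟩
  · rw [← Category.assoc, ← Spec.map_comp]
    have : CommRingCat.ofHom β.toRingHom ≫ CommRingCat.ofHom π = α := by
      ext x; exact hβ1 x
    rw [this, hα]
  · rw [Category.assoc, ← IsAffineOpen.SpecMap_appLE_fromSpec e hW hV hVW', ← Category.assoc,
      ← Spec.map_comp]
    have : e.appLE W V hVW' ≫ CommRingCat.ofHom β.toRingHom = γ' := by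
      ext r; exact hβ2 r
    rw [this, hγ']

theorem finite_residueFieldMap_of_etale {U T : Scheme.{u}} (e : U ⟶ T) [Etale e] (x : U) :
    (e.residueFieldMap x).hom.Finite := by
  haveI : LocallyQuasiFinite e := Groth.Agent.Lib.Helper51.locallyQuasiFinite_of_etale e
  exact (Groth.Agent.Lib.Helper81.QFinFib.isClosed_asFiber_iff e x).mp (isClosed_discrete _)

end Groth.Agent.Lib.Helper67.EtLift
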