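import Mathlib
import Groth.Agent.S1375
import Groth.Agent.S1353

set_option autoImplicit false
set_option linter.style.haveILetI false
universe u

open CategoryTheory CategoryTheory.Limits AlgebraicGeometry Opposite

namespace Groth.Agent.Lib.Helper67.EtaleFiniteFlat

/-- a quasi-finite flat slice of a flat lfp morphism through a given point of its image. -/
theorem exists_slice_of_mem_range {S' S : Scheme.{u}} (g : S' ⟶ S) [Flat g]
    [LocallyOfFinitePresentation g] (s : S) (hs : s ∈ Set.range g) :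
    ∃ (Z : Scheme.{u}) (j : Z ⟶ S') (z : Z), Flat (j ≫ g) ∧ LocallyOfFinitePresentation (j ≫ g) ∧
      LocallyQuasiFinite (j ≫ g) ∧ (j ≫ g) z = s := by
  obtain ⟨hopen, hdense⟩ := Groth.Agent.S1341.result g
  obtain ⟨x₀, hx₀⟩ := hs
  have hne : Nonempty ↑(g.fiber s) := by
    have : x₀ ∈ Set.range (g.fiberι s) := by rw [Scheme.Hom.range_fiberι]; exact hx₀
    obtain ⟨w₀, -⟩ := this
    exact ⟨w₀⟩
  set O : Set ↑(g.fiber s) := (g.fiberι s) ⁻¹' {x : ↑S' | MoreMor.IsCMAt g x} with hO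
  have hOopen : IsOpen O := hopen.preimage (g.fiberι s).continuous
  have hOne : O.Nonempty := (hdense s).nonempty
  obtain ⟨w, hwO, hwcl⟩ := nonempty_inter_closedPoints hOne hOopen.isLocallyClosed
  set x := g.fiberι s w with hx
  have hcm : MoreMor.IsCMAt g x := hwO
  have hcl := Groth.Agent.S1375.isClosed_asFiber g s w hwcl
  have hgx : g x = s := by
    have : x ∈ Set.range (g.fiberι s) := ⟨w, rfl⟩
    rwa [Scheme.Hom.range_fiberι] at this
  obtain ⟨V, Z, i, -, hxr, h1, h2, h3, -⟩ := Groth.Agent.S1349.result g x hcm hcl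
  obtain ⟨z, hz⟩ := hxr
  refine ⟨Z, i ≫ V.ι, z, ?_, ?_, ?_, ?_⟩
  · rwa [Category.assoc]
  · rwa [Category.assoc]
  · rwa [Category.assoc]
  · rw [Scheme.Hom.comp_apply, hz, hgx]

/-- fppf-local structure: a flat lfp morphism is, over an elementary etale neighbourhood of any point
of its image, dominated by a finite flat finitely presented surjective cover. -/
theorem exists_etale_finite_flat {S₁ S : Scheme.{u}} (g : S₁ ⟶ S) [Flat g]
    [LocallyOfFinitePresentation g] (s : S) (hs : s ∈ Set.range g) :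
    ∃ (U V : Scheme.{u}) (e : U ⟶ S) (u : U) (π : V ⟶ U) (r : V ⟶ S₁), Etale e ∧ e u = s ∧
      IsIso (e.residueFieldMap u) ∧ IsFinite π ∧ Flat π ∧ LocallyOfFinitePresentation π ∧
      Surjective π ∧ r ≫ g = π ≫ e := by
  obtain ⟨Z, j, z, hfl, hlfp, hlqf, hz⟩ := exists_slice_of_mem_range g s hs
  set f := j ≫ g with hf
  obtain ⟨U₀, e₀, u₀, ⟨het, hbase, hres⟩, V, v, hvV, hfin, hvu, -, -, -⟩ :=
    Groth.Agent.S1353.result f z (f.quasiFiniteAt z)
  let π₀ : (V : Scheme.{u}) ⟶ U₀ := V.ι ≫ pullback.snd f e₀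
  haveI : Flat π₀ := inferInstance
  haveI : LocallyOfFinitePresentation π₀ := inferInstance
  haveI : IsFinite π₀ := hfin
  let U' : U₀.Opens := ⟨Set.range π₀, π₀.isOpenMap.isOpen_range⟩
  have hrange : Set.range π₀ ⊆ Set.range U'.ι := by
    rw [Scheme.Opens.range_ι]
    exact subset_rfl
  let π : (V : Scheme.{u}) ⟶ U' := IsOpenImmersion.lift U'.ι π₀ hrange
  have hπ : π ≫ U'.ι = π₀ := IsOpenImmersion.lift_fac _ _ _
  have hu₀ : u₀ ∈ U' := ⟨⟨v, hvV⟩, hvu⟩
  refine ⟨U', V, U'.ι ≫ e₀, ⟨u₀, hu₀⟩, π, V.ι ≫ pullback.fst f e₀ ≫ j, inferInstance, ?_, ?_, ?_, ?_,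
    ?_, ?_, ?_⟩
  · rw [Scheme.Hom.comp_apply]
    change e₀ u₀ = s
    rw [hbase, hz]
  · rw [Scheme.residueFieldMap_comp]
    have h1 : IsIso (e₀.residueFieldMap u₀) := (ConcreteCategory.isIso_iff_bijective _).mpr hres
    have h2 : IsIso (U'.ι.residueFieldMap ⟨u₀, hu₀⟩) := inferInstance
    exact @IsIso.comp_isIso _ _ _ _ _ _ _ h1 h2
  · exact MorphismProperty.of_postcomp (W := @IsFinite) (W' := @IsSeparated) π U'.ι inferInstance
      (by rw [hπ]; infer_instance)
  · exact MorphismProperty.of_postcomp (W := @Flat) (W' := @IsOpenImmersion) π U'.ι inferInstance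
      (by rw [hπ]; infer_instance)
  · exact MorphismProperty.of_postcomp (W := @LocallyOfFinitePresentation)
      (W' := @IsOpenImmersion) π U'.ι inferInstance (by rw [hπ]; infer_instance)
  · constructor
    rintro ⟨y, w, hw⟩
    refine ⟨w, ?_⟩
    apply U'.ι.isOpenEmbedding.injective
    rw [← Scheme.Hom.comp_apply, hπ]
    exact hw
  · rw [← Category.assoc π, hπ]
    simp only [π₀, Category.assoc]
    rw [← pullback.condition]

end Groth.Agent.Lib.Helper67.EtaleFiniteFlat
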