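import Mathlib

/-!
# Truncated exponentials in characteristic `p` and additive-to-multiplicative characters (helper67)

`expP b q = Σ_{j<p} b^j/j! X^(jq)`, `P N a = ∏_{l<N} expP (a l) (p^l)`.
* `coeff_P_succ`, `coeff_P_eq_zero`: digit recursion for the coefficients of `P N a`.
* `char_coeff`: a sequence `c` with `c 0 = 1` and `C(i+j,i) c_{i+j} = c_i c_j` for `i, j < p^n`
  agrees below `p^n` with the coefficients of `P n (c ∘ (p^·))`, and `c (p^l)^p = 0` for `l < n`.
-/

set_option autoImplicit false
universe u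

open Polynomial

namespace Groth.Agent.Lib.Helper67.ExpP

section Units

variable (p : ℕ) [hp : Fact p.Prime] {A : Type u} [CommRing A] [CharP A p]

theorem isUnit_natCast_of_not_dvd (n : ℕ) (h : ¬ p ∣ n) : IsUnit (n : A) := by
  have h1 : IsUnit ((n : ZMod p)) := by
    rw [isUnit_iff_ne_zero]
    intro h0
    exact h ((ZMod.natCast_eq_zero_iff n p).1 h0)
  have := h1.map (ZMod.castHom (dvd_refl p) A)
  simpa using this

theorem isUnit_factorial {j : ℕ} (hj : j < p) : IsUnit ((j.factorial : ℕ) : A) :=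
  isUnit_natCast_of_not_dvd p _ (fun h => absurd ((hp.out.dvd_factorial).1 h) (not_le.2 hj))

theorem natCast_eq_of_modEq {a b : ℕ} (h : a ≡ b [MOD p]) : (a : A) = (b : A) :=
  (CharP.natCast_eq_natCast A p).2 h

theorem natCast_self_eq_zero : ((p : ℕ) : A) = 0 := CharP.cast_eq_zero A p

end Units

section Defs

variable (p : ℕ) [hp : Fact p.Prime] {A : Type u} [CommRing A]

/-- truncated exponential `exp_p(b X^q)` -/
noncomputable def expP (b : A) (q : ℕ) : A[X] :=
  ∑ j ∈ Finset.range p, C (Ring.inverse ((j.factorial : ℕ) : A) * b ^ j) * X ^ (j * q)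

/-- `∏_{l<N} exp_p(a_l X^(p^l))` -/
noncomputable def P (N : ℕ) (a : ℕ → A) : A[X] := ∏ l ∈ Finset.range N, expP p (a l) (p ^ l)

theorem expand_expP (b : A) (q : ℕ) : expand A p (expP p b q) = expP p b (p * q) := by
  unfold expP
  rw [map_sum]
  refine Finset.sum_congr rfl (fun j _ => ?_)
  rw [map_mul, expand_C, map_pow, expand_X, ← pow_mul]
  congr 2
  ring

theorem P_succ (N : ℕ) (a : ℕ → A) :
    P p (N + 1) a = expP p (a 0) 1 * expand A p (P p N (fun l => a (l + 1))) := by
  unfold P
  rw [Finset.prod_range_succ', map_prod, mul_comm, pow_zero]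
  congr 1
  refine Finset.prod_congr rfl (fun l _ => ?_)
  rw [expand_expP, pow_succ']

theorem coeff_expP_one (b : A) (i : ℕ) :
    (expP p b 1).coeff i = if i < p then Ring.inverse ((i.factorial : ℕ) : A) * b ^ i else 0 := by
  unfold expP
  simp only [mul_one, finsetSum_coeff, coeff_C_mul, coeff_X_pow, mul_ite, mul_zero]
  rw [Finset.sum_ite_eq]
  simp

theorem coeff_mul_expand (F Q : A[X]) (hF : ∀ i, p ≤ i → F.coeff i = 0) (m : ℕ) :
    (F * expand A p Q).coeff m = F.coeff (m % p) * Q.coeff (m / p) := by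
  have hp0 : 0 < p := hp.out.pos
  rw [coeff_mul, Finset.sum_eq_single (m % p, m - m % p)]
  · rw [coeff_expand hp0, if_pos (Nat.dvd_sub_mod m)]
    congr 2
    have h1 : m - m % p = p * (m / p) := by
      have := Nat.mod_add_div m p
      omega
    rw [h1, Nat.mul_div_cancel_left _ hp0]
  · rintro ⟨i, j⟩ hij hne
    rw [Finset.HasAntidiagonal.mem_antidiagonal] at hij
    simp only at hij
    by_cases hi : p ≤ i
    · rw [hF i hi, zero_mul]
    · rw [coeff_expand hp0]
      split_ifs with hj
      · exfalso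
        apply hne
        obtain ⟨t, rfl⟩ := hj
        have hi' : i < p := not_le.1 hi
        have : m % p = i := by
          rw [← hij, Nat.add_mul_mod_self_left, Nat.mod_eq_of_lt hi']
        rw [this, ← hij]
        simp
      · rw [mul_zero]
  · intro h
    exfalso
    apply h
    rw [Finset.HasAntidiagonal.mem_antidiagonal]
    exact Nat.add_sub_cancel' (Nat.mod_le m p)

theorem coeff_P_succ (N : ℕ) (a : ℕ → A) (m : ℕ) :
    (P p (N + 1) a).coeff m =
      (Ring.inverse (((m % p).factorial : ℕ) : A) * a 0 ^ (m % p)) *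
        (P p N (fun l => a (l + 1))).coeff (m / p) := by
  rw [P_succ, coeff_mul_expand p _ _ (fun i hi => by rw [coeff_expP_one, if_neg (not_lt.2 hi)]),
    coeff_expP_one, if_pos (Nat.mod_lt m hp.out.pos)]

theorem coeff_P_eq_zero (N : ℕ) : ∀ (a : ℕ → A) (m : ℕ), p ^ N ≤ m → (P p N a).coeff m = 0 := by
  induction N with
  | zero =>
    intro a m hm
    have : P p 0 a = 1 := by simp [P]
    rw [this, coeff_one, if_neg]
    rw [pow_zero] at hm
    omega
  | succ N ih =>
    intro a m hm
    rw [coeff_P_succ, ih, mul_zero]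
    rw [Nat.le_div_iff_mul_le hp.out.pos, ← pow_succ]
    exact hm

theorem coeff_P_zero (N : ℕ) : ∀ (a : ℕ → A), (P p N a).coeff 0 = 1 := by
  induction N with
  | zero => intro a; simp [P]
  | succ N ih =>
    intro a
    rw [coeff_P_succ, Nat.zero_div, ih, Nat.zero_mod]
    simp

end Defs

section Char

variable (p : ℕ) [hp : Fact p.Prime] {A : Type u} [CommRing A] [CharP A p]

/-- small indices: `j! c_j = c_1^j` -/
theorem factorial_mul_eq_pow (c : ℕ → A) (B : ℕ) (hB : p ≤ B) (h0 : c 0 = 1)
    (h : ∀ i j, i < B → j < B → ((i + j).choose i : A) * c (i + j) = c i * c j) :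
    ∀ j, j < p → ((j.factorial : ℕ) : A) * c j = c 1 ^ j := by
  intro j
  induction j with
  | zero => intro _; simp [h0]
  | succ j ih =>
    intro hj
    have hj' : j < p := by omega
    have h1 := h 1 j (lt_of_lt_of_le hp.out.one_lt hB) (lt_of_lt_of_le hj' hB)
    rw [Nat.choose_one_right] at h1
    rw [Nat.factorial_succ, pow_succ, ← ih hj', add_comm j 1]
    push_cast at h1 ⊢
    linear_combination (j.factorial : A) * h1

theorem char_coeff (n : ℕ) : ∀ (c : ℕ → A), c 0 = 1 →
    (∀ i j, i < p ^ n → j < p ^ n → ((i + j).choose i : A) * c (i + j) = c i * c j) →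
    (∀ m, m < p ^ n → c m = (P p n (fun l => c (p ^ l))).coeff m) ∧
      (∀ l, l < n → c (p ^ l) ^ p = 0) := by
  have hp0 : 0 < p := hp.out.pos
  have hp1 : 1 < p := hp.out.one_lt
  induction n with
  | zero =>
    intro c h0 _
    refine ⟨fun m hm => ?_, fun l hl => absurd hl (Nat.not_lt_zero l)⟩
    rw [pow_zero] at hm
    have : m = 0 := by omega
    subst this
    rw [h0, coeff_P_zero]
  | succ n ih =>
    intro c h0 h
    have hpB : p ≤ p ^ (n + 1) := by
      calc p = p ^ 1 := (pow_one p).symm
        _ ≤ p ^ (n + 1) := Nat.pow_le_pow_right hp0 (by omega)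
    have hsmall := factorial_mul_eq_pow p c (p ^ (n + 1)) hpB h0 h
    -- the Frobenius-twisted sequence
    have h0' : c (p * 0) = 1 := by rw [mul_zero, h0]
    have h' : ∀ i j, i < p ^ n → j < p ^ n →
        ((i + j).choose i : A) * c (p * (i + j)) = c (p * i) * c (p * j) := by
      intro i j hi hj
      have hi' : p * i < p ^ (n + 1) := by rw [pow_succ']; exact Nat.mul_lt_mul_of_pos_left hi hp0
      have hj' : p * j < p ^ (n + 1) := by rw [pow_succ']; exact Nat.mul_lt_mul_of_pos_left hj hp0
      have := h (p * i) (p * j) hi' hj'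
      rw [← mul_add] at this
      rw [← this]
      congr 1
      apply natCast_eq_of_modEq p
      have hl := Choose.choose_modEq_choose_mod_mul_choose_div_nat (p := p) (n := p * (i + j))
        (k := p * i)
      rw [Nat.mul_mod_right, Nat.mul_mod_right, Nat.choose_self, one_mul,
        Nat.mul_div_cancel_left _ hp0, Nat.mul_div_cancel_left _ hp0] at hl
      exact hl.symm
    obtain ⟨ih1, ih2⟩ := ih (fun t => c (p * t)) h0' h'
    have hc1 : c 1 ^ p = 0 := by
      have e1 := hsmall (p - 1) (by omega)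
      have e2 := h 1 (p - 1) (lt_of_lt_of_le hp1 hpB) (lt_of_lt_of_le (by omega) hpB)
      have e3 : 1 + (p - 1) = p := by omega
      rw [e3, Nat.choose_one_right, natCast_self_eq_zero p, zero_mul] at e2
      have e4 : c 1 ^ p = c 1 * c 1 ^ (p - 1) := by
        rw [← pow_succ']; congr 1; omega
      rw [e4, ← e1]
      linear_combination (-(((p - 1).factorial : ℕ) : A)) * e2
    constructor
    · intro m hm
      rw [coeff_P_succ]
      have hm1 : m % p < p ^ (n + 1) := lt_of_lt_of_le (Nat.mod_lt m hp0) hpB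
      have hm2 : p * (m / p) < p ^ (n + 1) := lt_of_le_of_lt (Nat.mul_div_le m p) hm
      have e1 := h (m % p) (p * (m / p)) hm1 hm2
      rw [Nat.mod_add_div] at e1
      have hch : ((m.choose (m % p) : ℕ) : A) = 1 := by
        have hl := Choose.choose_modEq_choose_mod_mul_choose_div_nat (p := p) (n := m) (k := m % p)
        rw [Nat.mod_mod, Nat.choose_self, one_mul, Nat.div_eq_of_lt (Nat.mod_lt m hp0),
          Nat.choose_zero_right] at hl
        have := natCast_eq_of_modEq (A := A) p hl
        rw [this, Nat.cast_one]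
      rw [hch, one_mul] at e1
      rw [e1]
      have hm3 : m / p < p ^ n := by
        rw [Nat.div_lt_iff_lt_mul hp0, ← pow_succ]; exact hm
      have e2 := ih1 (m / p) hm3
      have e3 : (fun l => c (p * p ^ l)) = (fun l => c (p ^ (l + 1))) := by
        funext l; rw [pow_succ']
      rw [e3] at e2
      simp only [pow_zero]
      rw [← e2]
      congr 1
      have e4 := hsmall (m % p) (Nat.mod_lt m hp0)
      have hu := isUnit_factorial (A := A) p (Nat.mod_lt m hp0)
      rw [← e4, ← mul_assoc, Ring.inverse_mul_cancel _ hu, one_mul]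
    · intro l hl
      cases l with
      | zero => rw [pow_zero]; exact hc1
      | succ l =>
        have := ih2 l (by omega)
        rw [pow_succ']
        exact this

end Char

section Mul

variable (p : ℕ) [hp : Fact p.Prime]

/-- abstract addition formula for truncated exponentials -/
theorem exp_add_of_nilp {B : Type*} [CommRing B] (γ : ℕ → B)
    (hγ : ∀ i j, i + j < p → γ (i + j) * ((i + j).choose i : B) = γ i * γ j)
    (u v : B) (huv : ∀ i j, i < p → j < p → p ≤ i + j → u ^ i * v ^ j = 0) :
    ∑ n ∈ Finset.range p, γ n * (u + v) ^ n =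
      (∑ i ∈ Finset.range p, γ i * u ^ i) * (∑ j ∈ Finset.range p, γ j * v ^ j) := by
  rw [Finset.sum_mul_sum]
  -- restrict the inner sums on the right
  have hR : ∀ i ∈ Finset.range p, ∑ j ∈ Finset.range p, γ i * u ^ i * (γ j * v ^ j) =
      ∑ j ∈ Finset.range (p - i), γ i * u ^ i * (γ j * v ^ j) := by
    intro i hi
    symm
    apply Finset.sum_subset
    · intro j hj
      rw [Finset.mem_range] at hj ⊢
      omega
    · intro j hj hj'
      rw [Finset.mem_range] at hi hj hj'
      have : u ^ i * v ^ j = 0 := huv i j hi hj (by omega)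
      calc γ i * u ^ i * (γ j * v ^ j) = γ i * γ j * (u ^ i * v ^ j) := by ring
        _ = 0 := by rw [this, mul_zero]
  rw [Finset.sum_congr rfl hR]
  -- expand the left
  have hL : ∀ n ∈ Finset.range p, γ n * (u + v) ^ n =
      ∑ k ∈ Finset.Ico 0 (n + 1), γ k * u ^ k * (γ (n - k) * v ^ (n - k)) := by
    intro n hn
    rw [Finset.mem_range] at hn
    rw [add_pow, Finset.mul_sum, Finset.range_eq_Ico]
    refine Finset.sum_congr rfl (fun k hk => ?_)
    rw [Finset.mem_Ico] at hk
    have hk' : k + (n - k) = n := by omega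
    have := hγ k (n - k) (by omega)
    rw [hk'] at this
    calc γ n * (u ^ k * v ^ (n - k) * (n.choose k : B))
        = (γ n * (n.choose k : B)) * (u ^ k * v ^ (n - k)) := by ring
      _ = γ k * γ (n - k) * (u ^ k * v ^ (n - k)) := by rw [this]
      _ = _ := by ring
  rw [Finset.sum_congr rfl hL, Finset.range_eq_Ico,
    ← Finset.sum_Ico_Ico_comm 0 p (fun k n => γ k * u ^ k * (γ (n - k) * v ^ (n - k)))]
  refine Finset.sum_congr rfl (fun k hk => ?_)
  rw [Finset.sum_Ico_eq_sum_range, Finset.range_eq_Ico]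
  refine Finset.sum_congr rfl (fun j _ => ?_)
  rw [Nat.add_sub_cancel_left]

variable {A : Type u} [CommRing A] [CharP A p]

theorem inverse_factorial_mul_choose (i j : ℕ) (h : i + j < p) :
    Ring.inverse (((i + j).factorial : ℕ) : A) * ((i + j).choose i : A) =
      Ring.inverse ((i.factorial : ℕ) : A) * Ring.inverse ((j.factorial : ℕ) : A) := by
  have hu := isUnit_factorial (A := A) p h
  have hi := isUnit_factorial (A := A) p (show i < p by omega)
  have hj := isUnit_factorial (A := A) p (show j < p by omega)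
  have e : (((i + j).factorial : ℕ) : A) =
      ((i + j).choose i : A) * ((i.factorial : ℕ) : A) * ((j.factorial : ℕ) : A) := by
    rw [← Nat.add_choose_mul_factorial_mul_factorial i j, Nat.choose_symm_add]
    push_cast
    ring
  have h1 : ((i + j).choose i : A) =
      (((i + j).factorial : ℕ) : A) * (Ring.inverse ((i.factorial : ℕ) : A) *
        Ring.inverse ((j.factorial : ℕ) : A)) := by
    rw [e]
    calc ((i + j).choose i : A)
        = ((i + j).choose i : A) * ((((i.factorial : ℕ) : A) * Ring.inverse ((i.factorial : ℕ) : A)) *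
            (((j.factorial : ℕ) : A) * Ring.inverse ((j.factorial : ℕ) : A))) := by
          rw [Ring.mul_inverse_cancel _ hi, Ring.mul_inverse_cancel _ hj, mul_one, mul_one]
      _ = _ := by ring
  rw [h1, ← mul_assoc, Ring.inverse_mul_cancel _ hu, one_mul]

theorem aeval_expP {B : Type*} [CommRing B] [Algebra A B] (b : A) (q : ℕ) (x : B) :
    aeval x (expP p b q) = ∑ j ∈ Finset.range p,
      algebraMap A B (Ring.inverse ((j.factorial : ℕ) : A)) * (algebraMap A B b * x ^ q) ^ j := by
  unfold expP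
  rw [map_sum]
  refine Finset.sum_congr rfl (fun j _ => ?_)
  rw [map_mul, aeval_C, map_pow, aeval_X, map_mul, map_pow, mul_pow, ← pow_mul, mul_comm q j]
  ring

theorem aeval_expP_add {B : Type*} [CommRing B] [Algebra A B] [CharP B p] (b : A)
    (hb : b ^ p = 0) (l : ℕ) (x y : B) :
    aeval (x + y) (expP p b (p ^ l)) =
      aeval x (expP p b (p ^ l)) * aeval y (expP p b (p ^ l)) := by
  rw [aeval_expP, aeval_expP, aeval_expP, add_pow_char_pow, mul_add]
  apply exp_add_of_nilp p
  · intro i j hij
    have := congrArg (algebraMap A B) (inverse_factorial_mul_choose (A := A) p i j hij)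
    rw [map_mul, map_mul, map_natCast] at this
    exact this
  · intro i j _ _ hij
    have hbz : algebraMap A B b ^ (i + j) = 0 := by
      have : b ^ (i + j) = 0 := by
        obtain ⟨t, ht⟩ := Nat.exists_eq_add_of_le hij
        rw [ht, pow_add, hb, zero_mul]
      rw [← map_pow, this, map_zero]
    calc (algebraMap A B b * x ^ p ^ l) ^ i * (algebraMap A B b * y ^ p ^ l) ^ j
        = algebraMap A B b ^ (i + j) * ((x ^ p ^ l) ^ i * (y ^ p ^ l) ^ j) := by
          rw [pow_add]; ring
      _ = 0 := by rw [hbz, zero_mul]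

theorem aeval_P_add {B : Type*} [CommRing B] [Algebra A B] [CharP B p] (N : ℕ) (a : ℕ → A)
    (ha : ∀ l, l < N → a l ^ p = 0) (x y : B) :
    aeval (x + y) (P p N a) = aeval x (P p N a) * aeval y (P p N a) := by
  unfold P
  rw [map_prod, map_prod, map_prod, ← Finset.prod_mul_distrib]
  refine Finset.prod_congr rfl (fun l hl => ?_)
  exact aeval_expP_add p (a l) (ha l (Finset.mem_range.1 hl)) l x y

end Mul

section Glue

variable {A : Type u} [CommRing A]

/-- `A[X₀,X₁] → A[X][Y]`, `X₀ ↦ X`, `X₁ ↦ Y`. -/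
noncomputable def Φ (A : Type u) [CommRing A] : MvPolynomial (Fin 2) A →ₐ[A] A[X][X] :=
  MvPolynomial.aeval ![C X, X]

theorem Φ_X0 : Φ A (MvPolynomial.X 0) = C X := by simp [Φ]

theorem Φ_X1 : Φ A (MvPolynomial.X 1) = X := by simp [Φ]

theorem Φ_aeval (f : A[X]) (g : MvPolynomial (Fin 2) A) : Φ A (aeval g f) = aeval (Φ A g) f :=
  (aeval_algHom_apply (Φ A) g f).symm

theorem coeff_coeff_X_add_C_pow (n i j : ℕ) :
    (((X + C X : A[X][X]) ^ n).coeff j).coeff i = if n = i + j then ((i + j).choose i : A) else 0 := by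
  rw [coeff_X_add_C_pow, ← C_eq_natCast, coeff_mul_C, coeff_X_pow]
  by_cases h : n = i + j
  · subst h
    rw [if_pos rfl, if_pos (by omega), one_mul, Nat.choose_symm_add]
  · rw [if_neg h]
    by_cases h' : i = n - j
    · have : n < j := by omega
      rw [Nat.choose_eq_zero_of_lt this]
      simp
    · rw [if_neg h', zero_mul]

theorem coeff_coeff_aeval_add (f : A[X]) (i j : ℕ) :
    ((aeval (X + C X : A[X][X]) f).coeff j).coeff i = ((i + j).choose i : A) * f.coeff (i + j) := by
  induction f using Polynomial.induction_on' with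
  | add f g hf hg => rw [map_add, coeff_add, coeff_add, coeff_add, mul_add, hf, hg]
  | monomial n a =>
    rw [aeval_monomial, coeff_monomial]
    have : algebraMap A A[X][X] a = C (C a) := rfl
    rw [this, coeff_C_mul, coeff_C_mul, coeff_coeff_X_add_C_pow]
    split_ifs <;> ring

theorem aeval_C_X (f : A[X]) : aeval (C X : A[X][X]) f = C f := by
  have := aeval_algHom_apply (CAlgHom : A[X] →ₐ[A] A[X][X]) (X : A[X]) f
  rw [aeval_X_left_apply] at this
  exact this

theorem coeff_coeff_aeval_mul (f : A[X]) (i j : ℕ) :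
    ((aeval (C X : A[X][X]) f * aeval (X : A[X][X]) f).coeff j).coeff i = f.coeff i * f.coeff j := by
  rw [aeval_C_X, aeval_X_left_eq_map, coeff_C_mul, coeff_map]
  have : algebraMap A A[X] (f.coeff j) = C (f.coeff j) := rfl
  rw [this, coeff_mul_C]

/-- the coefficient relations of a character -/
theorem coeff_rel (f : A[X])
    (h : aeval (MvPolynomial.X 0 + MvPolynomial.X 1 : MvPolynomial (Fin 2) A) f =
      aeval (MvPolynomial.X 0 : MvPolynomial (Fin 2) A) f *
        aeval (MvPolynomial.X 1 : MvPolynomial (Fin 2) A) f) (i j : ℕ) :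
    ((i + j).choose i : A) * f.coeff (i + j) = f.coeff i * f.coeff j := by
  have h' := congrArg (Φ A) h
  rw [map_mul, Φ_aeval, Φ_aeval, Φ_aeval, map_add, Φ_X0, Φ_X1, add_comm] at h'
  rw [← coeff_coeff_aeval_add, h', coeff_coeff_aeval_mul]

theorem coeff_coeff_eq_zero_of_mem (q : ℕ) (g : A[X][X])
    (hg : g ∈ Ideal.span {(C (X ^ q) : A[X][X]), X ^ q}) (i j : ℕ) (hi : i < q) (hj : j < q) :
    (g.coeff j).coeff i = 0 := by
  obtain ⟨u, v, rfl⟩ := Ideal.mem_span_pair.1 hg
  rw [coeff_add, coeff_add, coeff_mul_C, coeff_mul_X_pow', coeff_mul_X_pow', if_neg (by omega),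
    if_neg (by omega)]
  simp

/-- the coefficient relations of a truncated character -/
theorem coeff_rel_trunc (f : A[X]) (q : ℕ)
    (h : Ideal.Quotient.mk
        (Ideal.span {(MvPolynomial.X 0 ^ q : MvPolynomial (Fin 2) A), MvPolynomial.X 1 ^ q})
        (aeval (MvPolynomial.X 0 + MvPolynomial.X 1 : MvPolynomial (Fin 2) A) f) =
      Ideal.Quotient.mk
        (Ideal.span {(MvPolynomial.X 0 ^ q : MvPolynomial (Fin 2) A), MvPolynomial.X 1 ^ q})
        (aeval (MvPolynomial.X 0 : MvPolynomial (Fin 2) A) f *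
          aeval (MvPolynomial.X 1 : MvPolynomial (Fin 2) A) f)) (i j : ℕ) (hi : i < q) (hj : j < q) :
    ((i + j).choose i : A) * f.coeff (i + j) = f.coeff i * f.coeff j := by
  rw [Ideal.Quotient.eq] at h
  have h1 := Ideal.mem_map_of_mem (Φ A).toRingHom h
  rw [Ideal.map_span, Set.image_pair] at h1
  have h2 : (Φ A).toRingHom (aeval (MvPolynomial.X 0 + MvPolynomial.X 1 : MvPolynomial (Fin 2) A) f -
      aeval (MvPolynomial.X 0 : MvPolynomial (Fin 2) A) f *
        aeval (MvPolynomial.X 1 : MvPolynomial (Fin 2) A) f) =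
      aeval (X + C X : A[X][X]) f - aeval (C X : A[X][X]) f * aeval (X : A[X][X]) f := by
    show Φ A _ = _
    rw [map_sub, map_mul, Φ_aeval, Φ_aeval, Φ_aeval, map_add, Φ_X0, Φ_X1, add_comm]
  have h3 : (Φ A).toRingHom (MvPolynomial.X 0 ^ q) = C (X ^ q) := by
    show Φ A _ = _
    rw [map_pow, Φ_X0, C_pow]
  have h4 : (Φ A).toRingHom (MvPolynomial.X 1 ^ q) = X ^ q := by
    show Φ A _ = _
    rw [map_pow, Φ_X1]
  rw [h2, h3, h4] at h1
  have h5 := coeff_coeff_eq_zero_of_mem q _ h1 i j hi hj
  rw [coeff_sub, coeff_sub, coeff_coeff_aeval_add, coeff_coeff_aeval_mul, sub_eq_zero] at h5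
  exact h5

end Glue

section PS

variable {A : Type u} [CommRing A]

theorem fin2_single_add_eq_iff (k m i j : ℕ) :
    (Finsupp.single (0 : Fin 2) k + Finsupp.single 1 m = Finsupp.single (0 : Fin 2) i + Finsupp.single 1 j)
      ↔ k = i ∧ m = j := by
  constructor
  · intro h
    have h0 := DFunLike.congr_fun h 0
    have h1 := DFunLike.congr_fun h 1
    simp at h0 h1
    exact ⟨h0, h1⟩
  · rintro ⟨rfl, rfl⟩; rfl

theorem coeff_X0_add_X1_pow (d i j : ℕ) :
    MvPowerSeries.coeff (Finsupp.single (0 : Fin 2) i + Finsupp.single 1 j)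
      ((MvPowerSeries.X 0 + MvPowerSeries.X 1 : MvPowerSeries (Fin 2) A) ^ d) =
      if d = i + j then ((i + j).choose i : A) else 0 := by
  classical
  rw [add_pow, map_sum]
  have hterm : ∀ k ∈ Finset.range (d + 1),
      MvPowerSeries.coeff (Finsupp.single (0 : Fin 2) i + Finsupp.single 1 j)
        ((MvPowerSeries.X 0 : MvPowerSeries (Fin 2) A) ^ k * MvPowerSeries.X 1 ^ (d - k) *
          (d.choose k : MvPowerSeries (Fin 2) A)) =
      if k = i ∧ d - k = j then (d.choose k : A) else 0 := by
    intro k _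
    rw [MvPowerSeries.X_pow_eq, MvPowerSeries.X_pow_eq, MvPowerSeries.monomial_mul_monomial,
      ← map_natCast (MvPowerSeries.C (σ := Fin 2) (R := A)), MvPowerSeries.coeff_mul_C,
      MvPowerSeries.coeff_monomial, one_mul]
    by_cases h : k = i ∧ d - k = j
    · rw [if_pos h, if_pos, one_mul]
      exact ((fin2_single_add_eq_iff k (d - k) i j).2 h).symm
    · rw [if_neg h, if_neg, zero_mul]
      intro h'
      exact h ((fin2_single_add_eq_iff k (d - k) i j).1 h'.symm)
  rw [Finset.sum_congr rfl hterm]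
  by_cases hd : d = i + j
  · subst hd
    rw [if_pos rfl, Finset.sum_eq_single i]
    · rw [if_pos ⟨rfl, by omega⟩]
    · intro k _ hk
      rw [if_neg (fun h => hk h.1)]
    · intro h
      exfalso; apply h
      rw [Finset.mem_range]; omega
  · rw [if_neg hd]
    apply Finset.sum_eq_zero
    intro k hk
    rw [Finset.mem_range] at hk
    rw [if_neg]
    rintro ⟨rfl, h2⟩
    apply hd; omega

theorem coeff_subst_add (χ : PowerSeries A) (i j : ℕ) :
    MvPowerSeries.coeff (Finsupp.single (0 : Fin 2) i + Finsupp.single 1 j)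
      (PowerSeries.subst (MvPowerSeries.X 0 + MvPowerSeries.X 1 : MvPowerSeries (Fin 2) A) χ) =
      ((i + j).choose i : A) * PowerSeries.coeff (i + j) χ := by
  have hs : PowerSeries.HasSubst (MvPowerSeries.X 0 + MvPowerSeries.X 1 : MvPowerSeries (Fin 2) A) :=
    (PowerSeries.HasSubst.X 0).add (PowerSeries.HasSubst.X 1)
  rw [PowerSeries.coeff_subst hs, finsum_eq_single _ (i + j)]
  · rw [coeff_X0_add_X1_pow, if_pos rfl, smul_eq_mul, mul_comm]
  · intro d hd
    rw [coeff_X0_add_X1_pow, if_neg hd, smul_zero]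

theorem coeff_subst_mul (χ : PowerSeries A) (i j : ℕ) :
    MvPowerSeries.coeff (Finsupp.single (0 : Fin 2) i + Finsupp.single 1 j)
      (PowerSeries.subst (MvPowerSeries.X 0 : MvPowerSeries (Fin 2) A) χ *
        PowerSeries.subst (MvPowerSeries.X 1 : MvPowerSeries (Fin 2) A) χ) =
      PowerSeries.coeff i χ * PowerSeries.coeff j χ := by
  classical
  rw [MvPowerSeries.coeff_mul, Finset.sum_eq_single (Finsupp.single (0 : Fin 2) i, Finsupp.single 1 j)]
  · rw [PowerSeries.coeff_subst_single, PowerSeries.coeff_subst_single]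
    simp
  · rintro ⟨e1, e2⟩ he hne
    rw [Finset.HasAntidiagonal.mem_antidiagonal] at he
    simp only at he
    rw [PowerSeries.coeff_subst_single, PowerSeries.coeff_subst_single]
    by_cases h1 : e1 = Finsupp.single 0 (e1 0)
    · by_cases h2 : e2 = Finsupp.single 1 (e2 1)
      · exfalso
        apply hne
        rw [h1, h2] at he
        have := (fin2_single_add_eq_iff (e1 0) (e2 1) i j).1 he
        rw [h1, h2, this.1, this.2]
      · rw [if_neg h2, mul_zero]
    · rw [if_neg h1, zero_mul]
  · intro h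
    exfalso; apply h
    rw [Finset.HasAntidiagonal.mem_antidiagonal]


theorem fin2_eq_single_add (e : Fin 2 →₀ ℕ) :
    e = Finsupp.single (0 : Fin 2) (e 0) + Finsupp.single 1 (e 1) := by
  ext x
  fin_cases x <;> simp

end PS

section Main

variable (p : ℕ) [hp : Fact p.Prime] {A : Type u} [CommRing A] [CharP A p]

theorem P_def (N : ℕ) (a : ℕ → A) :
    P p N a = ∏ l ∈ Finset.range N, ∑ j ∈ Finset.range p,
      C (Ring.inverse ((j.factorial : ℕ) : A) * a l ^ j) * X ^ (j * p ^ l) := rfl

theorem P_congr (N : ℕ) (a a' : ℕ → A) (h : ∀ l, l < N → a l = a' l) : P p N a = P p N a' := by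
  unfold P
  refine Finset.prod_congr rfl (fun l hl => ?_)
  rw [h l (Finset.mem_range.1 hl)]

/-- a polynomial of degree `< p^n` satisfying the character relations below `p^n` is a product of
truncated exponentials -/
theorem eq_P_of_char (n : ℕ) (f : A[X]) (hdeg : f.natDegree < p ^ n) (h0 : f.coeff 0 = 1)
    (hrel : ∀ i j, i < p ^ n → j < p ^ n →
      ((i + j).choose i : A) * f.coeff (i + j) = f.coeff i * f.coeff j) :
    ∃ a : ℕ → A, (∀ i, a i ^ p = 0) ∧ f = P p n a := by
  obtain ⟨h1, h2⟩ := char_coeff p n f.coeff h0 hrel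
  refine ⟨fun l => if l < n then f.coeff (p ^ l) else 0, ?_, ?_⟩
  · intro i
    by_cases hi : i < n
    · simp only [if_pos hi]; exact h2 i hi
    · simp only [if_neg hi]; exact zero_pow hp.out.ne_zero
  · rw [P_congr p n _ (fun l => f.coeff (p ^ l)) (fun l hl => by simp only [if_pos hl])]
    ext m
    by_cases hm : m < p ^ n
    · exact h1 m hm
    · rw [coeff_P_eq_zero p n _ m (not_lt.1 hm),
        coeff_eq_zero_of_natDegree_lt (lt_of_lt_of_le hdeg (not_lt.1 hm))]

theorem eval_zero_P (N : ℕ) (a : ℕ → A) : (P p N a).eval 0 = 1 := by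
  rw [← coeff_zero_eq_eval_zero, coeff_P_zero]

end Main

end Groth.Agent.Lib.Helper67.ExpP
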