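import Mathlib
import Groth.Agent.Lib.Helper11.IntegralDim
import Groth.Agent.Lib.Helper62.DimLoc2

set_option autoImplicit false
set_option linter.style.haveILetI false
universe u
open TensorProduct

namespace Groth.Agent.Lib.Helper67.FieldExtDim


/-- base change of an integral algebra map along a field extension is integral. -/
theorem isIntegral_baseChange {k K P S : Type*} [CommRing k] [CommRing K] [CommRing P] [CommRing S]
    [Algebra k K] [Algebra k P] [Algebra k S] (g : P →ₐ[k] S) (hg : g.toRingHom.IsIntegral) :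
    (Algebra.TensorProduct.map (AlgHom.id K K) g).toRingHom.IsIntegral := by
  set Θ := Algebra.TensorProduct.map (AlgHom.id K K) g with hΘ
  letI := Θ.toRingHom.toAlgebra
  letI := g.toRingHom.toAlgebra
  have h1 : ∀ s : S, IsIntegral (K ⊗[k] P) ((1 : K) ⊗ₜ[k] s) := by
    intro s
    have h0 : IsIntegral P s := hg s
    have hcomm : (algebraMap (K ⊗[k] P) (K ⊗[k] S)).comp
        (Algebra.TensorProduct.includeRight (R := k) (A := K) (B := P)).toRingHom =
        (Algebra.TensorProduct.includeRight (R := k) (A := K) (B := S)).toRingHom.comp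
          (algebraMap P S) := by
      refine RingHom.ext fun x => ?_
      simp [RingHom.algebraMap_toAlgebra, hΘ]
    exact IsIntegral.map_of_comp_eq _ _ hcomm h0
  intro x
  induction x using TensorProduct.induction_on with
  | zero => exact isIntegral_zero
  | tmul c s =>
    have : c ⊗ₜ[k] s = algebraMap (K ⊗[k] P) (K ⊗[k] S) (c ⊗ₜ[k] 1) * ((1 : K) ⊗ₜ[k] s) := by
      simp [RingHom.algebraMap_toAlgebra, hΘ]
    show IsIntegral (K ⊗[k] P) (c ⊗ₜ[k] s)
    rw [this]
    exact (isIntegral_algebraMap).mul (h1 s)
  | add x y hx hy => exact IsIntegral.add hx hy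

/-- the Krull dimension of a finite type algebra over a field is invariant under extension of the
base field. -/
theorem ringKrullDim_tensor_field (k S K : Type u) [Field k] [CommRing S] [Algebra k S]
    [Algebra.FiniteType k S] [Field K] [Algebra k K] :
    ringKrullDim (S ⊗[k] K) = ringKrullDim S := by
  rw [ringKrullDim_eq_of_ringEquiv (Algebra.TensorProduct.comm k S K).toRingEquiv]
  by_cases hS : Nontrivial S
  · obtain ⟨s, g, hinj, hfin⟩ := exists_finite_inj_algHom_of_fg k S
    have hgint : g.toRingHom.IsIntegral := RingHom.Finite.to_isIntegral hfin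
    have h1 : ringKrullDim S = ringKrullDim (MvPolynomial (Fin s) k) := by
      letI := g.toRingHom.toAlgebra
      haveI : Algebra.IsIntegral (MvPolynomial (Fin s) k) S := ⟨hgint⟩
      exact Groth.Agent.Lib.Helper11.IntegralDim.ringKrullDim_eq_of_isIntegral_of_injective hinj
    set Θ := Algebra.TensorProduct.map (AlgHom.id K K) g with hΘ
    have hΘint := isIntegral_baseChange (K := K) g hgint
    have hΘinj : Function.Injective Θ :=
      Module.Flat.lTensor_preserves_injective_linearMap (M := K) g.toLinearMap hinj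
    have h2 : ringKrullDim (K ⊗[k] S) = ringKrullDim (K ⊗[k] MvPolynomial (Fin s) k) := by
      letI := Θ.toRingHom.toAlgebra
      haveI : Algebra.IsIntegral (K ⊗[k] MvPolynomial (Fin s) k) (K ⊗[k] S) := ⟨hΘint⟩
      exact Groth.Agent.Lib.Helper11.IntegralDim.ringKrullDim_eq_of_isIntegral_of_injective hΘinj
    rw [h1, h2, ringKrullDim_eq_of_ringEquiv
      (MvPolynomial.algebraTensorAlgEquiv (σ := Fin s) k K).toRingEquiv,
      MvPolynomial.ringKrullDim_of_isNoetherianRing, MvPolynomial.ringKrullDim_of_isNoetherianRing,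
      ringKrullDim_eq_zero_of_field, ringKrullDim_eq_zero_of_field]
  · rw [not_nontrivial_iff_subsingleton] at hS
    haveI : Subsingleton (K ⊗[k] S) := by
      refine ⟨fun a b => ?_⟩
      have h1 : (1 : K ⊗[k] S) = 0 := by
        rw [Algebra.TensorProduct.one_def, Subsingleton.elim (1 : S) 0, TensorProduct.tmul_zero]
      rw [← mul_one a, ← mul_one b, h1, mul_zero, mul_zero]
    rw [ringKrullDim_eq_bot_of_subsingleton, ringKrullDim_eq_bot_of_subsingleton]



/-- going-down: dimension of a basic open below is at most the dimension of a basic open above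
covering it. -/
theorem ringKrullDim_away_le_of_goingDown {R T : Type*} [CommRing R] [CommRing T] [Algebra R T]
    [IsNoetherianRing R] [IsNoetherianRing T] [Algebra.HasGoingDown R T] (g : R) (h : T)
    (H : ∀ P : Ideal R, P.IsPrime → g ∉ P → ∃ P' : Ideal T, P'.IsPrime ∧ h ∉ P' ∧ P'.under R = P) :
    ringKrullDim (Localization.Away g) ≤ ringKrullDim (Localization.Away h) := by
  apply Groth.Agent.Lib.Helper62.DimLoc.ringKrullDim_away_le
  intro P hP hg
  obtain ⟨P', hP', hh, hu⟩ := H P hP hg
  haveI := hP
  haveI := hP'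
  haveI : P'.LiesOver P := ⟨hu.symm⟩
  have h1 := Ideal.height_eq_height_add_of_liesOver_of_hasGoingDown P P'
  have h2 : P.height ≤ P'.height := by
    rw [h1]
    exact le_self_add
  exact le_trans (WithBot.coe_le_coe.mpr h2)
    (Groth.Agent.Lib.Helper62.DimLoc.height_le_ringKrullDim_away T h P' hh)

/-- localization away from `g ⊗ 1` of a tensor product. -/
theorem ringKrullDim_away_tmul (k S K : Type u) [CommRing k] [CommRing S] [Algebra k S]
    [CommRing K] [Algebra k K] (g : S) :
    ringKrullDim (Localization.Away (g ⊗ₜ[k] (1 : K))) =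
      ringKrullDim (Localization.Away g ⊗[k] K) := by
  letI : Algebra (S ⊗[k] K) (Localization.Away g ⊗[k] K) :=
    (Algebra.TensorProduct.map (IsScalarTower.toAlgHom k S (Localization.Away g))
      (AlgHom.id k K)).toRingHom.toAlgebra
  haveI : IsScalarTower S (S ⊗[k] K) (Localization.Away g ⊗[k] K) :=
    IsScalarTower.of_algebraMap_eq (fun x => by
      simp [RingHom.algebraMap_toAlgebra, Algebra.TensorProduct.algebraMap_apply])
  haveI := IsLocalization.tensorProduct_tensorProduct k K (Submonoid.powers g)
    (Localization.Away g) (by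
      refine RingHom.ext fun x => ?_
      simp [RingHom.algebraMap_toAlgebra])
  have hg : algebraMap S (S ⊗[k] K) g = g ⊗ₜ[k] (1 : K) := by
    simp [Algebra.TensorProduct.algebraMap_apply]
  rw [Algebra.algebraMapSubmonoid_powers, hg] at this
  have e : Localization.Away (g ⊗ₜ[k] (1 : K)) ≃ₐ[S ⊗[k] K] Localization.Away g ⊗[k] K :=
    IsLocalization.algEquiv (Submonoid.powers (g ⊗ₜ[k] (1 : K))) _ _
  exact ringKrullDim_eq_of_ringEquiv e.toRingEquiv


/-- `S ⊗[k] K` is of finite type over `K` (right algebra structure). -/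
theorem finiteType_tensor_right (k S K : Type u) [Field k] [CommRing S] [Algebra k S]
    [Algebra.FiniteType k S] [Field K] [Algebra k K] :
    letI : Algebra K (S ⊗[k] K) := Algebra.TensorProduct.rightAlgebra
    Algebra.FiniteType K (S ⊗[k] K) := by
  letI : Algebra K (S ⊗[k] K) := Algebra.TensorProduct.rightAlgebra
  exact Algebra.FiniteType.equiv (inferInstance : Algebra.FiniteType K (K ⊗[k] S))
    (Algebra.TensorProduct.commRight k K S)

theorem isNoetherianRing_tensor (k S K : Type u) [Field k] [CommRing S] [Algebra k S]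
    [Algebra.FiniteType k S] [Field K] [Algebra k K] : IsNoetherianRing (S ⊗[k] K) := by
  letI : Algebra K (S ⊗[k] K) := Algebra.TensorProduct.rightAlgebra
  haveI := finiteType_tensor_right k S K
  exact Algebra.FiniteType.isNoetherianRing K (S ⊗[k] K)

/-- the local dimension of a finite type algebra over a field is invariant under extension of the
base field. -/
theorem localDim_tensor_field (k S K : Type u) [Field k] [CommRing S] [Algebra k S]
    [Algebra.FiniteType k S] [Field K] [Algebra k K] (q : Ideal S) [hq : q.IsPrime]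
    (qK : Ideal (S ⊗[k] K)) [hqK : qK.IsPrime] [qK.LiesOver q] :
    FlatMor.localDim (PrimeSpectrum (S ⊗[k] K)) ⟨qK, hqK⟩ =
      FlatMor.localDim (PrimeSpectrum S) ⟨q, hq⟩ := by
  haveI : IsNoetherianRing S := Algebra.FiniteType.isNoetherianRing k S
  haveI : IsNoetherianRing (S ⊗[k] K) := isNoetherianRing_tensor k S K
  rw [Groth.Agent.Lib.Helper62.DimLoc.localDim_eq_iInf_away,
    Groth.Agent.Lib.Helper62.DimLoc.localDim_eq_iInf_away]
  apply le_antisymm
  · refine le_iInf fun g => ?_
    have hg : g.1 ⊗ₜ[k] (1 : K) ∉ qK := by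
      intro h
      apply g.2
      have h1 : g.1 ∈ qK.under S := by
        rw [Ideal.under, Ideal.mem_comap, Algebra.TensorProduct.algebraMap_apply]
        simpa using h
      rwa [← Ideal.LiesOver.over (p := q) (P := qK)] at h1
    refine le_trans (iInf_le _ ⟨g.1 ⊗ₜ[k] (1 : K), hg⟩) ?_
    haveI : Algebra.FiniteType k (Localization.Away g.1) :=
      Algebra.FiniteType.trans (inferInstance : Algebra.FiniteType k S)
        (IsLocalization.finiteType_of_monoid_fg (Submonoid.powers g.1) (Localization.Away g.1))
    show ringKrullDim (Localization.Away (g.1 ⊗ₜ[k] (1 : K))) ≤ _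
    rw [ringKrullDim_away_tmul, ringKrullDim_tensor_field]
  · refine le_iInf fun h => ?_
    have hopen := PrimeSpectrum.isOpenMap_comap_algebraMap_tensorProduct_of_field (K := k) (A := S)
      (B := K) _ (PrimeSpectrum.basicOpen h.1).isOpen
    have hqmem : (⟨q, hq⟩ : PrimeSpectrum S) ∈
        PrimeSpectrum.comap (algebraMap S (S ⊗[k] K)) '' (PrimeSpectrum.basicOpen h.1 : Set _) :=
      ⟨⟨qK, hqK⟩, h.2, PrimeSpectrum.ext (Ideal.LiesOver.over (p := q) (P := qK)).symm⟩
    obtain ⟨_, ⟨g, rfl⟩, hqg, hgU⟩ :=
      PrimeSpectrum.isTopologicalBasis_basic_opens.exists_subset_of_mem_open hqmem hopen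
    refine le_trans (iInf_le _ ⟨g, hqg⟩) ?_
    apply ringKrullDim_away_le_of_goingDown g h.1
    intro P hP hgP
    obtain ⟨P', hP'h, hP'P⟩ := hgU (show (⟨P, hP⟩ : PrimeSpectrum S) ∈
      (PrimeSpectrum.basicOpen g : Set _) from hgP)
    exact ⟨P'.asIdeal, P'.2, hP'h, congrArg PrimeSpectrum.asIdeal hP'P⟩

end Groth.Agent.Lib.Helper67.FieldExtDim
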