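import Mathlib
set_option autoImplicit false
universe u
open AlgebraicGeometry CategoryTheory Limits

namespace Groth.Agent.Lib.Helper67.GenFibre

instance quasiCompact_fromSpecStalk_genericPoint (T : Scheme.{u}) [IsIntegral T] :
    QuasiCompact (T.fromSpecStalk (genericPoint T)) := by
  have hall : ∀ a : Spec (T.presheaf.stalk (genericPoint T)),
      T.fromSpecStalk (genericPoint T) a = genericPoint T := by
    intro a
    have h1 : T.fromSpecStalk (genericPoint T) a ⤳ genericPoint T := by
      have : T.fromSpecStalk (genericPoint T) a ∈ Set.range (T.fromSpecStalk (genericPoint T)) :=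
        ⟨a, rfl⟩
      rwa [Scheme.range_fromSpecStalk] at this
    have h2 : genericPoint T ⤳ T.fromSpecStalk (genericPoint T) a :=
      (genericPoint_spec T).specializes (Set.mem_univ _)
    exact (h1.antisymm h2).eq
  haveI : Subsingleton (Spec (T.presheaf.stalk (genericPoint T))) :=
    ⟨fun a b => (T.fromSpecStalk (genericPoint T)).isEmbedding.injective
      ((hall a).trans (hall b).symm)⟩
  rw [quasiCompact_iff]
  intro V _ _
  exact (Set.toFinite _).isCompact

instance isDominant_fromSpecStalk_genericPoint (T : Scheme.{u}) [IsIntegral T] :
    IsDominant (T.fromSpecStalk (genericPoint T)) := by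
  constructor
  intro t
  have h1 : genericPoint T ⤳ t := (genericPoint_spec T).specializes (Set.mem_univ t)
  have h2 : ({genericPoint T} : Set T) ⊆ Set.range (T.fromSpecStalk (genericPoint T)) := by
    rintro _ rfl
    exact ⟨_, Scheme.fromSpecStalk_closedPoint⟩
  exact closure_mono h2 (specializes_iff_mem_closure.mp h1)

instance isSchemeTheoreticallyDominant_fromSpecStalk_genericPoint (T : Scheme.{u}) [IsIntegral T] :
    IsSchemeTheoreticallyDominant (T.fromSpecStalk (genericPoint T)) :=
  IsSchemeTheoreticallyDominant.of_isDominant _

end Groth.Agent.Lib.Helper67.GenFibre
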