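import Groth.Agent.Lib.Helper67.LinRedMod

/-!
# The fundamental theorem of Hopf modules (helper67)

`A` a commutative Hopf algebra over a field `K`, `M` an `A`-module with compatible `A`-coaction
(`TameAct.IsHopfMod K A A M`, `A` coacting on itself by comultiplication).

* `proj m = Σ S(m₁) • m₀`; `proj_mem_fixedPts`.
* `smulMap_projT_coact : m = Σ m₂ • proj... ` i.e. `m = Φ ((proj ⊗ id) (ρ m))`.
* `projT_coact_smul : (proj ⊗ id) (ρ (a • n)) = n ⊗ a` for invariant `n`.
* `span_fixedPts_eq_top`, `linearIndependent_of_fixedPts`.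
-/

set_option autoImplicit false
universe u v

open TensorProduct WithConv

namespace Groth.Agent.Lib.Helper67.HopfMod

open Groth.Agent.Lib.Helper75 Groth.Agent.Lib.Helper67.LinRed

section Key

variable {K : Type u} [Field K] {A : Type v} [CommRing A] [HopfAlgebra K A]

/-- `Δ = ι₁ * ι₂` in the convolution group of algebra maps `A → A ⊗ A`. -/
theorem comul_eq_convMul :
    toConv (Bialgebra.comulAlgHom K A) =
      toConv (Algebra.TensorProduct.includeLeft : A →ₐ[K] A ⊗[K] A) *
        toConv (Algebra.TensorProduct.includeRight : A →ₐ[K] A ⊗[K] A) := by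
  apply WithConv.ofConv_injective
  apply AlgHom.ext
  intro a
  show Bialgebra.comulAlgHom K A a = _
  rw [AlgHom.convMul_apply]
  simp only [ofConv_toConv, Bialgebra.comulAlgHom_apply]
  generalize CoalgebraStruct.comul (R := K) a = x
  induction x using TensorProduct.induction_on with
  | zero => simp
  | tmul b c => simp
  | add x y hx hy => rw [map_add, ← hx, ← hy]

theorem grp_aux {G : Type*} [Group G] (x y d : G) (h : d = x * y) : y * d⁻¹ = x⁻¹ := by
  subst h; group

/-- The key identity `Σ Δ(S a₂) (1 ⊗ a₁) = S a ⊗ 1`. -/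
theorem key_identity (a : A) :
    Algebra.TensorProduct.lift (Algebra.TensorProduct.includeRight : A →ₐ[K] A ⊗[K] A)
      ((Bialgebra.comulAlgHom K A).comp (HopfAlgebra.antipodeAlgHom K A)) (fun _ _ => .all ..)
      (CoalgebraStruct.comul (R := K) a) = HopfAlgebraStruct.antipode (R := K) a ⊗ₜ[K] (1 : A) := by
  have h : toConv (Algebra.TensorProduct.includeRight : A →ₐ[K] A ⊗[K] A) *
      (toConv (Bialgebra.comulAlgHom K A))⁻¹ =
      (toConv (Algebra.TensorProduct.includeLeft : A →ₐ[K] A ⊗[K] A))⁻¹ :=
    grp_aux (G := WithConv (A →ₐ[K] A ⊗[K] A)) _ _ _ comul_eq_convMul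
  have h' := congrArg (fun f => f.ofConv a) h
  have h'' := AlgHom.convMul_apply (toConv (Algebra.TensorProduct.includeRight : A →ₐ[K] A ⊗[K] A))
      (toConv (Bialgebra.comulAlgHom K A))⁻¹ a
  exact h''.symm.trans h'

end Key

section Mod

variable {K : Type u} [Field K] {A : Type v} [CommRing A] [HopfAlgebra K A]
variable {M : Type v} [AddCommGroup M] [Module K M] [Module A M] [IsScalarTower K A M]
  [HopfRep.Comod K A M] [TameAct.IsHopfMod K A A M]

/-- `m ⊗ a ↦ S(a) • m`. -/
noncomputable def pmap (K : Type u) [Field K] (A : Type v) [CommRing A] [HopfAlgebra K A]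
    (M : Type v) [AddCommGroup M] [Module K M] [Module A M] [IsScalarTower K A M] :
    M ⊗[K] A →ₗ[K] M :=
  TensorProduct.lift
    ((Algebra.lsmul K K M : A →ₐ[K] Module.End K M).toLinearMap ∘ₗ
      HopfAlgebraStruct.antipode (R := K) (A := A)).flip

omit [HopfRep.Comod K A M] [TameAct.IsHopfMod K A A M] in
@[simp] theorem pmap_tmul (m : M) (a : A) :
    pmap K A M (m ⊗ₜ[K] a) = HopfAlgebraStruct.antipode (R := K) a • m := by
  simp [pmap]

/-- `m ⊗ a ↦ a • m`. -/
noncomputable def smulMap (K : Type u) [Field K] (A : Type v) [CommRing A] [Algebra K A]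
    (M : Type v) [AddCommGroup M] [Module K M] [Module A M] [IsScalarTower K A M] :
    M ⊗[K] A →ₗ[K] M :=
  TensorProduct.lift ((Algebra.lsmul K K M : A →ₐ[K] Module.End K M).toLinearMap).flip

omit [HopfRep.Comod K A M] [TameAct.IsHopfMod K A A M] in
@[simp] theorem smulMap_tmul (m : M) (a : A) : smulMap K A M (m ⊗ₜ[K] a) = a • m := by
  simp [smulMap]

/-- The projection onto the coinvariants: `m ↦ Σ S(m₁) • m₀`. -/
noncomputable def proj (K : Type u) [Field K] (A : Type v) [CommRing A] [HopfAlgebra K A]
    (M : Type v) [AddCommGroup M] [Module K M] [Module A M] [IsScalarTower K A M]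
    [HopfRep.Comod K A M] : M →ₗ[K] M :=
  pmap K A M ∘ₗ coactMap K A M

/-- `x ⊗ y ↦ x • m ⊗ y`. -/
noncomputable def actm (m : M) : A ⊗[K] A →ₗ[K] M ⊗[K] A :=
  ((LinearMap.toSpanSingleton A M m).restrictScalars K).rTensor A

omit [HopfRep.Comod K A M] [TameAct.IsHopfMod K A A M] in
@[simp] theorem actm_tmul (m : M) (x y : A) : actm (K := K) m (x ⊗ₜ[K] y) = (x • m) ⊗ₜ[K] y := by
  simp [actm]

omit [HopfRep.Comod K A M] [TameAct.IsHopfMod K A A M] in
theorem hmSMul_tmul_eq_actm (x : A ⊗[K] A) (m : M) (a : A) :
    TameAct.hmSMul K A A M x (m ⊗ₜ[K] a) = actm m (x * ((1 : A) ⊗ₜ[K] a)) := by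
  induction x using TensorProduct.induction_on with
  | zero => simp
  | tmul b c => simp [TameAct.hmSMul_tmul]
  | add x y hx hy => simp only [map_add, LinearMap.add_apply, add_mul, hx, hy]

/-- `(t, a) ↦ Δ(S a) · t`. -/
noncomputable def Hmap (K : Type u) [Field K] (A : Type v) [CommRing A] [HopfAlgebra K A]
    (M : Type v) [AddCommGroup M] [Module K M] [Module A M] [IsScalarTower K A M] :
    (M ⊗[K] A) ⊗[K] A →ₗ[K] M ⊗[K] A :=
  TensorProduct.lift
    ((TameAct.hmSMul K A A M ∘ₗ CoalgebraStruct.comul (R := K) (A := A) ∘ₗ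
      HopfAlgebraStruct.antipode (R := K) (A := A)).flip)

omit [HopfRep.Comod K A M] [TameAct.IsHopfMod K A A M] in
@[simp] theorem Hmap_tmul (t : M ⊗[K] A) (a : A) :
    Hmap K A M (t ⊗ₜ[K] a) =
      TameAct.hmSMul K A A M (CoalgebraStruct.comul (R := K) (HopfAlgebraStruct.antipode (R := K) a)) t := by
  simp [Hmap]

theorem coact_pmap (t : M ⊗[K] A) :
    coactMap K A M (pmap K A M t) = Hmap K A M ((coactMap K A M).rTensor A t) := by
  induction t using TensorProduct.induction_on with
  | zero => simp
  | tmul m a =>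
    rw [pmap_tmul, LinearMap.rTensor_tmul, Hmap_tmul]
    exact TameAct.IsHopfMod.coact_smul (k := K) (A := A) (B := A) _ m
  | add x y hx hy => simp only [map_add, hx, hy]

omit [HopfRep.Comod K A M] [TameAct.IsHopfMod K A A M] in
theorem Hmap_assoc_symm (t : M ⊗[K] A) :
    Hmap K A M ((TensorProduct.assoc K M A A).symm
      ((CoalgebraStruct.comul (R := K) (A := A)).lTensor M t)) = pmap K A M t ⊗ₜ[K] (1 : A) := by
  induction t using TensorProduct.induction_on with
  | zero => simp
  | add x y hx hy => simp only [map_add, hx, hy, TensorProduct.add_tmul]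
  | tmul m a =>
    rw [LinearMap.lTensor_tmul, pmap_tmul]
    have h : ∀ x : A ⊗[K] A, Hmap K A M ((TensorProduct.assoc K M A A).symm (m ⊗ₜ[K] x)) =
        actm m (Algebra.TensorProduct.lift (Algebra.TensorProduct.includeRight : A →ₐ[K] A ⊗[K] A)
          ((Bialgebra.comulAlgHom K A).comp (HopfAlgebra.antipodeAlgHom K A)) (fun _ _ => .all ..) x) := by
      intro x
      induction x using TensorProduct.induction_on with
      | zero => simp
      | add x y hx hy => simp only [TensorProduct.tmul_add, map_add, hx, hy]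
      | tmul a' a'' =>
        rw [TensorProduct.assoc_symm_tmul, Hmap_tmul, hmSMul_tmul_eq_actm]
        simp [mul_comm]
    rw [h, key_identity, actm_tmul]

/-- `proj m` is coinvariant. -/
theorem proj_mem_fixedPts (m : M) : proj K A M m ∈ HopfRep.fixedPts K A M := by
  show coactMap K A M (proj K A M m) = proj K A M m ⊗ₜ[K] (1 : A)
  unfold proj
  rw [LinearMap.comp_apply, coact_pmap]
  have hco := LinearMap.congr_fun (HopfRep.Comod.coassoc (k := K) (A := A) (V := M)) m
  simp only [LinearMap.coe_comp, LinearEquiv.coe_coe, Function.comp_apply] at hco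
  have h3 : (coactMap K A M).rTensor A (coactMap K A M m) =
      (TensorProduct.assoc K M A A).symm
        ((CoalgebraStruct.comul (R := K) (A := A)).lTensor M (coactMap K A M m)) := by
    rw [← hco, LinearEquiv.symm_apply_apply]
  rw [h3, Hmap_assoc_symm]

omit [HopfRep.Comod K A M] [TameAct.IsHopfMod K A A M] in
theorem smulMap_pmap_assoc_symm (t : M ⊗[K] A) :
    smulMap K A M ((pmap K A M).rTensor A ((TensorProduct.assoc K M A A).symm
      ((CoalgebraStruct.comul (R := K) (A := A)).lTensor M t))) =
    (TensorProduct.rid K M) ((CoalgebraStruct.counit (R := K) (A := A)).lTensor M t) := by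
  induction t using TensorProduct.induction_on with
  | zero => simp
  | add x y hx hy => simp only [map_add, hx, hy]
  | tmul m a =>
    rw [LinearMap.lTensor_tmul, LinearMap.lTensor_tmul, TensorProduct.rid_tmul]
    have h : ∀ x : A ⊗[K] A, smulMap K A M ((pmap K A M).rTensor A
        ((TensorProduct.assoc K M A A).symm (m ⊗ₜ[K] x))) =
        (LinearMap.mul' K A ((HopfAlgebraStruct.antipode (R := K) (A := A)).rTensor A x)) • m := by
      intro x
      induction x using TensorProduct.induction_on with
      | zero => simp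
      | add x y hx hy => simp only [TensorProduct.tmul_add, map_add, hx, hy, add_smul]
      | tmul a' a'' => simp [mul_smul, mul_comm]
    rw [h, HopfAlgebra.mul_antipode_rTensor_comul_apply, algebraMap_smul]

/-- `m = Σ m₂ • proj... `: reconstruction of `m` from the coinvariants. -/
theorem smulMap_proj_coact (m : M) :
    smulMap K A M ((proj K A M).rTensor A (coactMap K A M m)) = m := by
  have e : (proj K A M).rTensor A = (pmap K A M).rTensor A ∘ₗ (coactMap K A M).rTensor A := by
    unfold proj
    rw [LinearMap.rTensor_comp]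
  rw [e, LinearMap.comp_apply]
  have hco := LinearMap.congr_fun (HopfRep.Comod.coassoc (k := K) (A := A) (V := M)) m
  simp only [LinearMap.coe_comp, LinearEquiv.coe_coe, Function.comp_apply] at hco
  have h3 : (coactMap K A M).rTensor A (coactMap K A M m) =
      (TensorProduct.assoc K M A A).symm
        ((CoalgebraStruct.comul (R := K) (A := A)).lTensor M (coactMap K A M m)) := by
    rw [← hco, LinearEquiv.symm_apply_apply]
  rw [h3, smulMap_pmap_assoc_symm]
  have hcu := LinearMap.congr_fun (HopfRep.Comod.counit_comp (k := K) (A := A) (V := M)) m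
  simp only [LinearMap.coe_comp, Function.comp_apply] at hcu
  rw [hcu]
  simp

theorem coact_smul_of_mem_fixedPts (a : A) {n : M} (hn : n ∈ HopfRep.fixedPts K A M) :
    coactMap K A M (a • n) = actm n (CoalgebraStruct.comul (R := K) a) := by
  have h1 : coactMap K A M (a • n) =
      TameAct.hmSMul K A A M (CoalgebraStruct.comul (R := K) a) (coactMap K A M n) :=
    TameAct.IsHopfMod.coact_smul (k := K) (A := A) (B := A) a n
  have h2 : coactMap K A M n = n ⊗ₜ[K] (1 : A) := hn
  rw [h1, h2, hmSMul_tmul_eq_actm]
  congr 1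
  rw [← Algebra.TensorProduct.one_def, mul_one]

theorem proj_smul_of_mem_fixedPts (a : A) {n : M} (hn : n ∈ HopfRep.fixedPts K A M) :
    proj K A M (a • n) = CoalgebraStruct.counit (R := K) a • n := by
  unfold proj
  rw [LinearMap.comp_apply, coact_smul_of_mem_fixedPts a hn]
  have h : ∀ x : A ⊗[K] A, pmap K A M (actm n x) =
      (LinearMap.mul' K A ((HopfAlgebraStruct.antipode (R := K) (A := A)).lTensor A x)) • n := by
    intro x
    induction x using TensorProduct.induction_on with
    | zero => simp
    | add x y hx hy => simp only [map_add, hx, hy, add_smul]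
    | tmul a' a'' => simp [mul_smul, smul_comm a']
  rw [h, HopfAlgebra.mul_antipode_lTensor_comul_apply, algebraMap_smul]

/-- `(proj ⊗ id) (ρ (a • n)) = n ⊗ a` for a coinvariant `n`. -/
theorem projT_coact_smul (a : A) {n : M} (hn : n ∈ HopfRep.fixedPts K A M) :
    (proj K A M).rTensor A (coactMap K A M (a • n)) = n ⊗ₜ[K] a := by
  rw [coact_smul_of_mem_fixedPts a hn]
  have h : ∀ x : A ⊗[K] A, (proj K A M).rTensor A (actm n x) =
      n ⊗ₜ[K] (TensorProduct.lid K A ((CoalgebraStruct.counit (R := K) (A := A)).rTensor A x)) := by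
    intro x
    induction x using TensorProduct.induction_on with
    | zero => simp
    | add x y hx hy => simp only [map_add, hx, hy, TensorProduct.tmul_add]
    | tmul a' a'' =>
      rw [actm_tmul, LinearMap.rTensor_tmul, proj_smul_of_mem_fixedPts a' hn, LinearMap.rTensor_tmul,
        TensorProduct.lid_tmul, TensorProduct.smul_tmul]
  rw [h, Coalgebra.rTensor_counit_comul]
  simp

/-- The coinvariants span `M` over `A`. -/
theorem span_fixedPts_eq_top :
    Submodule.span A (HopfRep.fixedPts K A M : Set M) = ⊤ := by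
  rw [eq_top_iff]
  intro m _
  rw [← smulMap_proj_coact (K := K) (A := A) m]
  generalize coactMap K A M m = t
  induction t using TensorProduct.induction_on with
  | zero => simp
  | add x y hx hy => rw [map_add, map_add]; exact Submodule.add_mem _ hx hy
  | tmul m' a =>
    rw [LinearMap.rTensor_tmul, smulMap_tmul]
    exact Submodule.smul_mem _ _ (Submodule.subset_span (proj_mem_fixedPts (K := K) (A := A) m'))

/-- **Fundamental theorem of Hopf modules**: a `K`-basis of the coinvariants is an `A`-basis. -/
theorem basis_of_fixedPts {ι : Type*} (v : ι → M) (hli : LinearIndependent K v)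
    (hsp : Submodule.span K (Set.range v) = HopfRep.fixedPts K A M) :
    LinearIndependent A v ∧ Submodule.span A (Set.range v) = ⊤ := by
  classical
  have hv : ∀ i, v i ∈ HopfRep.fixedPts K A M := fun i => by
    rw [← hsp]; exact Submodule.subset_span ⟨i, rfl⟩
  constructor
  · rw [linearIndependent_iff']
    intro s g hg i hi
    have h1 := congrArg (fun m => (proj K A M).rTensor A (coactMap K A M m)) hg
    simp only [map_sum, map_zero] at h1
    have h2 : ∑ j ∈ s, v j ⊗ₜ[K] g j = (0 : M ⊗[K] A) := by
      rw [← h1]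
      exact Finset.sum_congr rfl (fun j _ => (projT_coact_smul (g j) (hv j)).symm)
    -- a functional dual to `v i`
    obtain ⟨φ, hφ⟩ := LinearMap.exists_extend
      ((Finsupp.lapply i : (ι →₀ K) →ₗ[K] K) ∘ₗ hli.repr)
    have hφv : ∀ j, φ (v j) = if j = i then 1 else 0 := by
      intro j
      have := LinearMap.congr_fun hφ (⟨v j, Submodule.subset_span ⟨j, rfl⟩⟩ : Submodule.span K (Set.range v))
      simp only [LinearMap.coe_comp, Function.comp_apply, Submodule.subtype_apply] at this
      rw [this]
      have hr : hli.repr ⟨v j, Submodule.subset_span ⟨j, rfl⟩⟩ = Finsupp.single j 1 :=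
        hli.repr_eq_single j _ rfl
      show (Finsupp.lapply i) (hli.repr ⟨v j, Submodule.subset_span ⟨j, rfl⟩⟩) = _
      rw [hr, Finsupp.lapply_apply, Finsupp.single_apply]
    have h3 := congrArg (contractL A φ) h2
    simp only [map_sum, contractL_tmul, hφv, map_zero] at h3
    rw [Finset.sum_eq_single i] at h3
    · simpa using h3
    · intro j _ hji; simp [hji]
    · intro hi'; exact absurd hi hi'
  · rw [eq_top_iff, ← span_fixedPts_eq_top (K := K) (A := A) (M := M)]
    apply Submodule.span_le.2
    intro n hn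
    have hn' : n ∈ Submodule.span K (Set.range v) := by rw [hsp]; exact hn
    exact (Submodule.span_le_restrictScalars K A (Set.range v)) hn'

end Mod

end Groth.Agent.Lib.Helper67.HopfMod
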