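import Groth.Agent.Lib.Helper67.HopfMod
import Groth.Agent.Lib.Helper67.LinRedAlg
import Groth.Agent.Lib.Helper75.ComodSimple
import Groth.Prelude.Def_ComodSub
import Groth.Prelude.Def_ComodTens

/-!
# Sub- and quotient Hopf modules, change of algebra, orbit maps (helper67)

* `comodOfSurjective π`, `comodOfInjective ι`: comodule structures induced along a surjection with
  stable kernel / an injection with stable range (built from the Prelude's `quot`, `restr`, `ofEquiv`).
* `isHopfMod_of_surjective`, `isHopfMod_of_injective`, `isHopfMod_of_algHom`: relative Hopf modules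
  descend to quotients, restrict to submodules, and can be read over the target of a surjective
  comodule-algebra map through which the action factors.
* `orbitHom_eq_cf`, `orbitHom_act`, `comul_orbitHom`, `isSubcomod_ker_orbitHom`.
* `isSubcomod_mul`: the product of two stable ideals is stable.
-/

set_option autoImplicit false
universe u v w

open TensorProduct

namespace Groth.Agent.Lib.Helper67.HopfMod

open Groth.Agent.Lib.Helper75 Groth.Agent.Lib.Helper67.LinRed

section Transport

variable {K : Type u} [Field K] {A : Type v} [AddCommGroup A] [Module K A] [Coalgebra K A]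
variable {M : Type w} [AddCommGroup M] [Module K M] [c : HopfRep.Comod K A M]
variable {M' : Type w} [AddCommGroup M'] [Module K M']

/-- comodule structure on the target of a surjection whose kernel is a subcomodule -/
@[reducible] noncomputable def comodOfSurjective (π : M →ₗ[K] M') (hπ : Function.Surjective π)
    (hker : HopfRep.IsSubcomod (k := K) (A := A) (LinearMap.ker π)) : HopfRep.Comod K A M' :=
  ComodTens.Comod.ofEquiv (π.quotKerEquivOfSurjective hπ)
    (ComodSub.Comod.quot c (LinearMap.ker π) hker)

theorem comodOfSurjective_coact (π : M →ₗ[K] M') (hπ : Function.Surjective π)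
    (hker : HopfRep.IsSubcomod (k := K) (A := A) (LinearMap.ker π)) (m : M) :
    (comodOfSurjective π hπ hker).coact (π m) = π.rTensor A (c.coact m) := by
  have h1 : π m = (π.quotKerEquivOfSurjective hπ) ((LinearMap.ker π).mkQ m) := by
    simp
  have h2 : (comodOfSurjective π hπ hker).coact (π m) =
      (comodOfSurjective π hπ hker).coact
        ((π.quotKerEquivOfSurjective hπ) ((LinearMap.ker π).mkQ m)) := by rw [← h1]
  rw [h2, ComodTens.ofEquiv_coact_apply, Submodule.mkQ_apply, ComodSub.quot_coact_mk,
    ← LinearMap.comp_apply, ← LinearMap.rTensor_comp]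
  congr 2

/-- comodule structure on the source of an injection whose range is a subcomodule -/
@[reducible] noncomputable def comodOfInjective (ι : M' →ₗ[K] M) (hι : Function.Injective ι)
    (hr : HopfRep.IsSubcomod (k := K) (A := A) (LinearMap.range ι)) : HopfRep.Comod K A M' :=
  ComodTens.Comod.ofEquiv (LinearEquiv.ofInjective ι hι).symm
    (ComodSub.Comod.restr c (LinearMap.range ι) hr)

theorem comodOfInjective_coact (ι : M' →ₗ[K] M) (hι : Function.Injective ι)
    (hr : HopfRep.IsSubcomod (k := K) (A := A) (LinearMap.range ι)) (m' : M') :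
    ι.rTensor A ((comodOfInjective ι hι hr).coact m') = c.coact (ι m') := by
  rw [ComodTens.ofEquiv_coact, ← LinearMap.comp_apply, ← LinearMap.rTensor_comp]
  have h : ι ∘ₗ ((LinearEquiv.ofInjective ι hι).symm : LinearMap.range ι →ₗ[K] M') =
      (LinearMap.range ι).subtype := by
    apply LinearMap.ext
    rintro ⟨y, m, rfl⟩
    simp only [LinearMap.coe_comp, LinearEquiv.coe_coe, Function.comp_apply, Submodule.subtype_apply]
    congr 1
    apply (LinearEquiv.ofInjective ι hι).injective
    rw [LinearEquiv.apply_symm_apply]
    rfl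
  rw [h, ComodSub.restr_coact_coe]
  simp

end Transport

section HopfDescent

variable {K : Type u} [Field K] {A : Type v} [CommRing A] [Bialgebra K A]
variable {B : Type w} [CommRing B] [Algebra K B]
variable {M : Type w} [AddCommGroup M] [Module K M] [Module B M] [IsScalarTower K B M]
variable {M' : Type w} [AddCommGroup M'] [Module K M'] [Module B M'] [IsScalarTower K B M']

theorem rTensor_hmSMul (π : M →ₗ[B] M') (t : B ⊗[K] A) (z : M ⊗[K] A) :
    (π.restrictScalars K).rTensor A (TameAct.hmSMul K A B M t z) =
      TameAct.hmSMul K A B M' t ((π.restrictScalars K).rTensor A z) := by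
  induction z using TensorProduct.induction_on with
  | zero => simp
  | add z₁ z₂ h₁ h₂ => simp only [map_add, h₁, h₂]
  | tmul m a =>
    induction t using TensorProduct.induction_on with
    | zero => simp
    | add t₁ t₂ h₁ h₂ => simp only [map_add, LinearMap.add_apply, h₁, h₂]
    | tmul b a' => simp [TameAct.hmSMul_tmul]

variable [HopfRep.Comod K A B] [HopfRep.Comod K A M] [HopfRep.Comod K A M']

theorem isHopfMod_of_surjective [TameAct.IsHopfMod K A B M] (π : M →ₗ[B] M')
    (hπ : Function.Surjective π)
    (h : ∀ m, coactMap K A M' (π m) = (π.restrictScalars K).rTensor A (coactMap K A M m)) :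
    TameAct.IsHopfMod K A B M' where
  coact_smul b m' := by
    obtain ⟨m, rfl⟩ := hπ m'
    have e := h (b • m)
    rw [map_smul] at e
    show coactMap K A M' (b • π m) = _
    rw [e, h]
    show (π.restrictScalars K).rTensor A (HopfRep.Comod.coact (k := K) (A := A) (b • m)) = _
    rw [TameAct.IsHopfMod.coact_smul (k := K) (A := A) (B := B), rTensor_hmSMul]

theorem isHopfMod_of_injective [TameAct.IsHopfMod K A B M] (ι : M' →ₗ[B] M)
    (hι : Function.Injective ι)
    (h : ∀ m', (ι.restrictScalars K).rTensor A (coactMap K A M' m') = coactMap K A M (ι m')) :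
    TameAct.IsHopfMod K A B M' where
  coact_smul b m' := by
    have hinj : Function.Injective ((ι.restrictScalars K).rTensor A) :=
      Module.Flat.rTensor_preserves_injective_linearMap _ hι
    apply hinj
    have e := h (b • m')
    rw [ι.map_smul b m'] at e
    show (ι.restrictScalars K).rTensor A (coactMap K A M' (b • m')) = _
    rw [e]
    show HopfRep.Comod.coact (k := K) (A := A) (b • ι m') = _
    rw [TameAct.IsHopfMod.coact_smul (k := K) (A := A) (B := B), rTensor_hmSMul]
    congr 1
    exact (h m').symm

end HopfDescent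

section BaseChange

variable {K : Type u} [Field K] {A : Type v} [CommRing A] [Bialgebra K A]
variable {B : Type w} [CommRing B] [Algebra K B]
variable {M : Type w} [AddCommGroup M] [Module K M] [Module B M] [IsScalarTower K B M]
  [Module A M] [IsScalarTower K A M]

theorem hmSMul_of_algHom (o : B →ₐ[K] A) (hc : ∀ (b : B) (m : M), o b • m = b • m)
    (t : B ⊗[K] A) (z : M ⊗[K] A) :
    TameAct.hmSMul K A B M t z = TameAct.hmSMul K A A M (o.toLinearMap.rTensor A t) z := by
  induction z using TensorProduct.induction_on with
  | zero => simp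
  | add z₁ z₂ h₁ h₂ => simp only [map_add, h₁, h₂]
  | tmul m a =>
    induction t using TensorProduct.induction_on with
    | zero => simp
    | add t₁ t₂ h₁ h₂ => simp only [map_add, LinearMap.add_apply, h₁, h₂]
    | tmul b a' => simp [TameAct.hmSMul_tmul, hc]

variable [HopfRep.Comod K A B] [HopfRep.Comod K A M]

theorem isHopfMod_of_algHom [TameAct.IsHopfMod K A B M] (o : B →ₐ[K] A)
    (ho : Function.Surjective o)
    (hoc : ∀ b, CoalgebraStruct.comul (R := K) (o b) = o.toLinearMap.rTensor A (coactMap K A B b))
    (hc : ∀ (b : B) (m : M), o b • m = b • m) : TameAct.IsHopfMod K A A M where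
  coact_smul a m := by
    obtain ⟨b, rfl⟩ := ho a
    have e : HopfRep.Comod.coact (k := K) (A := A) (o b) =
        o.toLinearMap.rTensor A (coactMap K A B b) := hoc b
    rw [hc, TameAct.IsHopfMod.coact_smul (k := K) (A := A) (B := B), hmSMul_of_algHom o hc, e]

end BaseChange

section Orbit

variable {K : Type u} [Field K] {A : Type v} [CommRing A] [Bialgebra K A]
variable {R : Type w} [CommRing R] [Algebra K R] [HopfRep.Comod K A R] [GLin.IsCoactAlg K A R]

theorem orbitHom_eq_cf (x : R →ₐ[K] K) (r : R) :
    GLin.orbitHom K A x r = cf (A := A) x.toLinearMap r := by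
  rw [cf_apply]
  show (Algebra.TensorProduct.lid K A)
    ((Algebra.TensorProduct.map x (AlgHom.id K A)) (GLin.coactAlgHom K A R r)) = _
  rw [GLin.coactAlgHom_apply]
  generalize HopfRep.Comod.coact (k := K) (A := A) r = t
  induction t using TensorProduct.induction_on with
  | zero => simp
  | add t₁ t₂ h₁ h₂ => simp only [map_add, h₁, h₂]
  | tmul v a => simp

theorem orbitHom_toLinearMap (x : R →ₐ[K] K) :
    (GLin.orbitHom K A x).toLinearMap = cf (A := A) x.toLinearMap :=
  LinearMap.ext (orbitHom_eq_cf x)

theorem isComodHom_orbitHom (x : R →ₐ[K] K) :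
    Hoch.IsComodHom A (GLin.orbitHom K A x).toLinearMap := by
  rw [orbitHom_toLinearMap]
  exact isComodHom_cf _

theorem comul_orbitHom (x : R →ₐ[K] K) (r : R) :
    CoalgebraStruct.comul (R := K) (GLin.orbitHom K A x r) =
      (GLin.orbitHom K A x).toLinearMap.rTensor A (coactMap K A R r) :=
  LinearMap.congr_fun (isComodHom_orbitHom x) r

theorem orbitHom_act (x : R →ₐ[K] K) (f : A →ₗ[K] K) (r : R) :
    GLin.orbitHom K A x (act f r) = act f (GLin.orbitHom K A x r) :=
  (isComodHom_iff (A := A) (GLin.orbitHom K A x).toLinearMap).1 (isComodHom_orbitHom x) f r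

theorem isSubcomod_ker_orbitHom (x : R →ₐ[K] K) :
    HopfRep.IsSubcomod (k := K) (A := A)
      ((RingHom.ker (GLin.orbitHom K A x)).restrictScalars K) := by
  rw [isSubcomod_iff]
  intro f r hr
  have hr' : GLin.orbitHom K A x r = 0 := hr
  show GLin.orbitHom K A x (act f r) = 0
  rw [orbitHom_act, hr', map_zero]

end Orbit

section Mul

variable {K : Type u} [Field K] {A : Type v} [CommRing A] [Bialgebra K A]
variable {R : Type w} [CommRing R] [Algebra K R] [HopfRep.Comod K A R] [GLin.IsCoactAlg K A R]

/-- The product of two stable ideals is stable. -/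
theorem isSubcomod_mul (I J : Ideal R)
    (hI : HopfRep.IsSubcomod (k := K) (A := A) (I.restrictScalars K))
    (hJ : HopfRep.IsSubcomod (k := K) (A := A) (J.restrictScalars K)) :
    HopfRep.IsSubcomod (k := K) (A := A) ((I * J).restrictScalars K) := by
  intro x hx
  have hx' : x ∈ I * J := hx
  clear hx
  refine Submodule.mul_induction_on hx' ?_ ?_
  · intro a ha b hb
    rw [GLin.IsCoactAlg.coact_mul (k := K) (A := A)]
    obtain ⟨s, hs⟩ := hI a ha
    obtain ⟨t, ht⟩ := hJ b hb
    rw [← hs, ← ht]
    clear hs ht
    induction s using TensorProduct.induction_on with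
    | zero => simp
    | add s₁ s₂ h₁ h₂ => rw [map_add, add_mul]; exact Submodule.add_mem _ h₁ h₂
    | tmul i a' =>
      induction t using TensorProduct.induction_on with
      | zero => simp
      | add t₁ t₂ h₁ h₂ => rw [map_add, mul_add]; exact Submodule.add_mem _ h₁ h₂
      | tmul j b' =>
        refine ⟨(⟨(i : R) * (j : R), Ideal.mul_mem_mul i.2 j.2⟩ : (I * J).restrictScalars K) ⊗ₜ[K]
          (a' * b'), ?_⟩
        rw [LinearMap.rTensor_tmul, LinearMap.rTensor_tmul, LinearMap.rTensor_tmul,
          Algebra.TensorProduct.tmul_mul_tmul]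
        rfl
  · intro x y hx hy
    rw [map_add]
    exact Submodule.add_mem _ hx hy

end Mul

end Groth.Agent.Lib.Helper67.HopfMod
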