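import Mathlib.RingTheory.IntegralClosure.IntegrallyClosed
import Mathlib.RingTheory.Polynomial.ScaleRoots
import Mathlib.RingTheory.Localization.FractionRing

/-!
A divisibility criterion for integrally closed domains in terms of homogeneous equations.
-/

set_option autoImplicit false
universe u

namespace Groth.Agent.Lib.Helper67.IntClosedCrit

open Polynomial

variable {R : Type u} [CommRing R] [IsDomain R]

/-- In an integrally closed domain, a homogeneous integral equation forces divisibility. -/
theorem dvd_of_eqn [IsIntegrallyClosed R] (n : ℕ) (c : Fin n → R) (a b : R) (hb : b ≠ 0)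
    (h : a ^ n + ∑ j : Fin n, c j * a ^ (j : ℕ) * b ^ (n - (j : ℕ)) = 0) : b ∣ a := by
  let K := FractionRing R
  let f := algebraMap R K
  have hinj : Function.Injective f := IsFractionRing.injective R K
  have hfb : f b ≠ 0 := fun h0 => hb (hinj (by rw [h0, map_zero]))
  let α : K := f a / f b
  let p : R[X] := X ^ n + ∑ j : Fin n, C (c j) * X ^ (j : ℕ)
  have hp : p.Monic := monic_X_pow_add (degree_sum_fin_lt c)
  have hpα : aeval α p = 0 := by
    have h1 : f b ^ n * aeval α p = f (a ^ n + ∑ j : Fin n, c j * a ^ (j : ℕ) * b ^ (n - (j : ℕ))) := by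
      simp only [p, map_add, map_pow, map_sum, map_mul, aeval_X, aeval_C, mul_add]
      congr 1
      · simp only [α, div_pow]
        rw [mul_div_assoc', mul_div_cancel_left₀ _ (pow_ne_zero n hfb)]
      · rw [Finset.mul_sum]
        apply Finset.sum_congr rfl
        intro j _
        have hj : n = (n - (j : ℕ)) + (j : ℕ) := by have := j.isLt; omega
        have : f b ^ n = f b ^ (n - (j : ℕ)) * f b ^ (j : ℕ) := by rw [← pow_add, ← hj]
        rw [this]
        simp only [α, div_pow]
        change _ * _ * (f (c j) * _) = f (c j) * _ * _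
        have hbj : f b ^ (j : ℕ) ≠ 0 := pow_ne_zero _ hfb
        calc f b ^ (n - (j : ℕ)) * f b ^ (j : ℕ) * (f (c j) * (f a ^ (j : ℕ) / f b ^ (j : ℕ)))
            = f (c j) * f a ^ (j : ℕ) * f b ^ (n - (j : ℕ)) * (f b ^ (j : ℕ) / f b ^ (j : ℕ)) := by
              ring
          _ = _ := by rw [div_self hbj, mul_one]
    rw [h, map_zero] at h1
    rcases mul_eq_zero.mp h1 with h2 | h2
    · exact absurd (pow_eq_zero_iff (n := n) (by
        rintro rfl
        simp at h) |>.mp h2) hfb
    · exact h2
  have hint : IsIntegral R α := ⟨p, hp, hpα⟩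
  obtain ⟨d, hd⟩ := IsIntegrallyClosed.algebraMap_eq_of_integral hint
  refine ⟨d, hinj ?_⟩
  rw [map_mul]
  have : f d = f a / f b := hd
  rw [this, mul_div_assoc', mul_div_cancel_left₀ _ hfb]

/-- Conversely the divisibility criterion implies integrally closed. -/
theorem isIntegrallyClosed_of_dvd
    (H : ∀ (n : ℕ) (c : Fin n → R) (a b : R), b ≠ 0 →
      a ^ n + ∑ j : Fin n, c j * a ^ (j : ℕ) * b ^ (n - (j : ℕ)) = 0 → b ∣ a) :
    IsIntegrallyClosed R := by
  rw [isIntegrallyClosed_iff (FractionRing R)]
  intro α hα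
  obtain ⟨p, hp, hpα⟩ := hα
  obtain ⟨a, b, hb, rfl⟩ := IsFractionRing.div_surjective (A := R) α
  have hinj : Function.Injective (algebraMap R (FractionRing R)) :=
    IsFractionRing.injective R (FractionRing R)
  have h1 := scaleRoots_aeval_eq_zero_of_aeval_div_eq_zero hinj hpα hb
  rw [aeval_algebraMap_apply, map_eq_zero_iff _ hinj] at h1
  have hb0 : b ≠ 0 := nonZeroDivisors.ne_zero hb
  have h2 : a ^ p.natDegree + ∑ j : Fin p.natDegree,
      p.coeff j * a ^ (j : ℕ) * b ^ (p.natDegree - (j : ℕ)) = 0 := by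
    rw [aeval_def, eval₂_eq_sum_range, natDegree_scaleRoots, Finset.sum_range_succ] at h1
    simp only [coeff_scaleRoots, Algebra.algebraMap_self, RingHom.id_apply, tsub_self,
      pow_zero, mul_one, hp.coeff_natDegree, one_mul] at h1
    rw [add_comm, Finset.sum_range] at h1
    rw [← h1]
    congr 1
    apply Finset.sum_congr rfl
    intro j _
    ring
  obtain ⟨d, hd⟩ := H _ _ a b hb0 h2
  refine ⟨d, ?_⟩
  rw [hd, map_mul]
  have : algebraMap R (FractionRing R) b ≠ 0 := fun h0 => hb0 (hinj (by rw [h0, map_zero]))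
  rw [mul_div_cancel_left₀ _ this]

end Groth.Agent.Lib.Helper67.IntClosedCrit
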