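import Groth.Agent.Lib.Helper75.ComodModule
import Groth.Prelude.Def_ComodSub

/-!
# Linearly reductive Hopf algebras: lifting invariants (helper67)

Built on helper75's comodule library (comodules over a field as modules over the dual algebra,
`act f v = v₀ f(v₁)`).

Main results (namespace `Groth.Agent.Lib.Helper67.LinRed`):
* `mem_fixedPts_iff` : `v ∈ fixedPts ↔ ∀ f, act f v = f 1 • v`.
* `exists_compl_in` : in a finite-dimensional subcomodule `F` of any comodule, every
  subcomodule `W ≤ F` has a complementary subcomodule inside `F` (linear reductivity).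
* `exists_invariant_lift` : invariants lift along quotients: if `v ∈ U`, `v₀` invariant,
  `v - v₀ ∈ N` (`U`, `N` subcomodules) then there is an invariant `v' ∈ U` with `v' - v₀ ∈ N`.
-/

set_option autoImplicit false
universe u v w

open TensorProduct

namespace Groth.Agent.Lib.Helper67.LinRed

open Groth.Agent.Lib.Helper75

section Fixed

variable {K : Type u} [Field K] {A : Type v} [Ring A] [Bialgebra K A]
variable {V : Type w} [AddCommGroup V] [Module K V] [HopfRep.Comod K A V]

theorem mem_fixedPts_iff (v : V) :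
    v ∈ HopfRep.fixedPts K A V ↔ ∀ f : A →ₗ[K] K, act f v = f 1 • v := by
  constructor
  · intro h f
    have h' : HopfRep.Comod.coact (k := K) (A := A) v = v ⊗ₜ[K] (1 : A) := h
    rw [act_apply]
    show contractR V f (HopfRep.Comod.coact (k := K) (A := A) v) = _
    rw [h', contractR_tmul]
  · intro h
    show HopfRep.Comod.coact (k := K) (A := A) v = v ⊗ₜ[K] (1 : A)
    apply eq_of_contractR_eq
    intro f
    rw [contractR_tmul, ← h f, act_apply]

end Fixed

section Compl

variable {K : Type u} [Field K] {A : Type v} [CommRing A] [Bialgebra K A]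
variable {V : Type v} [AddCommGroup V] [Module K V] [c : HopfRep.Comod K A V]

/-- the action on a subcomodule with restricted structure is the restriction of the action -/
theorem act_restr (F : Submodule K V) (hF : HopfRep.IsSubcomod (k := K) (A := A) F)
    (f : A →ₗ[K] K) (x : F) :
    ((@act K _ A _ _ _ F _ _ (ComodSub.Comod.restr c F hF) f x : F) : V) = act f (x : V) := by
  letI : HopfRep.Comod K A F := ComodSub.Comod.restr c F hF
  have h := ComodSub.isComodHom_subtype c F hF
  exact ((isComodHom_iff (A := A) F.subtype).1 h f x)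

/-- Linear reductivity gives complements of subcomodules inside finite-dimensional subcomodules. -/
theorem exists_compl_in (hred : HopfRep.IsLinearlyReductive K A)
    (F : Submodule K V) (hF : HopfRep.IsSubcomod (k := K) (A := A) F) [Module.Finite K F]
    (W : Submodule K V) (hW : HopfRep.IsSubcomod (k := K) (A := A) W) :
    ∃ C : Submodule K V, HopfRep.IsSubcomod (k := K) (A := A) C ∧ C ≤ F ∧
      (W ⊓ C = ⊥) ∧ (∀ x ∈ F, ∃ w ∈ W ⊓ F, ∃ y ∈ C, x = w + y) := by
  letI cF : HopfRep.Comod K A F := ComodSub.Comod.restr c F hF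
  have hss : HopfRep.IsSemisimpleComod K A F := hred F inferInstance
  -- the subcomodule W ∩ F of F
  have hW' : HopfRep.IsSubcomod (k := K) (A := A) (W.comap F.subtype) := by
    rw [isSubcomod_iff]
    intro f x hx
    rw [Submodule.mem_comap] at hx ⊢
    rw [Submodule.subtype_apply, act_restr F hF f x]
    exact (isSubcomod_iff W).1 hW f _ hx
  obtain ⟨C', hC', hcompl⟩ := hss _ hW'
  refine ⟨C'.map F.subtype, ?_, ?_, ?_, ?_⟩
  · rw [isSubcomod_iff]
    rintro f _ ⟨x, hx, rfl⟩
    refine ⟨act f x, (isSubcomod_iff C').1 hC' f x hx, ?_⟩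
    rw [Submodule.subtype_apply, act_restr F hF f x]
    rfl
  · rintro _ ⟨x, _, rfl⟩
    exact x.2
  · rw [eq_bot_iff]
    rintro _ ⟨hxW, ⟨x, hx, rfl⟩⟩
    have : x ∈ W.comap F.subtype ⊓ C' := ⟨hxW, hx⟩
    rw [hcompl.inf_eq_bot] at this
    rw [(Submodule.mem_bot K).1 this]
    simp
  · intro x hx
    have : (⟨x, hx⟩ : F) ∈ W.comap F.subtype ⊔ C' := by rw [hcompl.sup_eq_top]; trivial
    obtain ⟨w, hw, y, hy, hwy⟩ := Submodule.mem_sup.1 this
    refine ⟨w, ⟨hw, w.2⟩, y, ⟨y, hy, rfl⟩, ?_⟩
    have := congrArg (Subtype.val) hwy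
    simpa using this.symm

/-- **Lifting invariants.** Let `U`, `N` be subcomodules of a comodule `V` over a linearly reductive
Hopf (bi)algebra, `v ∈ U`, `v₀` an invariant with `v - v₀ ∈ N`. Then there is an invariant
`v' ∈ U` with `v' - v₀ ∈ N`. -/
theorem exists_invariant_lift (hred : HopfRep.IsLinearlyReductive K A)
    (U N : Submodule K V) (hU : HopfRep.IsSubcomod (k := K) (A := A) U)
    (hN : HopfRep.IsSubcomod (k := K) (A := A) N)
    (v v₀ : V) (hv : v ∈ U) (hv₀ : v₀ ∈ HopfRep.fixedPts K A V) (h : v - v₀ ∈ N) :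
    ∃ v' ∈ U, v' ∈ HopfRep.fixedPts K A V ∧ v' - v₀ ∈ N := by
  -- the finite-dimensional subcomodule generated by `v`
  have hF : HopfRep.IsSubcomod (k := K) (A := A) (orbit K A v) := isSubcomod_orbit v
  obtain ⟨C, hC, hCF, hdisj, hsum⟩ := exists_compl_in hred (orbit K A v) hF N hN
  obtain ⟨w, hw, y, hy, hvy⟩ := hsum v (self_mem_orbit v)
  have hyN : y - v₀ ∈ N := by
    have : y - v₀ = (v - v₀) - w := by rw [hvy]; abel
    rw [this]
    exact N.sub_mem h hw.1
  refine ⟨y, orbit_le hU hv (hCF hy), ?_, hyN⟩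
  rw [mem_fixedPts_iff]
  intro f
  have h1 : act f y - f 1 • y ∈ C :=
    C.sub_mem ((isSubcomod_iff C).1 hC f y hy) (C.smul_mem _ hy)
  have h2 : act f y - f 1 • y ∈ N := by
    have e : act f y - f 1 • y = act f (y - v₀) - f 1 • (y - v₀) := by
      rw [map_sub, (mem_fixedPts_iff v₀).1 hv₀ f, smul_sub]; abel
    rw [e]
    exact N.sub_mem ((isSubcomod_iff N).1 hN f _ hyN) (N.smul_mem _ hyN)
  have h3 : act f y - f 1 • y ∈ N ⊓ C := ⟨h2, h1⟩
  rw [hdisj, Submodule.mem_bot] at h3
  exact sub_eq_zero.1 h3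

/-- **Lifting invariants along comodule maps.** If `φ : V → W` commutes with the actions of all
functionals (i.e. is a comodule map) and `φ v` is invariant, then there is an invariant `v'`
(in the subcomodule generated by `v`) with `φ v' = φ v`. -/
theorem exists_invariant_preimage (hred : HopfRep.IsLinearlyReductive K A)
    {W : Type w} [AddCommGroup W] [Module K W] [HopfRep.Comod K A W]
    (φ : V →ₗ[K] W) (hφ : ∀ (f : A →ₗ[K] K) (v : V), φ (act f v) = act f (φ v))
    (v : V) (hv : φ v ∈ HopfRep.fixedPts K A W) :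
    ∃ v' ∈ HopfRep.fixedPts K A V, v' ∈ orbit K A v ∧ φ v' = φ v := by
  have hF : HopfRep.IsSubcomod (k := K) (A := A) (orbit K A v) := isSubcomod_orbit v
  have hN : HopfRep.IsSubcomod (k := K) (A := A) (LinearMap.ker φ) := by
    rw [isSubcomod_iff]
    intro f x hx
    rw [LinearMap.mem_ker] at hx ⊢
    rw [hφ, hx, map_zero]
  obtain ⟨C, hC, hCF, hdisj, hsum⟩ := exists_compl_in hred (orbit K A v) hF _ hN
  obtain ⟨w, hw, y, hy, hvy⟩ := hsum v (self_mem_orbit v)
  have hφy : φ y = φ v := by
    rw [hvy, map_add, LinearMap.mem_ker.1 hw.1, zero_add]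
  refine ⟨y, ?_, hCF hy, hφy⟩
  rw [mem_fixedPts_iff]
  intro f
  have h1 : act f y - f 1 • y ∈ C :=
    C.sub_mem ((isSubcomod_iff C).1 hC f y hy) (C.smul_mem _ hy)
  have h2 : act f y - f 1 • y ∈ LinearMap.ker φ := by
    rw [LinearMap.mem_ker, map_sub, hφ, map_smul, hφy, (mem_fixedPts_iff (φ v)).1 hv f, sub_self]
  have h3 : act f y - f 1 • y ∈ LinearMap.ker φ ⊓ C := ⟨h2, h1⟩
  rw [hdisj, Submodule.mem_bot] at h3
  exact sub_eq_zero.1 h3

end Compl

end Groth.Agent.Lib.Helper67.LinRed
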