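import Groth.Agent.Lib.Helper67.LinRedAlg
import Groth.Prelude.Def_W4c1tameactTame

/-!
# Hopf modules over comodule algebras: invariants and finite generation (helper67)

* `hmSMul_hmSMul` : associativity of the factorwise action of `R ⊗ A` on `M ⊗ A`.
* `act_smul_of_mem_fixedPts` : `act f (r • a) = act f r • a` for invariant `a`.
* `isSubcomod_span_of_fixedPts` : `R`-spans of invariants are subcomodules.
* `invariant_combination` : an invariant in the `R`-span of finitely many invariants is an
  `R^G`-combination of them (linearly reductive case).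
-/

set_option autoImplicit false
universe u v

open TensorProduct

namespace Groth.Agent.Lib.Helper67.LinRed

open Groth.Agent.Lib.Helper75

section Mod

variable {K : Type u} [Field K] {A : Type v} [CommRing A] [HopfAlgebra K A]
variable {R : Type v} [CommRing R] [Algebra K R] [HopfRep.Comod K A R] [GLin.IsCoactAlg K A R]
variable {M : Type v} [AddCommGroup M] [Module K M] [Module R M] [IsScalarTower K R M]
  [HopfRep.Comod K A M] [TameAct.IsHopfMod K A R M]

omit [HopfRep.Comod K A R] [GLin.IsCoactAlg K A R] [HopfRep.Comod K A M] [TameAct.IsHopfMod K A R M] in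
theorem hmSMul_hmSMul (t t' : R ⊗[K] A) (z : M ⊗[K] A) :
    TameAct.hmSMul K A R M t (TameAct.hmSMul K A R M t' z) = TameAct.hmSMul K A R M (t * t') z := by
  induction z using TensorProduct.induction_on with
  | zero => simp
  | add z₁ z₂ h₁ h₂ => simp only [map_add, h₁, h₂]
  | tmul m a =>
    induction t using TensorProduct.induction_on with
    | zero => simp
    | add t₁ t₂ h₁ h₂ => simp only [map_add, LinearMap.add_apply, add_mul, h₁, h₂]
    | tmul r b =>
      induction t' using TensorProduct.induction_on with
      | zero => simp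
      | add t₁ t₂ h₁ h₂ => simp only [map_add, LinearMap.add_apply, mul_add, h₁, h₂]
      | tmul r' b' =>
        simp [TameAct.hmSMul_tmul, Algebra.TensorProduct.tmul_mul_tmul, mul_smul, mul_assoc]

omit [HopfRep.Comod K A R] [GLin.IsCoactAlg K A R] [HopfRep.Comod K A M] [TameAct.IsHopfMod K A R M] in
theorem hmSMul_one (z : M ⊗[K] A) : TameAct.hmSMul K A R M 1 z = z := by
  rw [Algebra.TensorProduct.one_def]
  induction z using TensorProduct.induction_on with
  | zero => simp
  | add z₁ z₂ h₁ h₂ => simp only [map_add, h₁, h₂]
  | tmul m a => simp [TameAct.hmSMul_tmul]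

omit [HopfRep.Comod K A R] [GLin.IsCoactAlg K A R] [HopfRep.Comod K A M] [TameAct.IsHopfMod K A R M] in
theorem contractR_hmSMul_tmul_one (f : A →ₗ[K] K) (t : R ⊗[K] A) (m : M) :
    contractR M f (TameAct.hmSMul K A R M t (m ⊗ₜ[K] (1 : A))) = contractR R f t • m := by
  induction t using TensorProduct.induction_on with
  | zero => simp
  | add t₁ t₂ h₁ h₂ => simp only [map_add, LinearMap.add_apply, h₁, h₂, add_smul]
  | tmul r a => simp [TameAct.hmSMul_tmul, smul_assoc]

theorem coact_smul' (r : R) (m : M) :
    coactMap K A M (r • m) = TameAct.hmSMul K A R M (coactMap K A R r) (coactMap K A M m) :=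
  TameAct.IsHopfMod.coact_smul (k := K) (A := A) r m

/-- `act f (r • a) = act f r • a` for an invariant `a`. -/
theorem act_smul_of_mem_fixedPts (f : A →ₗ[K] K) (r : R) (a : M) (ha : a ∈ HopfRep.fixedPts K A M) :
    act f (r • a) = act f r • a := by
  rw [act_apply, coact_smul', act_apply]
  have : coactMap K A M a = a ⊗ₜ[K] (1 : A) := ha
  rw [this, contractR_hmSMul_tmul_one]

/-- The `R`-span of a set of invariants is a subcomodule. -/
theorem isSubcomod_span_of_fixedPts (s : Set M) (hs : ∀ x ∈ s, x ∈ HopfRep.fixedPts K A M) :
    HopfRep.IsSubcomod (k := K) (A := A) ((Submodule.span R s).restrictScalars K) := by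
  rw [isSubcomod_iff]
  intro g w hw
  rw [Submodule.restrictScalars_mem] at hw ⊢
  suffices h : ∀ t : R ⊗[K] A,
      contractR M g (TameAct.hmSMul K A R M t (coactMap K A M w)) ∈ Submodule.span R s by
    have := h 1
    rwa [hmSMul_one] at this
  induction hw using Submodule.span_induction with
  | mem x hx =>
    intro t
    have : coactMap K A M x = x ⊗ₜ[K] (1 : A) := hs x hx
    rw [this, contractR_hmSMul_tmul_one]
    exact Submodule.smul_mem _ _ (Submodule.subset_span hx)
  | zero => intro t; rw [map_zero, map_zero, map_zero]; exact Submodule.zero_mem _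
  | add x y _ _ hx hy =>
    intro t
    rw [map_add, map_add, map_add]
    exact Submodule.add_mem _ (hx t) (hy t)
  | smul a x _ hx =>
    intro t
    rw [coact_smul', hmSMul_hmSMul]
    exact hx _

/-- An invariant lying in the `R`-span of finitely many invariants is an `R^G`-combination of
them, when the Hopf algebra is linearly reductive. -/
theorem invariant_combination [DecidableEq M] (hred : HopfRep.IsLinearlyReductive K A)
    (s : Finset M) (hs : (↑s : Set M) ⊆ (HopfRep.fixedPts K A M : Set M)) :
    ∀ m ∈ HopfRep.fixedPts K A M, m ∈ Submodule.span R (↑s : Set M) →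
      ∃ c : M → R, (∀ y ∈ s, c y ∈ GLin.invariants K A R) ∧ m = ∑ y ∈ s, c y • y := by
  induction s using Finset.induction_on with
  | empty =>
    intro m _ hm
    refine ⟨fun _ => 0, by simp, ?_⟩
    simpa using hm
  | insert a s ha ih =>
    intro m hmG hm
    have haG : a ∈ HopfRep.fixedPts K A M := hs (by simp)
    have hsG : (↑s : Set M) ⊆ (HopfRep.fixedPts K A M : Set M) :=
      fun x hx => hs (by simp [Finset.mem_coe.1 hx])
    rw [Finset.coe_insert, Submodule.mem_span_insert] at hm
    obtain ⟨r, m', hm', rfl⟩ := hm
    -- step 1: an invariant in `R a` congruent to `m` modulo `span s`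
    have hU : HopfRep.IsSubcomod (k := K) (A := A) ((Submodule.span R {a}).restrictScalars K) :=
      isSubcomod_span_of_fixedPts {a} (by rintro x rfl; exact haG)
    have hN : HopfRep.IsSubcomod (k := K) (A := A)
        ((Submodule.span R (↑s : Set M)).restrictScalars K) :=
      isSubcomod_span_of_fixedPts _ hsG
    obtain ⟨v', hv'U, hv'G, hv'N⟩ := exists_invariant_lift hred _ _ hU hN (r • a) (r • a + m')
      (Submodule.smul_mem (Submodule.span R {a}) r (Submodule.mem_span_singleton_self a)) hmG
      (by
        have : r • a - (r • a + m') = -m' := by abel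
        rw [this]
        exact Submodule.neg_mem _ hm')
    obtain ⟨r', rfl⟩ := Submodule.mem_span_singleton.1 hv'U
    -- step 2: replace r' by an invariant
    let φ : R →ₗ[K] M := (LinearMap.toSpanSingleton R M a).restrictScalars K
    have hφ : ∀ (f : A →ₗ[K] K) (x : R), φ (act f x) = act f (φ x) := by
      intro f x
      show act f x • a = act f (x • a)
      rw [act_smul_of_mem_fixedPts f x a haG]
    obtain ⟨r'', hr''G, -, hr''⟩ := exists_invariant_preimage hred φ hφ r' hv'G
    have hr''' : r'' • a = r' • a := hr''
    -- step 3: induction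
    have hdiff : (r • a + m') - r' • a ∈ HopfRep.fixedPts K A M :=
      Submodule.sub_mem _ hmG hv'G
    have hdiffN : (r • a + m') - r' • a ∈ Submodule.span R (↑s : Set M) := by
      have : (r • a + m') - r' • a = -(r' • a - (r • a + m')) := by abel
      rw [this]
      exact Submodule.neg_mem _ hv'N
    obtain ⟨c', hc'G, hc'⟩ := ih hsG _ hdiff hdiffN
    refine ⟨Function.update c' a r'', ?_, ?_⟩
    · intro y hy
      by_cases hya : y = a
      · subst hya
        rw [Function.update_self]
        exact hr''G
      · rw [Function.update_of_ne hya]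
        exact hc'G y (Finset.mem_of_mem_insert_of_ne hy hya)
    · rw [Finset.sum_insert ha, Function.update_self, hr''']
      have : ∑ y ∈ s, Function.update c' a r'' y • y = ∑ y ∈ s, c' y • y := by
        apply Finset.sum_congr rfl
        intro y hy
        have : y ≠ a := fun h => ha (h ▸ hy)
        rw [Function.update_of_ne this]
      rw [this, ← hc']
      abel

end Mod

section Self

variable {K : Type u} [Field K] {A : Type v} [CommRing A] [HopfAlgebra K A]
variable {R : Type v} [CommRing R] [Algebra K R] [HopfRep.Comod K A R] [GLin.IsCoactAlg K A R]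

omit [HopfRep.Comod K A R] [GLin.IsCoactAlg K A R] in
theorem hmSMul_self (t z : R ⊗[K] A) : TameAct.hmSMul K A R R t z = t * z := by
  induction z using TensorProduct.induction_on with
  | zero => simp
  | add z₁ z₂ h₁ h₂ => simp only [map_add, h₁, h₂, mul_add]
  | tmul m a =>
    induction t using TensorProduct.induction_on with
    | zero => simp
    | add t₁ t₂ h₁ h₂ => simp only [map_add, LinearMap.add_apply, add_mul, h₁, h₂]
    | tmul r b => simp [TameAct.hmSMul_tmul, Algebra.TensorProduct.tmul_mul_tmul]

/-- A comodule algebra is a Hopf module over itself. -/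
theorem isHopfMod_self : TameAct.IsHopfMod K A R R where
  coact_smul b m := by
    rw [smul_eq_mul, GLin.IsCoactAlg.coact_mul (k := K) (A := A), hmSMul_self]

/-- For a linearly reductive `A`, every ideal of `R^G` is contracted from `R`. -/
theorem comap_map_invariants (hred : HopfRep.IsLinearlyReductive K A)
    (𝔞 : Ideal (GLin.invariants K A R)) :
    (𝔞.map (algebraMap (GLin.invariants K A R) R)).comap (algebraMap (GLin.invariants K A R) R) = 𝔞 := by
  classical
  haveI : TameAct.IsHopfMod K A R R := isHopfMod_self
  apply le_antisymm _ Ideal.le_comap_map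
  intro x hx
  rw [Ideal.mem_comap, Ideal.map, ← Ideal.submodule_span_eq] at hx
  obtain ⟨T, hT, hxT⟩ := Submodule.mem_span_finite_of_mem_span hx
  have hTG : (↑T : Set R) ⊆ (HopfRep.fixedPts K A R : Set R) := by
    intro y hy
    obtain ⟨z, _, rfl⟩ := hT hy
    exact z.2
  obtain ⟨c, hc, hsum⟩ := invariant_combination hred T hTG _ x.2 hxT
  have key : x = ∑ y ∈ T.attach, (⟨c y, hc y y.2⟩ : GLin.invariants K A R) *
      (⟨(y : R), hTG y.2⟩ : GLin.invariants K A R) := by
    apply Subtype.ext
    rw [AddSubmonoidClass.coe_finsetSum]
    refine hsum.trans ?_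
    rw [← Finset.sum_attach]
    rfl
  rw [key]
  refine Ideal.sum_mem _ ?_
  intro y _
  apply Ideal.mul_mem_left
  obtain ⟨z, hz, hzy⟩ := hT y.2
  have : (⟨(y : R), hTG y.2⟩ : GLin.invariants K A R) = z := Subtype.ext hzy.symm
  rw [this]
  exact hz

/-- Invariants of a Noetherian comodule algebra under a linearly reductive Hopf algebra are
Noetherian. -/
theorem isNoetherianRing_invariants (hred : HopfRep.IsLinearlyReductive K A) [IsNoetherianRing R] :
    IsNoetherianRing (GLin.invariants K A R) := by
  rw [isNoetherianRing_iff, isNoetherian_iff']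
  let e : Ideal (GLin.invariants K A R) ↪o Ideal R :=
    OrderEmbedding.ofMapLEIff (Ideal.map (algebraMap (GLin.invariants K A R) R)) (by
      intro 𝔞 𝔟
      constructor
      · intro h
        rw [← comap_map_invariants hred 𝔞, ← comap_map_invariants hred 𝔟]
        exact Ideal.comap_mono h
      · exact fun h => Ideal.map_mono h)
  haveI : WellFoundedGT (Ideal R) := (isNoetherian_iff' (R := R) (M := R)).1 inferInstance
  exact OrderEmbedding.wellFoundedGT e

end Self

end Groth.Agent.Lib.Helper67.LinRed
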