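import Groth.Agent.Lib.Helper67.LinRedMod

/-!
# Hilbert's finiteness theorem for linear actions of linearly reductive Hopf algebras (helper67)

`R = MvPolynomial σ k` with a multiplicative coaction sending variables to linear forms.
* `coact_mem_of_isHomogeneous` : the coaction preserves degrees;
* `isSubcomod_homogeneousSubmodule`;
* `act_homogeneousComponent` : `act g` commutes with homogeneous components;
* `homogeneousComponent_mem_fixedPts`;
* `finite_generation` : the invariants are a finitely generated algebra.
-/

set_option autoImplicit false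
universe u w

open TensorProduct MvPolynomial

namespace Groth.Agent.Lib.Helper67.LinRed

open Groth.Agent.Lib.Helper75

section Poly

variable {K : Type u} [Field K] {A : Type (max u w)} [CommRing A] [HopfAlgebra K A]
variable {σ : Type w} [Finite σ]
variable [HopfRep.Comod K A (MvPolynomial σ K)] [GLin.IsCoactAlg K A (MvPolynomial σ K)]

/-- `R_d ⊗ A` inside `R ⊗ A`. -/
noncomputable def degPart (K : Type u) [Field K] (A : Type (max u w)) [CommRing A] [Algebra K A] (σ : Type w)
    (d : ℕ) : Submodule K (MvPolynomial σ K ⊗[K] A) :=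
  LinearMap.range ((homogeneousSubmodule σ K d).subtype.rTensor A)

omit [Finite σ] [HopfAlgebra K A] in
theorem tmul_mem_degPart [Algebra K A] {d : ℕ} {p : MvPolynomial σ K} (hp : p.IsHomogeneous d) (a : A) :
    p ⊗ₜ[K] a ∈ degPart K A σ d :=
  ⟨(⟨p, hp⟩ : homogeneousSubmodule σ K d) ⊗ₜ[K] a, by simp⟩

omit [Finite σ] [HopfAlgebra K A] in
theorem mul_mem_degPart [Algebra K A] {d e : ℕ} {x y : MvPolynomial σ K ⊗[K] A}
    (hx : x ∈ degPart K A σ d) (hy : y ∈ degPart K A σ e) : x * y ∈ degPart K A σ (d + e) := by
  obtain ⟨x', rfl⟩ := hx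
  obtain ⟨y', rfl⟩ := hy
  induction x' using TensorProduct.induction_on with
  | zero => simp
  | add x₁ x₂ h₁ h₂ => rw [map_add, add_mul]; exact Submodule.add_mem _ h₁ h₂
  | tmul p a =>
    induction y' using TensorProduct.induction_on with
    | zero => simp
    | add y₁ y₂ h₁ h₂ => rw [map_add, mul_add]; exact Submodule.add_mem _ h₁ h₂
    | tmul q b =>
      rw [LinearMap.rTensor_tmul, LinearMap.rTensor_tmul, Algebra.TensorProduct.tmul_mul_tmul]
      exact tmul_mem_degPart (IsHomogeneous.mul p.2 q.2) _

omit [Finite σ] [HopfAlgebra K A] in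
theorem one_mem_degPart [Algebra K A] : (1 : MvPolynomial σ K ⊗[K] A) ∈ degPart K A σ 0 := by
  rw [Algebra.TensorProduct.one_def]
  exact tmul_mem_degPart (isHomogeneous_one σ K) 1

omit [Finite σ] [HopfAlgebra K A] in
theorem pow_mem_degPart [Algebra K A] {x : MvPolynomial σ K ⊗[K] A} (hx : x ∈ degPart K A σ 1) (e : ℕ) :
    x ^ e ∈ degPart K A σ e := by
  induction e with
  | zero => rw [pow_zero]; exact one_mem_degPart
  | succ e ih => rw [pow_succ]; exact mul_mem_degPart ih hx

variable (hlin : ∀ i : σ, coactMap K A (MvPolynomial σ K) (X i) ∈ degPart K A σ 1)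
include hlin

omit [Finite σ] in
theorem coact_monomial_mem (s : σ →₀ ℕ) :
    coactMap K A (MvPolynomial σ K) (monomial s 1) ∈ degPart K A σ s.degree := by
  induction s using Finsupp.induction_linear with
  | zero =>
    have : (monomial (0 : σ →₀ ℕ) (1 : K)) = 1 := rfl
    rw [this, GLin.IsCoactAlg.coact_one (k := K) (A := A)]
    simpa using one_mem_degPart (K := K) (A := A) (σ := σ)
  | add s t hs ht =>
    have : (monomial (s + t) (1 : K)) = monomial s 1 * monomial t 1 := by
      rw [monomial_mul, one_mul]
    rw [this, coact_mul', map_add Finsupp.degree s t]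
    exact mul_mem_degPart hs ht
  | single i e =>
    have : (monomial (Finsupp.single i e) (1 : K)) = X i ^ e := (X_pow_eq_monomial).symm
    rw [this, Finsupp.degree_single]
    have hpow : coactMap K A (MvPolynomial σ K) (X i ^ e) = coactMap K A (MvPolynomial σ K) (X i) ^ e := by
      exact map_pow (GLin.coactAlgHom K A (MvPolynomial σ K)) (X i) e
    rw [hpow]
    exact pow_mem_degPart (hlin i) e

omit [Finite σ] in
/-- The coaction preserves degrees. -/
theorem isSubcomod_homogeneousSubmodule (d : ℕ) :
    HopfRep.IsSubcomod (k := K) (A := A) (homogeneousSubmodule σ K d) := by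
  intro p hp
  have hp' : p.IsHomogeneous d := hp
  rw [← support_sum_monomial_coeff p, map_sum]
  refine Submodule.sum_mem (degPart K A σ d) ?_
  intro s hs
  have hs' : s.degree = d := by
    by_contra hne
    exact (mem_support_iff.1 hs) (hp'.coeff_eq_zero hne)
  have : monomial s (coeff s p) = coeff s p • monomial s (1 : K) := by
    rw [smul_monomial, smul_eq_mul, mul_one]
  rw [this, map_smul, ← hs']
  exact Submodule.smul_mem _ _ (coact_monomial_mem hlin s)

omit [Finite σ] in
theorem act_isHomogeneous (g : A →ₗ[K] K) {d : ℕ} {p : MvPolynomial σ K} (hp : p.IsHomogeneous d) :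
    (act g p).IsHomogeneous d :=
  (isSubcomod_iff (homogeneousSubmodule σ K d)).1 (isSubcomod_homogeneousSubmodule hlin d) g p hp

omit [Finite σ] in
theorem act_homogeneousComponent (g : A →ₗ[K] K) (d : ℕ) (p : MvPolynomial σ K) :
    homogeneousComponent d (act g p) = act g (homogeneousComponent d p) := by
  classical
  conv_lhs => rw [← sum_homogeneousComponent p, map_sum, map_sum]
  have : ∀ e ∈ Finset.range (p.totalDegree + 1),
      homogeneousComponent d (act g (homogeneousComponent e p)) =
        if d = e then act g (homogeneousComponent e p) else 0 := by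
    intro e _
    exact homogeneousComponent_of_mem
      (act_isHomogeneous hlin g (homogeneousComponent_isHomogeneous e p))
  rw [Finset.sum_congr rfl this, Finset.sum_ite_eq]
  split_ifs with h
  · rfl
  · rw [Finset.mem_range, not_lt] at h
    rw [homogeneousComponent_eq_zero _ _ (by omega), map_zero]

omit [Finite σ] in
theorem homogeneousComponent_mem_fixedPts (d : ℕ) {p : MvPolynomial σ K}
    (hp : p ∈ HopfRep.fixedPts K A (MvPolynomial σ K)) :
    homogeneousComponent d p ∈ HopfRep.fixedPts K A (MvPolynomial σ K) := by
  rw [mem_fixedPts_iff] at hp ⊢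
  intro g
  rw [← act_homogeneousComponent hlin, hp g, map_smul]

/-- **Hilbert's finiteness theorem** for a linear coaction of a linearly reductive Hopf algebra
on a polynomial ring. -/
theorem finite_generation (hred : HopfRep.IsLinearlyReductive K A) :
    ∃ T : Finset (MvPolynomial σ K),
      (∀ f ∈ T, f ∈ HopfRep.fixedPts K A (MvPolynomial σ K)) ∧
      ∀ f ∈ HopfRep.fixedPts K A (MvPolynomial σ K),
        f ∈ Algebra.adjoin K (T : Set (MvPolynomial σ K)) := by
  classical
  haveI : TameAct.IsHopfMod K A (MvPolynomial σ K) (MvPolynomial σ K) := isHopfMod_self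
  set S : Set (MvPolynomial σ K) :=
    {p | p ∈ HopfRep.fixedPts K A (MvPolynomial σ K) ∧ ∃ d, 0 < d ∧ p.IsHomogeneous d} with hS
  have hfg : (Submodule.span (MvPolynomial σ K) S).FG := IsNoetherian.noetherian _
  obtain ⟨T, hTS, hspan⟩ := (Submodule.fg_span_iff_fg_span_finset_subset _).1 hfg
  have hTG : (↑T : Set (MvPolynomial σ K)) ⊆ (HopfRep.fixedPts K A (MvPolynomial σ K) : Set _) :=
    fun t ht => (hTS ht).1
  refine ⟨T, fun f hf => hTG hf, ?_⟩
  -- homogeneous invariants
  have key : ∀ d : ℕ, ∀ p ∈ HopfRep.fixedPts K A (MvPolynomial σ K), p.IsHomogeneous d →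
      p ∈ Algebra.adjoin K (T : Set (MvPolynomial σ K)) := by
    intro d
    induction d using Nat.strong_induction_on with
    | _ d ih =>
      intro p hpG hpd
      rcases Nat.eq_zero_or_pos d with rfl | hd
      · have h0 : p.totalDegree = 0 := (totalDegree_zero_iff_isHomogeneous σ).2 hpd
        rw [(totalDegree_eq_zero_iff_eq_C).1 h0]
        exact Subalgebra.algebraMap_mem _ _
      · have hpS : p ∈ S := ⟨hpG, d, hd, hpd⟩
        have hpT : p ∈ Submodule.span (MvPolynomial σ K) (↑T : Set (MvPolynomial σ K)) := by
          rw [← hspan]; exact Submodule.subset_span hpS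
        obtain ⟨c, hc, hsum⟩ := invariant_combination hred T hTG p hpG hpT
        have hp' : p = ∑ t ∈ T, homogeneousComponent d (c t * t) := by
          conv_lhs => rw [← homogeneousComponent_eq_self hpd, hsum, map_sum]
          rfl
        rw [hp']
        refine Subalgebra.sum_mem _ ?_
        intro t ht
        obtain ⟨htG, e, he, hte⟩ := hTS ht
        have hct : c t ∈ HopfRep.fixedPts K A (MvPolynomial σ K) := hc t ht
        conv => rw [← sum_homogeneousComponent (c t), Finset.sum_mul, map_sum]
        refine Subalgebra.sum_mem _ ?_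
        intro j _
        have hje : (homogeneousComponent j (c t) * t).IsHomogeneous (j + e) :=
          IsHomogeneous.mul (homogeneousComponent_isHomogeneous j (c t)) hte
        rw [homogeneousComponent_of_mem hje]
        split_ifs with hdj
        · apply Subalgebra.mul_mem
          · exact ih j (by omega) _ (homogeneousComponent_mem_fixedPts hlin j hct)
              (homogeneousComponent_isHomogeneous j (c t))
          · exact Algebra.subset_adjoin ht
        · exact Subalgebra.zero_mem _
  intro f hf
  rw [← sum_homogeneousComponent f]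
  refine Subalgebra.sum_mem _ ?_
  intro d _
  exact key d _ (homogeneousComponent_mem_fixedPts hlin d hf) (homogeneousComponent_isHomogeneous d f)

end Poly

end Groth.Agent.Lib.Helper67.LinRed
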