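import Mathlib.RingTheory.Localization.AtPrime.Basic
import Mathlib.Algebra.Ring.Pi

/-!
Localizations of a product ring `∏ R i` at a prime ideal: idempotents and the domain property.
-/

set_option autoImplicit false
universe u v

namespace Groth.Agent.Lib.Helper67.ProdLoc

open Classical

variable {ι : Type u} (R : ι → Type v) [∀ i, CommRing (R i)]

/-- the idempotent of the product attached to a subset of the index set -/
noncomputable def idem (J : Set ι) : (∀ i, R i) := fun i => if i ∈ J then 1 else 0

variable {R}

theorem idem_apply_of_mem {J : Set ι} {i : ι} (h : i ∈ J) : idem R J i = 1 := by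
  simp [idem, h]

theorem idem_apply_of_not_mem {J : Set ι} {i : ι} (h : i ∉ J) : idem R J i = 0 := by
  simp [idem, h]

theorem idem_mul_compl (J : Set ι) : idem R J * (1 - idem R J) = 0 := by
  funext i
  by_cases h : i ∈ J
  · simp [idem, h]
  · simp [idem, h]

variable (P : Ideal (∀ i, R i)) [P.IsPrime]

theorem idem_mem_or (J : Set ι) : idem R J ∈ P ∨ (1 - idem R J) ∈ P := by
  apply Ideal.IsPrime.mem_or_mem inferInstance
  rw [idem_mul_compl]
  exact zero_mem _

/-- if `x` is killed by an element outside `P`, it vanishes in the localization -/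
theorem map_eq_zero_of_mul_eq_zero {x u : ∀ i, R i} (hu : u ∉ P) (h : u * x = 0) :
    algebraMap (∀ i, R i) (Localization.AtPrime P) x = 0 := by
  rw [IsLocalization.map_eq_zero_iff P.primeCompl]
  exact ⟨⟨u, hu⟩, h⟩

theorem exists_of_map_eq_zero {x : ∀ i, R i}
    (h : algebraMap (∀ i, R i) (Localization.AtPrime P) x = 0) : ∃ u, u ∉ P ∧ u * x = 0 := by
  rw [IsLocalization.map_eq_zero_iff P.primeCompl] at h
  obtain ⟨⟨u, hu⟩, h⟩ := h
  exact ⟨u, hu, h⟩

theorem map_idem_eq_one {J : Set ι} (h : idem R J ∉ P) :
    algebraMap (∀ i, R i) (Localization.AtPrime P) (idem R J) = 1 := by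
  have h0 : algebraMap (∀ i, R i) (Localization.AtPrime P) (1 - idem R J) = 0 :=
    map_eq_zero_of_mul_eq_zero P h (idem_mul_compl J)
  rw [map_sub, map_one, sub_eq_zero] at h0
  exact h0.symm

theorem map_idem_eq_one_of_compl_mem {J : Set ι} (h : (1 - idem R J) ∈ P) :
    algebraMap (∀ i, R i) (Localization.AtPrime P) (idem R J) = 1 := by
  apply map_idem_eq_one
  intro h'
  have : (1 : ∀ i, R i) ∈ P := by
    have := add_mem h h'
    rwa [sub_add_cancel] at this
  exact (Ideal.ne_top_iff_one P).mp (Ideal.IsPrime.ne_top inferInstance) this

theorem map_idem_eq_zero_of_mem {J : Set ι} (h : idem R J ∈ P) :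
    algebraMap (∀ i, R i) (Localization.AtPrime P) (idem R J) = 0 := by
  have hc : (1 - idem R J) ∉ P := by
    intro h'
    have : (1 : ∀ i, R i) ∈ P := by
      have := add_mem h' h
      rwa [sub_add_cancel] at this
    exact (Ideal.ne_top_iff_one P).mp (Ideal.IsPrime.ne_top inferInstance) this
  apply map_eq_zero_of_mul_eq_zero P hc
  rw [mul_comm]
  exact idem_mul_compl J

/-- every element of the localization is a unit times the image of an element -/
theorem exists_unit_mul (a : Localization.AtPrime P) :
    ∃ (x : ∀ i, R i) (v : Localization.AtPrime P), IsUnit v ∧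
      a * v = algebraMap (∀ i, R i) (Localization.AtPrime P) x := by
  obtain ⟨x, s, rfl⟩ := IsLocalization.exists_mk'_eq P.primeCompl a
  refine ⟨x, algebraMap _ _ (s : ∀ i, R i), IsLocalization.map_units _ s, ?_⟩
  rw [IsLocalization.mk'_spec]

variable [∀ i, IsDomain (R i)]

theorem isDomain_localization : IsDomain (Localization.AtPrime P) := by
  have hnt : Nontrivial (Localization.AtPrime P) := inferInstance
  have : NoZeroDivisors (Localization.AtPrime P) := by
    constructor
    intro a b hab
    obtain ⟨x, v, hv, hx⟩ := exists_unit_mul P a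
    obtain ⟨y, w, hw, hy⟩ := exists_unit_mul P b
    have hxy : algebraMap (∀ i, R i) (Localization.AtPrime P) (x * y) = 0 := by
      rw [map_mul, ← hx, ← hy]
      calc a * v * (b * w) = (a * b) * (v * w) := by ring
        _ = 0 := by rw [hab, zero_mul]
    obtain ⟨u, hu, hu0⟩ := exists_of_map_eq_zero P hxy
    -- J = set of indices where x vanishes
    let J : Set ι := {i | x i = 0}
    have h1 : idem R J * x = 0 := by
      funext i
      by_cases h : i ∈ J
      · have : x i = 0 := h
        simp [this]
      · simp [idem, h]
    have h2 : ((1 - idem R J) * u) * y = 0 := by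
      funext i
      by_cases h : i ∈ J
      · simp [idem, h]
      · have hxi : x i ≠ 0 := h
        have := congrFun hu0 i
        simp only [Pi.mul_apply, Pi.zero_apply] at this
        have huy : u i * y i = 0 := by
          rcases mul_eq_zero.mp this with h' | h'
          · rw [h', zero_mul]
          · rcases mul_eq_zero.mp h' with h'' | h''
            · exact absurd h'' hxi
            · rw [h'', mul_zero]
        simp only [Pi.mul_apply, Pi.zero_apply, mul_assoc, huy, mul_zero]
    rcases idem_mem_or P J with hJ | hJ
    · -- 1 - e ∉ P, so y = 0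
      right
      have hc : (1 - idem R J) ∉ P := by
        intro h'
        have : (1 : ∀ i, R i) ∈ P := by
          have := add_mem h' hJ
          rwa [sub_add_cancel] at this
        exact (Ideal.ne_top_iff_one P).mp (Ideal.IsPrime.ne_top inferInstance) this
      have hcu : (1 - idem R J) * u ∉ P := by
        intro h'
        rcases Ideal.IsPrime.mem_or_mem inferInstance h' with h'' | h''
        · exact hc h''
        · exact hu h''
      have hy0 := map_eq_zero_of_mul_eq_zero P hcu h2
      rw [← hy] at hy0
      exact (hw.mul_left_eq_zero).mp hy0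
    · left
      have hJ' : idem R J ∉ P := by
        intro h'
        have : (1 : ∀ i, R i) ∈ P := by
          have := add_mem hJ h'
          rwa [sub_add_cancel] at this
        exact (Ideal.ne_top_iff_one P).mp (Ideal.IsPrime.ne_top inferInstance) this
      have hx0 := map_eq_zero_of_mul_eq_zero P hJ' h1
      rw [← hx] at hx0
      exact (hv.mul_left_eq_zero).mp hx0
  exact NoZeroDivisors.to_isDomain _

end Groth.Agent.Lib.Helper67.ProdLoc
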