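import Mathlib.Topology.Algebra.Category.ProfiniteGrp.Completion
import Mathlib.GroupTheory.QuotientGroup.Basic

/-!
# Coordinates on the profinite completion of a group (helper67)

`ev G H : completion G → G ⧸ H` for `H` a finite-index normal subgroup; continuity, naturality
(`ev_map`), and the description of closures (`mem_closure_iff_ev`).
-/

set_option autoImplicit false
universe u
open CategoryTheory ProfiniteGrp ProfiniteGrp.ProfiniteCompletion

namespace Groth.Agent.Lib.Helper67.ProfCompl

variable (G : GrpCat.{u})

/-- evaluation at a finite-index normal subgroup -/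
def ev (H : FiniteIndexNormalSubgroup G) : completion G → (ProfiniteCompletion.diagram G).obj H :=
  fun x => x.1 H

lemma continuous_ev (H : FiniteIndexNormalSubgroup G) : Continuous (ev G H) :=
  ((limitCone (ProfiniteCompletion.diagram G)).π.app H).hom.continuous_toFun

instance (H : FiniteIndexNormalSubgroup G) :
    DiscreteTopology ((ProfiniteCompletion.diagram G).obj H) := ⟨rfl⟩

lemma ev_eta (H : FiniteIndexNormalSubgroup G) (g : G) :
    ev G H (etaFn G g) = (QuotientGroup.mk g : G ⧸ H.toSubgroup) := rfl

lemma ev_mul (H : FiniteIndexNormalSubgroup G) (x y : completion G) :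
    ev G H (x * y) = ev G H x * ev G H y := rfl

lemma ev_one (H : FiniteIndexNormalSubgroup G) : ev G H 1 = 1 := rfl

lemma ev_compat {H K : FiniteIndexNormalSubgroup G} (h : H ≤ K) (x : completion G) :
    (QuotientGroup.map H.toSubgroup K.toSubgroup (MonoidHom.id _) h (ev G H x) : G ⧸ K.toSubgroup) =
      ev G K x :=
  x.2 (homOfLE h)

lemma ext_ev (x y : completion G) (h : ∀ H, ev G H x = ev G H y) : x = y :=
  Subtype.ext (funext h)

set_option backward.isDefEq.respectTransparency false in
/-- Basic neighbourhoods of a point of the completion. -/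
lemma exists_ev_subset (U : Set (completion G)) (hU : IsOpen U) (x : completion G) (hx : x ∈ U) :
    ∃ H : FiniteIndexNormalSubgroup G, {y | ev G H y = ev G H x} ⊆ U := by
  obtain ⟨s, hsO, hsv⟩ := hU
  rw [← hsv, Set.mem_preimage] at hx
  rcases (isOpen_pi_iff.mp hsO) _ hx with ⟨J, fJ, hJ1, hJ2⟩
  let M : Subgroup G := iInf fun (j : J) => j.val
  have hM : M.Normal := Subgroup.normal_iInf_normal fun j => inferInstance
  have hMFinite : M.FiniteIndex := by
    apply Subgroup.finiteIndex_iInf
    infer_instance
  let m : FiniteIndexNormalSubgroup G := { toSubgroup := M }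
  refine ⟨m, ?_⟩
  intro y hy
  rw [← hsv]
  apply hJ2
  intro a a_in_J
  let M_to_Na : m ⟶ a := (iInf_le (fun (j : J) => (j.val.toSubgroup)) ⟨a, a_in_J⟩).hom
  have h1 := y.property M_to_Na
  have h2 := x.property M_to_Na
  have hy' : y.1 m = x.1 m := hy
  rw [← h1, hy', h2]
  exact (hJ1 a a_in_J).2

lemma mem_closure_iff_ev (S : Set (completion G)) (x : completion G) :
    x ∈ closure S ↔ ∀ H : FiniteIndexNormalSubgroup G, ∃ s ∈ S, ev G H s = ev G H x := by
  constructor
  · intro hx H
    have hopen : IsOpen {y | ev G H y = ev G H x} :=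
      (isOpen_discrete {ev G H x}).preimage (continuous_ev G H)
    obtain ⟨s, hs1, hs2⟩ := mem_closure_iff.1 hx _ hopen rfl
    exact ⟨s, hs2, hs1⟩
  · intro h
    rw [mem_closure_iff]
    intro U hU hxU
    obtain ⟨H, hH⟩ := exists_ev_subset G U hU x hxU
    obtain ⟨s, hs, hsx⟩ := h H
    exact ⟨s, hH hsx, hs⟩

variable {G}
variable {G' : GrpCat.{u}}

lemma map_eta (f : G ⟶ G') (g : G) :
    (profiniteCompletion.map f).hom (etaFn G g) = etaFn G' (f.hom g) := by
  have h := lift_eta (f ≫ eta G')
  have h' := ConcreteCategory.congr_hom h g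
  exact h'

/-- the induced map on finite quotients -/
def qmap (f : G ⟶ G') (K : FiniteIndexNormalSubgroup G') :
    (ProfiniteCompletion.diagram G).obj (K.comap f.hom) → (ProfiniteCompletion.diagram G').obj K :=
  fun z => (QuotientGroup.map (K.comap f.hom).toSubgroup K.toSubgroup f.hom (fun _ h => h) z :
    G' ⧸ K.toSubgroup)

lemma qmap_mk (f : G ⟶ G') (K : FiniteIndexNormalSubgroup G') (g : G) :
    qmap f K (QuotientGroup.mk g : G ⧸ (K.comap f.hom).toSubgroup) =
      (QuotientGroup.mk (f.hom g) : G' ⧸ K.toSubgroup) := rfl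

/-- The coordinate formula for the induced map on completions. -/
lemma ev_map (f : G ⟶ G') (K : FiniteIndexNormalSubgroup G') (x : completion G) :
    ev G' K ((profiniteCompletion.map f).hom x) = qmap f K (ev G (K.comap f.hom) x) := by
  have hc1 : Continuous (fun x : completion G => ev G' K ((profiniteCompletion.map f).hom x)) :=
    (continuous_ev G' K).comp (profiniteCompletion.map f).hom.continuous_toFun
  have hc2 : Continuous (fun x : completion G => qmap f K (ev G (K.comap f.hom) x)) :=
    (continuous_of_discreteTopology (f := qmap f K)).comp (continuous_ev G (K.comap f.hom))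
  have := (denseRange G).equalizer hc1 hc2 (by
    funext g
    simp only [Function.comp_apply]
    rw [map_eta, ev_eta, ev_eta, qmap_mk])
  exact congrFun this x

end Groth.Agent.Lib.Helper67.ProfCompl
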