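import Groth.Agent.S13363
import Groth.Agent.S13364
import Mathlib.GroupTheory.Index
import Mathlib.GroupTheory.QuotientGroup.Basic

/-!
# Finite-index subgroups of a subgroup are induced (helper67)

If `A/A'` has no nonzero divisible element and bounded torsion, every finite-index subgroup of `A'`
contains `K ⊓ A'` for some finite-index subgroup `K` of `A`.
-/

set_option autoImplicit false
universe u

namespace Groth.Agent.Lib.Helper67.ProfSub

theorem exists_finiteIndex_inf_le {A : Type u} [AddCommGroup A] (A' : AddSubgroup A)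
    (hdiv : ∀ x : A ⧸ A', (∀ n : ℕ, 0 < n → ∃ y : A ⧸ A', n • y = x) → x = 0)
    (htors : ∃ N : ℕ, 0 < N ∧ ∀ x : A ⧸ A', IsOfFinAddOrder x → N • x = 0)
    (H' : AddSubgroup A') [H'.FiniteIndex] :
    ∃ K : AddSubgroup A, K.FiniteIndex ∧ ∀ a : A', (a : A) ∈ K → a ∈ H' := by
  classical
  set H'' : AddSubgroup A := H'.map A'.subtype with hH''
  have hH''le : H'' ≤ A' := by
    rintro _ ⟨a, _, rfl⟩
    exact a.2
  have hmemH'' : ∀ a : A', (a : A) ∈ H'' ↔ a ∈ H' := by
    intro a
    constructor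
    · rintro ⟨b, hb, hba⟩
      have : b = a := Subtype.ext hba
      rwa [← this]
    · intro ha
      exact ⟨a, ha, rfl⟩
  -- the maps
  let f : (A' ⧸ H') →+ (A ⧸ H'') :=
    QuotientAddGroup.map H' H'' A'.subtype (fun a ha => (hmemH'' a).2 ha)
  let g : (A ⧸ H'') →+ (A ⧸ A') :=
    QuotientAddGroup.map H'' A' (AddMonoidHom.id A) hH''le
  have hf : Function.Injective f := by
    rw [injective_iff_map_eq_zero]
    intro z hz
    obtain ⟨a, rfl⟩ := QuotientAddGroup.mk_surjective z
    have : ((a : A) : A ⧸ H'') = 0 := hz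
    rw [QuotientAddGroup.eq_zero_iff] at this ⊢
    exact (hmemH'' a).1 this
  have hg : Function.Surjective g := by
    intro z
    obtain ⟨a, rfl⟩ := QuotientAddGroup.mk_surjective z
    exact ⟨(a : A ⧸ H''), rfl⟩
  have hfg : g.ker = f.range := by
    ext z
    obtain ⟨a, rfl⟩ := QuotientAddGroup.mk_surjective z
    constructor
    · intro hz
      have : ((a : A) : A ⧸ A') = 0 := hz
      rw [QuotientAddGroup.eq_zero_iff] at this
      exact ⟨((⟨a, this⟩ : A') : A' ⧸ H'), rfl⟩
    · rintro ⟨w, hw⟩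
      obtain ⟨b, rfl⟩ := QuotientAddGroup.mk_surjective w
      rw [AddMonoidHom.mem_ker, ← hw]
      show (((b : A) : A ⧸ A')) = 0
      rw [QuotientAddGroup.eq_zero_iff]
      exact b.2
  haveI : Finite (A' ⧸ H') := AddSubgroup.finite_quotient_of_finiteIndex
  have h' : ∀ x : A' ⧸ H', (∀ n : ℕ, 0 < n → ∃ y : A' ⧸ H', n • y = x) → x = 0 := by
    intro x hx
    haveI : Fintype (A' ⧸ H') := Fintype.ofFinite _
    obtain ⟨y, rfl⟩ := hx (Fintype.card (A' ⧸ H')) Fintype.card_pos
    exact card_nsmul_eq_zero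
  have hB : ∀ x : A ⧸ H'', (∀ n : ℕ, 0 < n → ∃ y : A ⧸ H'', n • y = x) → x = 0 :=
    fun x hx => Groth.Agent.S13364.result f g hf hg hfg h' hdiv htors x hx
  -- for each a ∈ A' \ H', a finite-index subgroup of A containing H'' and avoiding a
  have hsep : ∀ a : A', a ∉ H' → ∃ K : AddSubgroup A, K.FiniteIndex ∧ H'' ≤ K ∧ (a : A) ∉ K := by
    intro a ha
    have hne : ((a : A) : A ⧸ H'') ≠ 0 := by
      intro h0
      rw [QuotientAddGroup.eq_zero_iff] at h0
      exact ha ((hmemH'' a).1 h0)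
    have hnd : ¬ (∀ n : ℕ, 0 < n → ∃ y : A ⧸ H'', n • y = ((a : A) : A ⧸ H'')) :=
      fun h => hne (hB _ h)
    letI : TopologicalSpace (A ⧸ H'') := ⊥
    haveI : DiscreteTopology (A ⧸ H'') := ⟨rfl⟩
    obtain ⟨B, -, hBfin, haB⟩ := (Groth.Agent.S13363.result (A := A ⧸ H'')
      (fun n _ => isOpen_discrete _) ((a : A) : A ⧸ H'')).2 hnd
    refine ⟨B.comap (QuotientAddGroup.mk' H''), ?_, ?_, ?_⟩
    · constructor
      rw [AddSubgroup.index_comap_of_surjective B (QuotientAddGroup.mk'_surjective H'')]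
      exact hBfin.index_ne_zero
    · intro z hz
      rw [AddSubgroup.mem_comap]
      have : (QuotientAddGroup.mk' H'') z = 0 := (QuotientAddGroup.eq_zero_iff z).2 hz
      rw [this]
      exact B.zero_mem
    · exact haB
  -- intersect over the finitely many nonzero classes
  choose! Kf hKf using hsep
  let Ks : {c : A' ⧸ H' // c ≠ 0} → AddSubgroup A := fun c => Kf (Quotient.out c.1)
  have hout : ∀ c : {c : A' ⧸ H' // c ≠ 0}, Quotient.out c.1 ∉ H' := by
    intro c hc
    apply c.2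
    have : ((Quotient.out c.1 : A') : A' ⧸ H') = c.1 := Quotient.out_eq c.1
    rw [← this, QuotientAddGroup.eq_zero_iff]
    exact hc
  refine ⟨⨅ c, Ks c, ?_, ?_⟩
  · haveI : ∀ c, (Ks c).FiniteIndex := fun c => (hKf _ (hout c)).1
    exact AddSubgroup.finiteIndex_iInf (fun c => inferInstance)
  · intro a haK
    by_contra haH
    have hc : ((a : A') : A' ⧸ H') ≠ 0 := by
      intro h0
      rw [QuotientAddGroup.eq_zero_iff] at h0
      exact haH h0
    set c : {c : A' ⧸ H' // c ≠ 0} := ⟨(a : A' ⧸ H'), hc⟩ with hcdef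
    have hK := (hKf _ (hout c))
    have h1 : (a : A) ∈ Ks c := (AddSubgroup.mem_iInf.1 haK) c
    have h2 : (Quotient.out c.1 : A') - a ∈ H' := by
      have : ((Quotient.out c.1 : A') : A' ⧸ H') = (a : A' ⧸ H') := Quotient.out_eq c.1
      rw [← QuotientAddGroup.eq_zero_iff, QuotientAddGroup.mk_sub, this, sub_self]
    have h3 : ((Quotient.out c.1 : A') : A) - (a : A) ∈ Ks c := by
      apply hK.2.1
      have := (hmemH'' _).2 h2
      simpa using this
    have h4 : ((Quotient.out c.1 : A') : A) ∈ Ks c := by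
      have := (Ks c).add_mem h3 h1
      simpa using this
    exact hK.2.2 h4

/-- Multiplicative version. -/
theorem exists_finiteIndex_inf_le_mul {A : Type u} [CommGroup A] (A' : Subgroup A)
    (hdiv : ∀ x : A ⧸ A', (∀ n : ℕ, 0 < n → ∃ y : A ⧸ A', y ^ n = x) → x = 1)
    (htors : ∃ N : ℕ, 0 < N ∧ ∀ x : A ⧸ A', IsOfFinOrder x → x ^ N = 1)
    (H' : Subgroup A') [H'.FiniteIndex] :
    ∃ K : Subgroup A, K.FiniteIndex ∧ ∀ a : A', (a : A) ∈ K → a ∈ H' := by
  classical
  set H'' : Subgroup A := H'.map A'.subtype with hH''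
  have hH''le : H'' ≤ A' := by
    rintro _ ⟨a, _, rfl⟩
    exact a.2
  have hmemH'' : ∀ a : A', (a : A) ∈ H'' ↔ a ∈ H' := by
    intro a
    constructor
    · rintro ⟨b, hb, hba⟩
      have : b = a := Subtype.ext hba
      rwa [← this]
    · intro ha
      exact ⟨a, ha, rfl⟩
  let f : (A' ⧸ H') →* (A ⧸ H'') :=
    QuotientGroup.map H' H'' A'.subtype (fun a ha => (hmemH'' a).2 ha)
  let g : (A ⧸ H'') →* (A ⧸ A') :=
    QuotientGroup.map H'' A' (MonoidHom.id A) hH''le
  have hf : Function.Injective f := by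
    rw [injective_iff_map_eq_one]
    intro z hz
    obtain ⟨a, rfl⟩ := QuotientGroup.mk_surjective z
    have : ((a : A) : A ⧸ H'') = 1 := hz
    rw [QuotientGroup.eq_one_iff] at this ⊢
    exact (hmemH'' a).1 this
  have hg : Function.Surjective g := by
    intro z
    obtain ⟨a, rfl⟩ := QuotientGroup.mk_surjective z
    exact ⟨(a : A ⧸ H''), rfl⟩
  have hfg : g.ker = f.range := by
    ext z
    obtain ⟨a, rfl⟩ := QuotientGroup.mk_surjective z
    constructor
    · intro hz
      have : ((a : A) : A ⧸ A') = 1 := hz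
      rw [QuotientGroup.eq_one_iff] at this
      exact ⟨((⟨a, this⟩ : A') : A' ⧸ H'), rfl⟩
    · rintro ⟨w, hw⟩
      obtain ⟨b, rfl⟩ := QuotientGroup.mk_surjective w
      rw [MonoidHom.mem_ker, ← hw]
      show (((b : A) : A ⧸ A')) = 1
      rw [QuotientGroup.eq_one_iff]
      exact b.2
  haveI : Finite (A' ⧸ H') := Subgroup.finite_quotient_of_finiteIndex
  have h' : ∀ x : Additive (A' ⧸ H'), (∀ n : ℕ, 0 < n → ∃ y : Additive (A' ⧸ H'), n • y = x) → x = 0 := by
    intro x hx
    haveI : Fintype (A' ⧸ H') := Fintype.ofFinite _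
    obtain ⟨y, rfl⟩ := hx (Fintype.card (A' ⧸ H')) Fintype.card_pos
    exact pow_card_eq_one (x := Additive.toMul y)
  have hdiv' : ∀ x : Additive (A ⧸ A'), (∀ n : ℕ, 0 < n → ∃ y : Additive (A ⧸ A'), n • y = x) → x = 0 :=
    fun x hx => hdiv x hx
  have htors' : ∃ N : ℕ, 0 < N ∧ ∀ x : Additive (A ⧸ A'), IsOfFinAddOrder x → N • x = 0 := by
    obtain ⟨N, hN, h⟩ := htors
    exact ⟨N, hN, fun x hx => h x (isOfFinAddOrder_ofMul_iff.1 hx)⟩
  have hfg' : (MonoidHom.toAdditive g).ker = (MonoidHom.toAdditive f).range := by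
    ext z
    have := SetLike.ext_iff.1 hfg (Additive.toMul z)
    exact this
  have hB : ∀ x : Additive (A ⧸ H''),
      (∀ n : ℕ, 0 < n → ∃ y : Additive (A ⧸ H''), n • y = x) → x = 0 :=
    fun x hx => Groth.Agent.S13364.result (MonoidHom.toAdditive f) (MonoidHom.toAdditive g)
      hf hg hfg' h' hdiv' htors' x hx
  have hsep : ∀ a : A', a ∉ H' → ∃ K : Subgroup A, K.FiniteIndex ∧ H'' ≤ K ∧ (a : A) ∉ K := by
    intro a ha
    have hne : ((a : A) : A ⧸ H'') ≠ 1 := by
      intro h0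
      rw [QuotientGroup.eq_one_iff] at h0
      exact ha ((hmemH'' a).1 h0)
    have hnd : ¬ (∀ n : ℕ, 0 < n → ∃ y : Additive (A ⧸ H''),
        n • y = Additive.ofMul ((a : A) : A ⧸ H'')) :=
      fun h => hne (hB _ h)
    letI : TopologicalSpace (Additive (A ⧸ H'')) := ⊥
    haveI : DiscreteTopology (Additive (A ⧸ H'')) := ⟨rfl⟩
    obtain ⟨B, -, hBfin, haB⟩ := (Groth.Agent.S13363.result (A := Additive (A ⧸ H''))
      (fun n _ => isOpen_discrete _) (Additive.ofMul ((a : A) : A ⧸ H''))).2 hnd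
    haveI : (AddSubgroup.toSubgroup' B).FiniteIndex := ⟨hBfin.index_ne_zero⟩
    refine ⟨(AddSubgroup.toSubgroup' B).comap (QuotientGroup.mk' H''), ?_, ?_, ?_⟩
    · constructor
      rw [Subgroup.index_comap_of_surjective _ (QuotientGroup.mk'_surjective H'')]
      exact hBfin.index_ne_zero
    · intro z hz
      rw [Subgroup.mem_comap]
      have : (QuotientGroup.mk' H'') z = 1 := (QuotientGroup.eq_one_iff z).2 hz
      rw [this]
      exact Subgroup.one_mem _
    · exact haB
  choose! Kf hKf using hsep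
  let Ks : {c : A' ⧸ H' // c ≠ 1} → Subgroup A := fun c => Kf (Quotient.out c.1)
  have hout : ∀ c : {c : A' ⧸ H' // c ≠ 1}, Quotient.out c.1 ∉ H' := by
    intro c hc
    apply c.2
    have : ((Quotient.out c.1 : A') : A' ⧸ H') = c.1 := Quotient.out_eq c.1
    rw [← this, QuotientGroup.eq_one_iff]
    exact hc
  refine ⟨⨅ c, Ks c, ?_, ?_⟩
  · haveI : ∀ c, (Ks c).FiniteIndex := fun c => (hKf _ (hout c)).1
    exact Subgroup.finiteIndex_iInf (fun c => inferInstance)
  · intro a haK
    by_contra haH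
    have hc : ((a : A') : A' ⧸ H') ≠ 1 := by
      intro h0
      rw [QuotientGroup.eq_one_iff] at h0
      exact haH h0
    set c : {c : A' ⧸ H' // c ≠ 1} := ⟨(a : A' ⧸ H'), hc⟩ with hcdef
    have hK := (hKf _ (hout c))
    have h1 : (a : A) ∈ Ks c := (Subgroup.mem_iInf.1 haK) c
    have h2 : (Quotient.out c.1 : A') / a ∈ H' := by
      have : ((Quotient.out c.1 : A') : A' ⧸ H') = (a : A' ⧸ H') := Quotient.out_eq c.1
      rw [← QuotientGroup.eq_one_iff, QuotientGroup.mk_div, this, div_self']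
    have h3 : ((Quotient.out c.1 : A') : A) / (a : A) ∈ Ks c := by
      apply hK.2.1
      have := (hmemH'' _).2 h2
      simpa using this
    have h4 : ((Quotient.out c.1 : A') : A) ∈ Ks c := by
      have := (Ks c).mul_mem h3 h1
      simpa using this
    exact hK.2.2 h4

end Groth.Agent.Lib.Helper67.ProfSub
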