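import Mathlib
import Groth.Agent.S2121

/-! Pseudo-morphisms defined at a point (helper67): agreement on local rings of generizations,
Noetherian neighbourhood-agreement lemma, reduced locally-finite-components lemmas. -/

set_option autoImplicit false
universe u
open AlgebraicGeometry CategoryTheory Limits

namespace Groth.Agent.Lib.Helper67.PseudoMor


lemma fromSpecStalkOfMem_homOfLE {X : Scheme.{u}} {T V : X.Opens} (hTV : T ≤ V) (y : X)
    (hyT : y ∈ T) :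
    T.fromSpecStalkOfMem y hyT ≫ X.homOfLE hTV = V.fromSpecStalkOfMem y (hTV hyT) := by
  rw [← cancel_mono V.ι, Category.assoc, Scheme.homOfLE_ι, Scheme.Opens.fromSpecStalkOfMem_ι,
    Scheme.Opens.fromSpecStalkOfMem_ι]

lemma specMap_stalkSpecializes_fromSpecStalkOfMem {X : Scheme.{u}} (V : X.Opens) {x y : X}
    (hyx : y ⤳ x) (hxV : x ∈ V) :
    Spec.map (X.presheaf.stalkSpecializes hyx) ≫ V.fromSpecStalkOfMem x hxV =
      V.fromSpecStalkOfMem y (hyx.mem_open V.isOpen hxV) := by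
  rw [← cancel_mono V.ι, Category.assoc, Scheme.Opens.fromSpecStalkOfMem_ι,
    Scheme.Opens.fromSpecStalkOfMem_ι, Scheme.SpecMap_stalkSpecializes_fromSpecStalk]

/-- agreement on `Spec 𝒪_{X,x} ×_X U` implies agreement on `Spec 𝒪_{X,y}` for `y ∈ U`
generizing `x`. -/
lemma agree_on_stalk {X Y : Scheme.{u}} (U : X.Opens) (h : (U : Scheme.{u}) ⟶ Y) (x : X)
    (w : Spec (X.presheaf.stalk x) ⟶ Y)
    (hP : pullback.fst (X.fromSpecStalk x) U.ι ≫ w = pullback.snd (X.fromSpecStalk x) U.ι ≫ h)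
    (y : X) (hyU : y ∈ U) (hyx : y ⤳ x) :
    Spec.map (X.presheaf.stalkSpecializes hyx) ≫ w = U.fromSpecStalkOfMem y hyU ≫ h := by
  have hc : Spec.map (X.presheaf.stalkSpecializes hyx) ≫ X.fromSpecStalk x =
      U.fromSpecStalkOfMem y hyU ≫ U.ι := by
    rw [Scheme.Opens.fromSpecStalkOfMem_ι, Scheme.SpecMap_stalkSpecializes_fromSpecStalk]
  have h1 : pullback.lift _ _ hc ≫ pullback.fst (X.fromSpecStalk x) U.ι =
      Spec.map (X.presheaf.stalkSpecializes hyx) := pullback.lift_fst _ _ _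
  have h2 : pullback.lift _ _ hc ≫ pullback.snd (X.fromSpecStalk x) U.ι =
      U.fromSpecStalkOfMem y hyU := pullback.lift_snd _ _ _
  rw [← h1, Category.assoc, hP, ← Category.assoc, h2]

/-- the two candidate morphisms on `T = U ⊓ V` agree on `Spec` of the local ring of `↑T` at every
generization of `x`. -/
lemma agree_on_fromSpecStalk {X Y : Scheme.{u}} (U V : X.Opens) (h : (U : Scheme.{u}) ⟶ Y)
    (v : (V : Scheme.{u}) ⟶ Y) (x : X) (hxV : x ∈ V)
    (hP : pullback.fst (X.fromSpecStalk x) U.ι ≫ V.fromSpecStalkOfMem x hxV ≫ v =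
      pullback.snd (X.fromSpecStalk x) U.ι ≫ h)
    (z : ((U ⊓ V : X.Opens) : Scheme.{u})) (hzx : (U ⊓ V).ι z ⤳ x) :
    ((U ⊓ V : X.Opens) : Scheme.{u}).fromSpecStalk z ≫
        X.homOfLE (inf_le_right : U ⊓ V ≤ V) ≫ v =
      ((U ⊓ V : X.Opens) : Scheme.{u}).fromSpecStalk z ≫
        X.homOfLE (inf_le_left : U ⊓ V ≤ U) ≫ h := by
  have hzT : (U ⊓ V).ι z ∈ U ⊓ V := z.2
  have h1 := agree_on_stalk U h x _ hP _ hzT.1 hzx
  rw [← Category.assoc, specMap_stalkSpecializes_fromSpecStalkOfMem V hzx hxV] at h1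
  have e : ((U ⊓ V : X.Opens) : Scheme.{u}).fromSpecStalk z =
      Spec.map ((U ⊓ V).ι.stalkMap z) ≫ (U ⊓ V).fromSpecStalkOfMem ((U ⊓ V).ι z) hzT := by
    have : (U ⊓ V).fromSpecStalkOfMem ((U ⊓ V).ι z) hzT =
      Spec.map (inv ((U ⊓ V).ι.stalkMap z)) ≫
        ((U ⊓ V : X.Opens) : Scheme.{u}).fromSpecStalk z := rfl
    rw [this, ← Category.assoc, ← Spec.map_comp, IsIso.inv_hom_id, Spec.map_id, Category.id_comp]
  have e1 : (U ⊓ V).fromSpecStalkOfMem ((U ⊓ V).ι z) hzT ≫ X.homOfLE (inf_le_right : U ⊓ V ≤ V) =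
      V.fromSpecStalkOfMem ((U ⊓ V).ι z) hzT.2 := fromSpecStalkOfMem_homOfLE _ _ _
  have e2 : (U ⊓ V).fromSpecStalkOfMem ((U ⊓ V).ι z) hzT ≫ X.homOfLE (inf_le_left : U ⊓ V ≤ U) =
      U.fromSpecStalkOfMem ((U ⊓ V).ι z) hzT.1 := fromSpecStalkOfMem_homOfLE _ _ _
  rw [e, Category.assoc, Category.assoc, ← Category.assoc _ (X.homOfLE _) v,
    ← Category.assoc _ (X.homOfLE _) h, e1, e2, h1]



/-- two morphisms on an open `T` which agree locally around each point of `T' ≤ T` agree on `T'` -/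
lemma agree_of_locally_agree {X Y : Scheme.{u}} {T T' : X.Opens} (hle : T' ≤ T)
    (a b : (T : Scheme.{u}) ⟶ Y)
    (H : ∀ z ∈ T', ∃ N' : X.Opens, z ∈ N' ∧ ∃ hN : N' ≤ T,
      X.homOfLE hN ≫ a = X.homOfLE hN ≫ b) :
    X.homOfLE hle ≫ a = X.homOfLE hle ≫ b := by
  apply Scheme.hom_ext_of_forall
  intro z
  obtain ⟨N', hzN', hN, hab⟩ := H (T'.ι z) z.2
  refine ⟨T'.ι ⁻¹ᵁ N', hzN', ?_⟩
  have hsub : Set.range ((T'.ι ⁻¹ᵁ N').ι ≫ T'.ι) ⊆ Set.range N'.ι := by
    rintro _ ⟨o, rfl⟩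
    rw [Scheme.Opens.range_ι, Scheme.Hom.comp_apply]
    exact o.2
  let k : ((T'.ι ⁻¹ᵁ N' : T'.toScheme.Opens) : Scheme.{u}) ⟶ N' :=
    IsOpenImmersion.lift N'.ι ((T'.ι ⁻¹ᵁ N').ι ≫ T'.ι) hsub
  have hk : k ≫ N'.ι = (T'.ι ⁻¹ᵁ N').ι ≫ T'.ι := IsOpenImmersion.lift_fac _ _ _
  have hk2 : (T'.ι ⁻¹ᵁ N').ι ≫ X.homOfLE hle = k ≫ X.homOfLE hN := by
    rw [← cancel_mono T.ι, Category.assoc, Category.assoc, Scheme.homOfLE_ι, Scheme.homOfLE_ι, hk]
  rw [← Category.assoc, ← Category.assoc, hk2, Category.assoc, Category.assoc, hab]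

/-- **Noetherian case.** If two morphisms on an open `T` agree on `Spec` of the local ring at every
point of `T` generizing `x`, they agree on `T ∩ V'` for some open neighbourhood `V'` of `x`. -/
lemma exists_nhd_agree_of_isLocallyNoetherian {X Y : Scheme.{u}} [IsLocallyNoetherian X]
    (T : X.Opens) (a b : (T : Scheme.{u}) ⟶ Y) (x : X)
    (H : ∀ z : (T : Scheme.{u}), T.ι z ⤳ x →
      (T : Scheme.{u}).fromSpecStalk z ≫ a = (T : Scheme.{u}).fromSpecStalk z ≫ b) :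
    ∃ V' : X.Opens, x ∈ V' ∧ ∀ (T' : X.Opens) (hle : T' ≤ T), T' ≤ V' →
      X.homOfLE hle ≫ a = X.homOfLE hle ≫ b := by
  -- the good locus
  let G : Set X := {y | ∃ N' : X.Opens, y ∈ N' ∧ ∃ hN : N' ≤ T, X.homOfLE hN ≫ a = X.homOfLE hN ≫ b}
  have hGopen : IsOpen G := by
    rw [isOpen_iff_forall_mem_open]
    rintro y ⟨N', hyN', hN, hab⟩
    exact ⟨N', fun y' hy' => ⟨N', hy', hN, hab⟩, N'.isOpen, hyN'⟩
  -- generizations of `x` in `T` are good
  have hgood : ∀ z : (T : Scheme.{u}), T.ι z ⤳ x → T.ι z ∈ G := by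
    intro z hz
    haveI : (T : Scheme.{u}).IsGermInjectiveAt z := inferInstance
    obtain ⟨O, hzO, hO⟩ := spread_out_unique_of_isGermInjective' a b (H z hz)
    refine ⟨T.ι ''ᵁ O, ⟨z, hzO, rfl⟩, T.ι.image_le_opensRange O |>.trans (by simp), ?_⟩
    have e : ∀ hN : T.ι ''ᵁ O ≤ T, X.homOfLE hN = (T.ι.isoImage O).inv ≫ O.ι := by
      intro hN
      rw [← cancel_mono T.ι, Category.assoc, Scheme.homOfLE_ι, Scheme.Hom.isoImage_inv_ι]
    rw [e, Category.assoc, Category.assoc, hO]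
  -- the bad closed subset of `T`
  let C : TopologicalSpace.Closeds (T : Scheme.{u}) :=
    ⟨T.ι ⁻¹' Gᶜ, (hGopen.isClosed_compl).preimage T.ι.continuous⟩
  let I := Scheme.IdealSheafData.vanishingIdeal C
  let c : I.subscheme ⟶ X := I.subschemeι ≫ T.ι
  have hrange : Set.range c = (T : Set X) ∩ Gᶜ := by
    rw [Scheme.Hom.comp_base, TopCat.coe_comp, Set.range_comp,
      Scheme.IdealSheafData.range_subschemeι, Scheme.IdealSheafData.coe_support_vanishingIdeal]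
    change T.ι '' (T.ι ⁻¹' Gᶜ) = _
    rw [Set.image_preimage_eq_inter_range, Scheme.Opens.range_ι, Set.inter_comm]
  have hx : x ∉ closure ((T : Set X) ∩ Gᶜ) := by
    intro hx
    rw [← hrange] at hx
    obtain ⟨c', hc'⟩ := Groth.Agent.S2121.exists_specializes_of_mem_closure_range c x hx
    have hmem : c c' ∈ (T : Set X) ∩ Gᶜ := hrange ▸ ⟨c', rfl⟩
    have hcT : c c' ∈ Set.range T.ι := by rw [Scheme.Opens.range_ι]; exact hmem.1
    obtain ⟨z, hz⟩ := hcT
    exact hmem.2 (hz ▸ hgood z (hz ▸ hc'))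
  refine ⟨⟨(closure ((T : Set X) ∩ Gᶜ))ᶜ, isClosed_closure.isOpen_compl⟩, hx, ?_⟩
  intro T' hle hT'
  apply agree_of_locally_agree hle a b
  intro z hz
  by_contra hzG
  exact hT' hz (subset_closure ⟨hle hz, hzG⟩)



/-- locally finitely many irreducible components: an open neighbourhood of `x` all of whose points
have a common generization with `x`. -/
lemma exists_open_nhd_common_generization {X : Scheme.{u}} (x : X)
    (hfin : ∃ W : X.Opens, x ∈ W ∧
      {Z : Set X | Z ∈ irreducibleComponents X ∧ (Z ∩ (W : Set X)).Nonempty}.Finite) :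
    ∃ W₁ : X.Opens, x ∈ W₁ ∧ ∀ y ∈ W₁, ∃ η : X, η ⤳ y ∧ η ⤳ x := by
  obtain ⟨W, hxW, hW⟩ := hfin
  set F : Set (Set X) :=
    {Z : Set X | Z ∈ irreducibleComponents X ∧ (Z ∩ (W : Set X)).Nonempty} \ {Z | x ∈ Z} with hF
  have hFfin : F.Finite := hW.subset Set.diff_subset
  have hC : IsClosed (⋃₀ F) := by
    rw [Set.sUnion_eq_biUnion]
    exact hFfin.isClosed_biUnion fun Z hZ => isClosed_of_mem_irreducibleComponents Z hZ.1.1
  refine ⟨W ⊓ ⟨(⋃₀ F)ᶜ, hC.isOpen_compl⟩, ⟨hxW, ?_⟩, ?_⟩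
  · rintro ⟨Z, hZ, hxZ⟩
    exact hZ.2 hxZ
  · rintro y ⟨hyW, hyF⟩
    have hxZ : x ∈ irreducibleComponent y := by
      by_contra hx
      exact hyF ⟨irreducibleComponent y,
        ⟨⟨irreducibleComponent_mem_irreducibleComponents y, ⟨y, mem_irreducibleComponent, hyW⟩⟩,
          hx⟩, mem_irreducibleComponent⟩
    obtain ⟨η, hη⟩ := QuasiSober.sober (isIrreducible_irreducibleComponent (x := y))
      isClosed_irreducibleComponent
    exact ⟨η, hη.specializes mem_irreducibleComponent, hη.specializes hxZ⟩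

/-- germ injectivity at `x` for reduced schemes with locally finitely many components -/
lemma isGermInjectiveAt_of_isReduced {X : Scheme.{u}} [IsReduced X] (x : X)
    (hfin : ∃ W : X.Opens, x ∈ W ∧
      {Z : Set X | Z ∈ irreducibleComponents X ∧ (Z ∩ (W : Set X)).Nonempty}.Finite) :
    X.IsGermInjectiveAt x := by
  obtain ⟨W₁, hxW₁, hW₁⟩ := exists_open_nhd_common_generization x hfin
  obtain ⟨_, ⟨V₀, hV₀, rfl⟩, hxV₀, hV₀W : V₀ ≤ W₁⟩ :=
    X.isBasis_affineOpens.exists_subset_of_mem_open hxW₁ W₁.isOpen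
  refine ⟨V₀, hxV₀, hV₀, ?_⟩
  rw [injective_iff_map_eq_zero]
  intro s hs
  have h0 : X.presheaf.germ V₀ x hxV₀ s = X.presheaf.germ V₀ x hxV₀ 0 := by rw [hs, map_zero]
  obtain ⟨N, hxN, i1, i2, e⟩ := X.presheaf.germ_eq x hxV₀ hxV₀ s 0 h0
  apply eq_zero_of_basicOpen_eq_bot
  by_contra hne
  have hne' : ∃ y, y ∈ X.basicOpen s := by
    by_contra hcon
    apply hne
    ext y
    simp only [TopologicalSpace.Opens.coe_bot, Set.mem_empty_iff_false, iff_false]
    exact fun hy => hcon ⟨y, hy⟩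
  obtain ⟨y, hy⟩ := hne'
  obtain ⟨η, hηy, hηx⟩ := hW₁ y (hV₀W (X.basicOpen_le s hy))
  have h1 : η ∈ X.basicOpen s := hηy.mem_open (X.basicOpen s).isOpen hy
  have h2 : η ∈ N := hηx.mem_open N.isOpen hxN
  have h3 : X.basicOpen ((X.presheaf.map i1.op).hom s) = N ⊓ X.basicOpen s :=
    Scheme.basicOpen_res _ _ _
  have h4 : (X.presheaf.map i1.op).hom s = 0 := by
    have : (X.presheaf.map i1.op).hom s = (X.presheaf.map i2.op).hom 0 := e
    rw [this, map_zero]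
  rw [h4, Scheme.basicOpen_zero] at h3
  have : η ∈ N ⊓ X.basicOpen s := ⟨h2, h1⟩
  rw [← h3] at this
  exact this

/-- density of the generizations of `x` in opens contained in the good neighbourhood -/
lemma dense_generizations {X : Scheme.{u}} (x : X) (W₁ : X.Opens)
    (hW₁ : ∀ y ∈ W₁, ∃ η : X, η ⤳ y ∧ η ⤳ x) (T' : X.Opens) (hT' : T' ≤ W₁) :
    Dense {z : (T' : Scheme.{u}) | T'.ι z ⤳ x} := by
  rw [dense_iff_inter_open]
  rintro O hO ⟨z, hz⟩
  obtain ⟨η, hηz, hηx⟩ := hW₁ (T'.ι z) (hT' z.2)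
  have hηT' : η ∈ T' := hηz.mem_open T'.isOpen z.2
  obtain ⟨η', hη'⟩ : ∃ η' : (T' : Scheme.{u}), T'.ι η' = η := by
    have : η ∈ Set.range T'.ι := by rw [Scheme.Opens.range_ι]; exact hηT'
    exact this
  refine ⟨η', ?_, by show T'.ι η' ⤳ x; rw [hη']; exact hηx⟩
  have : η' ⤳ z := by
    rw [← T'.ι.isOpenEmbedding.isInducing.specializes_iff, hη']
    exact hηz
  exact this.mem_open hO hz


end Groth.Agent.Lib.Helper67.PseudoMor
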