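import Mathlib

set_option autoImplicit false
set_option linter.style.haveILetI false
universe u

namespace Groth.Agent.Lib.Helper67.SectionSpread

open MvPolynomial

/-- A finitely presented `R`-algebra `B` with an `R`-algebra map to a field `K` all of whose elements
are fractions of elements of `R`: after inverting one element `a` of `R` (nonzero in `K`) and dividing
by a finitely generated ideal, `B` maps to `R_a / J`, which still has a prime over the kernel of
`R → K`. -/
theorem exists_section_ring {R B K : Type u} [CommRing R] [CommRing B] [Field K] [Algebra R B]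
    [Algebra.FinitePresentation R B] [Algebra R K] (ψ : B →ₐ[R] K)
    (hK : ∀ k : K, ∃ r s : R, algebraMap R K s ≠ 0 ∧ algebraMap R K s * k = algebraMap R K r) :
    ∃ (a : R) (J : Ideal (Localization.Away a)), J.FG ∧
      Nonempty (B →ₐ[R] Localization.Away a ⧸ J) ∧
      ∃ P : Ideal (Localization.Away a ⧸ J), P.IsPrime ∧
        P.comap (algebraMap R (Localization.Away a ⧸ J)) = RingHom.ker (algebraMap R K) := by
  classical
  obtain ⟨n, π, hπ, hker⟩ := Algebra.FinitePresentation.out (R := R) (A := B)
  choose r s hs hrs using fun i : Fin n => hK (ψ (π (X i)))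
  let a : R := ∏ i, s i
  have ha : algebraMap R K a ≠ 0 := by
    rw [map_prod]
    exact Finset.prod_ne_zero_iff.mpr fun i _ => hs i
  let r' : Fin n → R := fun i => r i * ∏ j ∈ Finset.univ.erase i, s j
  have hr' : ∀ i, algebraMap R K a * ψ (π (X i)) = algebraMap R K (r' i) := by
    intro i
    have : a = s i * ∏ j ∈ Finset.univ.erase i, s j :=
      (Finset.mul_prod_erase Finset.univ s (Finset.mem_univ i)).symm
    rw [this, map_mul, map_mul, ← hrs i]
    ring
  let A := Localization.Away a
  have hunit : ∀ y : Submonoid.powers a, IsUnit ((Algebra.ofId R K) y) := by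
    rintro ⟨_, k, rfl⟩
    change IsUnit (algebraMap R K (a ^ k))
    rw [map_pow]
    exact (ha.isUnit).pow k
  let ι : A →ₐ[R] K := IsLocalization.liftAlgHom (M := Submonoid.powers a) (f := Algebra.ofId R K) hunit
  let am : Submonoid.powers a := ⟨a, Submonoid.mem_powers a⟩
  let φa : MvPolynomial (Fin n) R →ₐ[R] A := aeval fun i => IsLocalization.mk' A (r' i) am
  have hcomp : ι.comp φa = ψ.comp π := by
    apply MvPolynomial.algHom_ext
    intro i
    simp only [AlgHom.comp_apply, φa, aeval_X]
    change IsLocalization.lift hunit (IsLocalization.mk' A (r' i) am) = _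
    rw [IsLocalization.lift_mk']
    rw [Units.mul_inv_eq_iff_eq_mul, IsUnit.coe_liftRight]
    change algebraMap R K (r' i) = ψ (π (X i)) * algebraMap R K a
    rw [← hr' i, mul_comm]
  let J : Ideal A := (RingHom.ker π.toRingHom).map φa.toRingHom
  have hJ : J.FG := hker.map _
  have hJι : ∀ x ∈ J, ι x = 0 := by
    intro x hx
    have hle : J ≤ RingHom.ker ι.toRingHom := by
      rw [Ideal.map_le_iff_le_comap]
      intro g hg
      change ι (φa g) = 0
      have := congrArg (fun F : MvPolynomial (Fin n) R →ₐ[R] K => F g) hcomp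
      simp only [AlgHom.comp_apply] at this
      rw [this]
      have hg' : π g = 0 := hg
      rw [hg', map_zero]
    exact hle hx
  let ι' : A ⧸ J →ₐ[R] K := Ideal.Quotient.liftₐ J ι hJι
  let σ₀ : MvPolynomial (Fin n) R →ₐ[R] A ⧸ J := (Ideal.Quotient.mkₐ R J).comp φa
  have hσ₀ : ∀ g : MvPolynomial (Fin n) R, g ∈ RingHom.ker π.toRingHom → σ₀ g = 0 := by
    intro g hg
    change Ideal.Quotient.mk J (φa g) = 0
    rw [Ideal.Quotient.eq_zero_iff_mem]
    exact Ideal.mem_map_of_mem _ hg
  let σ : B →ₐ[R] A ⧸ J :=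
    (Ideal.Quotient.liftₐ (RingHom.ker π.toRingHom) σ₀ hσ₀).comp
      (Ideal.quotientKerAlgEquivOfSurjective hπ).symm.toAlgHom
  refine ⟨a, J, hJ, ⟨σ⟩, RingHom.ker ι'.toRingHom, RingHom.ker_isPrime _, ?_⟩
  ext x
  simp only [Ideal.mem_comap, RingHom.mem_ker]
  change ι' (algebraMap R (A ⧸ J) x) = 0 ↔ _
  rw [ι'.commutes]

end Groth.Agent.Lib.Helper67.SectionSpread
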