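import Mathlib
import Groth.Agent.Lib.Helper35.SmoothSlice

set_option autoImplicit false
set_option maxHeartbeats 400000
set_option backward.isDefEq.respectTransparency.types false
set_option linter.style.haveILetI false
universe u

namespace Groth.Agent.Lib.Helper67.SliceContain

open IsLocalRing TensorProduct KaehlerDifferential
open Groth.Agent.Lib.Helper35 Groth.Agent.Lib.Helper35.SmoothSlice

/-- every element of `κ ⊗ Ω[C/B]` is `1 ⊗ d g` with `g ∈ K`, when `C ⧸ K` is formally unramified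
over `B`. -/
theorem exists_D_eq' {B C : Type u} [CommRing B] [CommRing C] [IsLocalRing C] [Algebra B C]
    (K : Ideal C) (hK : K ≤ maximalIdeal C) [Algebra.FormallyUnramified B (C ⧸ K)]
    (v : ResidueField C ⊗[C] Ω[C⁄B]) :
    ∃ g ∈ K, (1 : ResidueField C) ⊗ₜ[C] D B C g = v := by
  have hsurj : Function.Surjective (algebraMap C (C ⧸ K)) := Ideal.Quotient.mk_surjective
  have hex := KaehlerDifferential.exact_kerCotangentToTensor_mapBaseChange B C (C ⧸ K) hsurj
  -- the linear map C ⧸ K → κ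
  let φ : (C ⧸ K) →ₗ[C] ResidueField C :=
    Submodule.liftQ K (Algebra.linearMap C (ResidueField C)) (by
      intro x hx
      have : residue C x = 0 := (residue_eq_zero_iff x).mpr (hK hx)
      exact this)
  have hφ : Function.Surjective φ := by
    intro z
    obtain ⟨c, rfl⟩ := residue_surjective z
    exact ⟨Submodule.Quotient.mk c, rfl⟩
  have hφ1 : φ 1 = 1 := by
    have : φ (Submodule.Quotient.mk 1) = algebraMap C (ResidueField C) 1 := rfl
    rw [map_one] at this
    exact this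
  obtain ⟨w, rfl⟩ := LinearMap.rTensor_surjective (Ω[C⁄B]) hφ v
  have h0 : KaehlerDifferential.mapBaseChange B C (C ⧸ K) w = 0 := Subsingleton.elim _ _
  obtain ⟨t, rfl⟩ := (hex w).mp h0
  obtain ⟨⟨c, hc⟩, rfl⟩ := Ideal.toCotangent_surjective _ t
  refine ⟨c, ?_, ?_⟩
  · have : c ∈ RingHom.ker (algebraMap C (C ⧸ K)) := hc
    rwa [Ideal.Quotient.algebraMap_eq, Ideal.mk_ker] at this
  · rw [KaehlerDifferential.kerCotangentToTensor_toCotangent, LinearMap.rTensor_tmul, hφ1]

/-- **Étale slice through a given unramified subscheme, ring form**. -/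
theorem exists_slice' {B C : Type u} [CommRing B] [CommRing C] [IsLocalRing C] [Algebra B C]
    [Algebra.FormallySmooth B C] [Module.Free C Ω[C⁄B]] [Module.Finite C Ω[C⁄B]]
    (K : Ideal C) (hK : K ≤ maximalIdeal C) [Algebra.FormallyUnramified B (C ⧸ K)] :
    ∃ (n : ℕ) (g : Fin n → C), (∀ i, g i ∈ K) ∧
      Algebra.FormallyEtale B (C ⧸ Ideal.span (Set.range g)) := by
  classical
  have hsurj : Function.Surjective (algebraMap C (ResidueField C)) := residue_surjective
  have hker : RingHom.ker (algebraMap C (ResidueField C)) = maximalIdeal C := by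
    rw [ResidueField.algebraMap_eq, ker_residue]
  obtain ⟨n, hn⟩ : ∃ n, n = Module.finrank (ResidueField C) (ResidueField C ⊗[C] Ω[C⁄B]) := ⟨_, rfl⟩
  let b : Module.Basis (Fin n) (ResidueField C) (ResidueField C ⊗[C] Ω[C⁄B]) :=
    (Module.finBasis (ResidueField C) (ResidueField C ⊗[C] Ω[C⁄B])).reindex (finCongr hn.symm)
  choose g hgK hgb using fun i => exists_D_eq' (B := B) (C := C) K hK (b i)
  have hgm : ∀ i, g i ∈ maximalIdeal C := fun i => hK (hgK i)
  refine ⟨n, g, hgK, ?_⟩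
  obtain ⟨I, hI⟩ : ∃ I : Ideal C, I = Ideal.span (Set.range g) := ⟨_, rfl⟩
  rw [← hI]
  have hIm : I ≤ maximalIdeal C := by
    rw [hI, Ideal.span_le]
    rintro _ ⟨i, rfl⟩
    exact hgm i
  have hgI : ∀ i, g i ∈ I := fun i => hI ▸ Ideal.subset_span ⟨i, rfl⟩
  haveI : Nontrivial (C ⧸ I) :=
    Ideal.Quotient.nontrivial_iff.mpr (fun h => (maximalIdeal.isMaximal C).ne_top
      (top_le_iff.mp (h ▸ hIm)))
  haveI : IsLocalRing (C ⧸ I) :=
    IsLocalRing.of_surjective' (Ideal.Quotient.mk _) Ideal.Quotient.mk_surjective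
  have hkerI : RingHom.ker (algebraMap C (C ⧸ I)) = I := by
    rw [Ideal.Quotient.algebraMap_eq, Ideal.mk_ker]
  have hσ : Function.Surjective (algebraMap C (C ⧸ I)) := by
    rw [Ideal.Quotient.algebraMap_eq]; exact Ideal.Quotient.mk_surjective
  -- key computation
  have hcomp : ∀ a : Fin n → C, (1 : ResidueField C) ⊗ₜ[C] D B C (∑ i, a i * g i) =
      ∑ i, residue C (a i) • b i := by
    intro a
    rw [map_sum, tmul_sum]
    refine Finset.sum_congr rfl fun i _ => ?_
    rw [Derivation.leibniz, tmul_add, ← hgb i, tmul_smul, tmul_smul, smul_tmul', smul_tmul',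
      Algebra.smul_def, Algebra.smul_def, mul_one, mul_one, ResidueField.algebraMap_eq,
      (residue_eq_zero_iff _).mpr (hgm i), zero_tmul, add_zero, smul_tmul', smul_eq_mul, mul_one]
  rw [Algebra.FormallyEtale.iff_formallyUnramified_and_formallySmooth]
  constructor
  · -- formally unramified
    refine ⟨?_⟩
    haveI : IsLocalHom (algebraMap C (C ⧸ I)) := IsLocalHom.of_surjective _ hσ
    haveI : Module.Finite (C ⧸ I) Ω[(C ⧸ I)⁄B] :=
      Module.Finite.of_surjective (KaehlerDifferential.mapBaseChange B C (C ⧸ I))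
        (KaehlerDifferential.mapBaseChange_surjective B C (C ⧸ I) hσ)
    have hD : ∀ c : C, D B (C ⧸ I) (algebraMap C (C ⧸ I) c) ∈
        maximalIdeal (C ⧸ I) • (⊤ : Submodule (C ⧸ I) Ω[(C ⧸ I)⁄B]) := by
      intro c
      obtain ⟨a, ha⟩ : ∃ a : Fin n → C, (1 : ResidueField C) ⊗ₜ[C] D B C c =
          ∑ i, residue C (a i) • b i := by
        have := b.sum_repr ((1 : ResidueField C) ⊗ₜ[C] D B C c)
        choose a ha using fun i => residue_surjective (b.repr ((1 : ResidueField C) ⊗ₜ[C] D B C c) i)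
        exact ⟨a, by simp_rw [ha]; exact this.symm⟩
      have h1 : (1 : ResidueField C) ⊗ₜ[C] D B C (c - ∑ i, a i * g i) = 0 := by
        rw [map_sub, tmul_sub, hcomp, ha, sub_self]
      rw [one_tmul_eq_zero_iff hsurj, hker] at h1
      have h2 := map_mem_smul_top (R := B) (P' := C ⧸ I) _ h1
      rw [KaehlerDifferential.map_D, map_sub, map_sum] at h2
      have h3 : ∑ i, algebraMap C (C ⧸ I) (a i * g i) = 0 := by
        refine Finset.sum_eq_zero fun i _ => ?_
        rw [Ideal.Quotient.algebraMap_eq, Ideal.Quotient.eq_zero_iff_mem]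
        exact I.mul_mem_left _ (hgI i)
      rwa [h3, sub_zero] at h2
    have htop : (⊤ : Submodule (C ⧸ I) Ω[(C ⧸ I)⁄B]) ≤
        maximalIdeal (C ⧸ I) • (⊤ : Submodule (C ⧸ I) Ω[(C ⧸ I)⁄B]) := by
      have h : Submodule.span (C ⧸ I) (Set.range (D B (C ⧸ I))) ≤
          maximalIdeal (C ⧸ I) • (⊤ : Submodule (C ⧸ I) Ω[(C ⧸ I)⁄B]) := by
        rw [Submodule.span_le]
        rintro _ ⟨d, rfl⟩
        obtain ⟨c, rfl⟩ := hσ d
        exact hD c
      rwa [KaehlerDifferential.span_range_derivation] at h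
    have hbot := Submodule.eq_bot_of_le_smul_of_le_jacobson_bot (maximalIdeal (C ⧸ I)) ⊤
      (Module.Finite.fg_top) htop (IsLocalRing.maximalIdeal_le_jacobson _)
    exact (Submodule.subsingleton_iff (C ⧸ I)).mp (subsingleton_of_bot_eq_top hbot.symm)
  · -- formally smooth
    rw [FiberSmoothRing.formallySmooth_iff_forall_mem (A := B) (P := C) (B := C ⧸ I) hσ
      (by rw [hkerI, hI]; exact ⟨Finset.univ.image g, by simp⟩)]
    intro c hc hDc
    rw [hkerI] at hc ⊢
    rw [hI] at hc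
    obtain ⟨a, rfl⟩ := (Ideal.mem_span_range_iff_exists_fun).mp hc
    have h1 : (1 : ResidueField C) ⊗ₜ[C] D B C (∑ i, a i * g i) = 0 := by
      rw [one_tmul_eq_zero_iff hsurj, hker]; exact hDc
    rw [hcomp] at h1
    have h2 := fun i => (Fintype.linearIndependent_iff.mp b.linearIndependent _ h1) i
    refine Ideal.sum_mem _ fun i _ => ?_
    exact Ideal.mul_mem_mul ((residue_eq_zero_iff _).mp (h2 i)) (hgI i)


/-- **Étale slice through a given unramified closed subscheme, chart form**. -/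
theorem exists_slice_chart' {B₀ C₀ C : Type u} [CommRing B₀] [CommRing C₀] [CommRing C]
    [Algebra B₀ C₀] [Algebra.Smooth B₀ C₀]
    (q : Ideal C₀) [q.IsPrime] [Algebra C₀ C] [IsLocalization.AtPrime C q] [IsLocalRing C]
    [Algebra B₀ C] [IsScalarTower B₀ C₀ C]
    (K₀ : Ideal C₀) (hK₀ : K₀ ≤ q) [Algebra.FormallyUnramified B₀ (C₀ ⧸ K₀)] :
    ∃ (J₀ : Ideal C₀) (t : C₀), J₀ ≤ K₀ ∧ t ∉ q ∧ J₀.FG ∧
      Algebra.Etale B₀ (Localization.Away (Ideal.Quotient.mk J₀ t)) := by
  classical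
  haveI : Algebra.FormallySmooth C₀ C := Algebra.FormallySmooth.of_isLocalization q.primeCompl
  haveI : Algebra.FormallyEtale C₀ C := Algebra.FormallyEtale.of_isLocalization q.primeCompl
  haveI : Algebra.FormallySmooth B₀ C := Algebra.FormallySmooth.comp B₀ C₀ C
  let e := KaehlerDifferential.tensorKaehlerEquivOfFormallyEtale B₀ C₀ C
  haveI : Module.Finite C Ω[C⁄B₀] := Module.Finite.equiv e
  haveI : Module.Projective C Ω[C⁄B₀] := Module.Projective.of_equiv e
  haveI : Module.Free C Ω[C⁄B₀] := Module.free_of_flat_of_isLocalRing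
  -- the ideal K of C and unramifiedness of C ⧸ K
  obtain ⟨K, hKdef⟩ : ∃ K : Ideal C, K = K₀.map (algebraMap C₀ C) := ⟨_, rfl⟩
  have hKm : K ≤ maximalIdeal C := by
    rw [hKdef, Ideal.map_le_iff_le_comap]
    intro x hx
    exact (IsLocalization.AtPrime.to_map_mem_maximal_iff C q x).mpr (hK₀ hx)
  haveI : IsScalarTower B₀ (C₀ ⧸ K₀) (C ⧸ K₀.map (algebraMap C₀ C)) := by
    refine IsScalarTower.of_algebraMap_eq fun b => ?_
    show Ideal.Quotient.mk _ (algebraMap B₀ C b) = _
    rw [IsScalarTower.algebraMap_apply B₀ C₀ C]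
    rfl
  haveI : IsLocalization (Algebra.algebraMapSubmonoid (C₀ ⧸ K₀) q.primeCompl)
      (C ⧸ K₀.map (algebraMap C₀ C)) := inferInstance
  haveI : Algebra.FormallyUnramified (C₀ ⧸ K₀) (C ⧸ K₀.map (algebraMap C₀ C)) :=
    Algebra.FormallyUnramified.of_isLocalization
      (Algebra.algebraMapSubmonoid (C₀ ⧸ K₀) q.primeCompl)
  haveI : Algebra.FormallyUnramified B₀ (C ⧸ K₀.map (algebraMap C₀ C)) :=
    Algebra.FormallyUnramified.comp B₀ (C₀ ⧸ K₀) _
  haveI : Algebra.FormallyUnramified B₀ (C ⧸ K) := by rw [hKdef]; infer_instance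
  obtain ⟨n, g, hgK, hét⟩ := exists_slice' (B := B₀) (C := C) K hKm
  have hgm : ∀ i, g i ∈ maximalIdeal C := fun i => hKm (hgK i)
  choose as0 has0 using fun i =>
    (IsLocalization.mem_map_algebraMap_iff q.primeCompl C).mp (hKdef ▸ hgK i)
  let as : Fin n → C₀ × q.primeCompl := fun i => (((as0 i).1 : C₀), (as0 i).2)
  have has : ∀ i, g i * algebraMap C₀ C ((as i).2 : C₀) = algebraMap C₀ C (as i).1 := has0
  let a : Fin n → C₀ := fun i => (as i).1
  have haK : ∀ i, a i ∈ K₀ := fun i => (as0 i).1.2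
  have hu : ∀ i, IsUnit (algebraMap C₀ C ((as i).2 : C₀)) := fun i =>
    IsLocalization.map_units C (as i).2
  have haq : ∀ i, a i ∈ q := by
    intro i
    rw [← IsLocalization.AtPrime.to_map_mem_maximal_iff C q (a i)]
    show algebraMap C₀ C (as i).1 ∈ maximalIdeal C
    rw [← has i]
    exact Ideal.mul_mem_right _ _ (hgm i)
  obtain ⟨J₀, hJ₀⟩ : ∃ J₀ : Ideal C₀, J₀ = Ideal.span (Set.range a) := ⟨_, rfl⟩
  have hJq : J₀ ≤ q := by
    rw [hJ₀, Ideal.span_le]
    rintro _ ⟨i, rfl⟩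
    exact haq i
  have hJfg : J₀.FG := hJ₀ ▸ ⟨Finset.univ.image a, by simp⟩
  have hIJ : Ideal.span (Set.range g) = J₀.map (algebraMap C₀ C) := by
    rw [hJ₀, Ideal.map_span]
    apply le_antisymm
    · rw [Ideal.span_le]
      rintro _ ⟨i, rfl⟩
      obtain ⟨u, hu'⟩ := hu i
      have h1 : g i = algebraMap C₀ C (a i) * ↑u⁻¹ := by
        rw [← has i, ← hu', mul_assoc, Units.mul_inv, mul_one]
      rw [h1]
      exact Ideal.mul_mem_right _ _ (Ideal.subset_span ⟨a i, ⟨i, rfl⟩, rfl⟩)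
    · rw [Ideal.span_le]
      rintro _ ⟨_, ⟨i, rfl⟩, rfl⟩
      show algebraMap C₀ C (as i).1 ∈ _
      rw [← has i]
      exact Ideal.mul_mem_right _ _ (Ideal.subset_span ⟨i, rfl⟩)
  -- the quotient chart
  obtain ⟨qb, hqb⟩ : ∃ qb : Ideal (C₀ ⧸ J₀), qb = q.map (Ideal.Quotient.mk J₀) := ⟨_, rfl⟩
  haveI hqbp : qb.IsPrime := by
    rw [hqb]
    exact Ideal.map_isPrime_of_surjective Ideal.Quotient.mk_surjective (by rwa [Ideal.mk_ker])
  have hmem : ∀ y : C₀, Ideal.Quotient.mk J₀ y ∈ qb ↔ y ∈ q := by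
    intro y
    rw [hqb]
    constructor
    · intro hy
      have := Ideal.mem_comap.mpr hy
      rwa [Ideal.comap_map_of_surjective _ Ideal.Quotient.mk_surjective, ← RingHom.ker_eq_comap_bot,
        Ideal.mk_ker, sup_eq_left.mpr hJq] at this
    · exact fun hy => Ideal.mem_map_of_mem _ hy
  have hsub : Algebra.algebraMapSubmonoid (C₀ ⧸ J₀) q.primeCompl = qb.primeCompl := by
    ext y
    obtain ⟨y, rfl⟩ := Ideal.Quotient.mk_surjective y
    constructor
    · rintro ⟨y', hy', hyy'⟩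
      show _ ∉ qb
      rw [← hyy', Ideal.Quotient.algebraMap_eq, hmem]
      exact hy'
    · intro hy
      exact ⟨y, fun h => hy ((hmem y).mpr h), rfl⟩
  haveI hloc : IsLocalization.AtPrime (C ⧸ J₀.map (algebraMap C₀ C)) qb := by
    show IsLocalization qb.primeCompl _
    rw [← hsub]
    infer_instance
  haveI : Algebra.FormallyEtale B₀ (C ⧸ J₀.map (algebraMap C₀ C)) :=
    Algebra.FormallyEtale.of_equiv (Ideal.quotientEquivAlgOfEq B₀ hIJ)
  haveI : Algebra.FinitePresentation B₀ (C₀ ⧸ J₀) := Algebra.FinitePresentation.quotient hJfg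
  haveI : IsScalarTower B₀ (C₀ ⧸ J₀) (C ⧸ J₀.map (algebraMap C₀ C)) := by
    refine IsScalarTower.of_algebraMap_eq fun b => ?_
    show Ideal.Quotient.mk _ (algebraMap B₀ C b) = _
    rw [IsScalarTower.algebraMap_apply B₀ C₀ C]
    rfl
  haveI : Algebra.IsEtaleAt B₀ qb := by
    show Algebra.FormallyEtale B₀ (Localization.AtPrime qb)
    exact Algebra.FormallyEtale.of_equiv
      ((IsLocalization.algEquiv qb.primeCompl (C ⧸ J₀.map (algebraMap C₀ C))
        (Localization.AtPrime qb)).restrictScalars B₀)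
  obtain ⟨tb, htb, hét'⟩ := Algebra.exists_etale_of_isEtaleAt (R := B₀) qb
  obtain ⟨t, rfl⟩ := Ideal.Quotient.mk_surjective tb
  have hJK : J₀ ≤ K₀ := by
    rw [hJ₀, Ideal.span_le]
    rintro _ ⟨i, rfl⟩
    exact haK i
  exact ⟨J₀, t, hJK, fun h => htb ((hmem t).mpr h), hJfg, hét'⟩


/-- transfer étaleness from `Localization.Away` of the quotient to the quotient of any away
localization. -/
theorem etale_quotient_of_away {B₀ C₀ C₁ : Type u} [CommRing B₀] [CommRing C₀] [CommRing C₁]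
    [Algebra B₀ C₀] [Algebra C₀ C₁] [Algebra B₀ C₁] [IsScalarTower B₀ C₀ C₁]
    (J₀ : Ideal C₀) (t : C₀) [IsLocalization.Away t C₁]
    (h : Algebra.Etale B₀ (Localization.Away (Ideal.Quotient.mk J₀ t))) :
    Algebra.Etale B₀ (C₁ ⧸ J₀.map (algebraMap C₀ C₁)) := by
  haveI : IsLocalization (Algebra.algebraMapSubmonoid (C₀ ⧸ J₀) (Submonoid.powers t))
      (C₁ ⧸ J₀.map (algebraMap C₀ C₁)) := inferInstance
  have hsub : Algebra.algebraMapSubmonoid (C₀ ⧸ J₀) (Submonoid.powers t) =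
      Submonoid.powers (Ideal.Quotient.mk J₀ t) := by
    simp [Algebra.algebraMapSubmonoid, Submonoid.map_powers]
  haveI : IsLocalization.Away (Ideal.Quotient.mk J₀ t) (C₁ ⧸ J₀.map (algebraMap C₀ C₁)) := by
    show IsLocalization (Submonoid.powers _) _
    rw [← hsub]
    infer_instance
  haveI : IsScalarTower B₀ (C₀ ⧸ J₀) (C₁ ⧸ J₀.map (algebraMap C₀ C₁)) := by
    refine IsScalarTower.of_algebraMap_eq fun b => ?_
    show Ideal.Quotient.mk _ (algebraMap B₀ C₁ b) = _
    rw [IsScalarTower.algebraMap_apply B₀ C₀ C₁]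
    rfl
  let e := (IsLocalization.algEquiv (Submonoid.powers (Ideal.Quotient.mk J₀ t))
    (Localization.Away (Ideal.Quotient.mk J₀ t))
    (C₁ ⧸ J₀.map (algebraMap C₀ C₁))).restrictScalars B₀
  exact Algebra.Etale.of_equiv e

end Groth.Agent.Lib.Helper67.SliceContain
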