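import Mathlib
import Groth.Agent.Lib.Helper67.SliceContain

set_option autoImplicit false
set_option maxHeartbeats 400000
set_option backward.isDefEq.respectTransparency.types false
set_option linter.style.haveILetI false
universe u
open CategoryTheory CategoryTheory.Limits AlgebraicGeometry TopologicalSpace

namespace Groth.Agent.Lib.Helper67.SliceContainScheme

open IsLocalRing

theorem main {X Y Z : Scheme.{u}} (f : X ⟶ Y) [Smooth f] (i : Z ⟶ X) [IsClosedImmersion i]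
    [IsClosedImmersion (i ≫ f)] (z : Z) :
    ∃ (U : X.Opens) (_ : i.base z ∈ U) (W : Scheme.{u}) (j : W ⟶ (U : Scheme.{u}))
      (_ : IsClosedImmersion j) (_ : Etale (j ≫ U.ι ≫ f))
      (g : ((i ⁻¹ᵁ U : Z.Opens) : Scheme.{u}) ⟶ W), g ≫ j = i ∣_ U := by
  obtain ⟨x, hx⟩ : ∃ x : X, x = i z := ⟨_, rfl⟩
  obtain ⟨_, ⟨U₀, hU₀, rfl⟩, hxU₀, -⟩ :=
    Y.isBasis_affineOpens.exists_subset_of_mem_open (Set.mem_univ (f x)) isOpen_univ
  obtain ⟨_, ⟨V, hV, rfl⟩, hxV, hVU⟩ :=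
    X.isBasis_affineOpens.exists_subset_of_mem_open hxU₀ (U₀.2.preimage f.continuous)
  obtain ⟨U₀, rfl⟩ : ∃ U₀' : Y.Opens, U₀' = U₀ := ⟨U₀, rfl⟩
  obtain ⟨V, rfl⟩ : ∃ V' : X.Opens, V' = V := ⟨V, rfl⟩
  have hVU' : V ≤ f ⁻¹ᵁ U₀ := hVU
  have hsm : RingHom.Smooth (f.appLE U₀ V hVU').hom :=
    HasRingHomProperty.appLE (P := @Smooth) f inferInstance ⟨U₀, hU₀⟩ ⟨V, hV⟩ hVU'
  letI : Algebra Γ(Y, U₀) Γ(X, V) := (f.appLE U₀ V hVU').hom.toAlgebra
  haveI : Algebra.Smooth Γ(Y, U₀) Γ(X, V) := RingHom.smooth_algebraMap.1 hsm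
  let q := (hV.primeIdealOf ⟨x, hxV⟩).asIdeal
  letI := X.presheaf.algebra_section_stalk ⟨x, hxV⟩
  haveI := hV.isLocalization_stalk ⟨x, hxV⟩
  letI : Algebra Γ(Y, U₀) (X.presheaf.stalk x) :=
    ((algebraMap Γ(X, V) (X.presheaf.stalk x)).comp (algebraMap Γ(Y, U₀) Γ(X, V))).toAlgebra
  haveI : IsScalarTower Γ(Y, U₀) Γ(X, V) (X.presheaf.stalk x) := IsScalarTower.of_algebraMap_eq' rfl
  -- the ideal of Z
  have hiV : IsAffineOpen (i ⁻¹ᵁ V) := hV.preimage i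
  have hsurjV : Function.Surjective (i.app V) :=
    (isClosedImmersion_iff_isAffineHom.mp inferInstance).2 V hV
  letI : Algebra Γ(Y, U₀) Γ(Z, i ⁻¹ᵁ V) :=
    ((i.app V).hom.comp (algebraMap Γ(Y, U₀) Γ(X, V))).toAlgebra
  let φ : Γ(X, V) →ₐ[Γ(Y, U₀)] Γ(Z, i ⁻¹ᵁ V) := { (i.app V).hom with commutes' := fun r => rfl }
  let K₀ : Ideal Γ(X, V) := RingHom.ker φ
  have hunr : Algebra.FormallyUnramified Γ(Y, U₀) Γ(Z, i ⁻¹ᵁ V) := by
    have hle : i ⁻¹ᵁ V ≤ (i ≫ f) ⁻¹ᵁ U₀ := by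
      intro w hw; exact hVU' hw
    haveI : FormallyUnramified (i ≫ f) := inferInstance
    have h1 : RingHom.FormallyUnramified ((i ≫ f).appLE U₀ (i ⁻¹ᵁ V) hle).hom :=
      HasRingHomProperty.appLE (P := @FormallyUnramified) (i ≫ f) inferInstance ⟨U₀, hU₀⟩
        ⟨i ⁻¹ᵁ V, hiV⟩ hle
    have h2 : ((i ≫ f).appLE U₀ (i ⁻¹ᵁ V) hle).hom = algebraMap Γ(Y, U₀) Γ(Z, i ⁻¹ᵁ V) := by
      rw [← Scheme.Hom.appLE_comp_appLE i f U₀ V (i ⁻¹ᵁ V) hVU' le_rfl, ← Scheme.Hom.app_eq_appLE]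
      rfl
    rw [h2] at h1
    exact RingHom.formallyUnramified_algebraMap.mp h1
  haveI : Algebra.FormallyUnramified Γ(Y, U₀) (Γ(X, V) ⧸ K₀) :=
    Algebra.FormallyUnramified.of_equiv
      (Ideal.quotientKerAlgEquivOfSurjective (f := φ) hsurjV).symm
  have hK₀q : K₀ ≤ q := by
    intro s hs
    have hs0 : (i.app V).hom s = 0 := hs
    rw [← IsLocalization.AtPrime.to_map_mem_maximal_iff (X.presheaf.stalk x) q s]
    rw [mem_maximalIdeal, mem_nonunits_iff]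
    intro hu
    have hxs : x ∈ X.basicOpen s := (X.mem_basicOpen s x hxV).mpr hu
    have hz : z ∈ i ⁻¹ᵁ X.basicOpen s := by rw [hx] at hxs; exact hxs
    rw [Scheme.preimage_basicOpen] at hz
    have h0 : (i.app V) s = 0 := hs0
    rw [h0, Scheme.basicOpen_zero] at hz
    exact hz
  obtain ⟨J₀, t, hJK, htq, hJfg, hét⟩ :=
    SliceContain.exists_slice_chart' (B₀ := Γ(Y, U₀)) (C₀ := Γ(X, V)) (C := X.presheaf.stalk x)
      q K₀ hK₀q
  -- the open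
  obtain ⟨UX, hUXdef⟩ : ∃ UX : X.Opens, UX = X.basicOpen t := ⟨_, rfl⟩
  have hUX : IsAffineOpen UX := hUXdef ▸ hV.basicOpen t
  have hxUX : x ∈ UX := by
    rw [hUXdef, X.mem_basicOpen t x hxV]
    by_contra hnu
    exact htq ((IsLocalization.AtPrime.to_map_mem_maximal_iff (X.presheaf.stalk x) q t).mp hnu)
  have hUXV : UX ≤ V := hUXdef ▸ X.basicOpen_le t
  have hUXU₀ : UX ≤ f ⁻¹ᵁ U₀ := hUXV.trans hVU'
  letI : Algebra Γ(X, V) Γ(X, UX) := (X.presheaf.map (homOfLE hUXV).op).hom.toAlgebra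
  haveI : IsLocalization.Away t Γ(X, UX) := by
    subst hUXdef
    exact hV.isLocalization_basicOpen t
  letI : Algebra Γ(Y, U₀) Γ(X, UX) := (f.appLE U₀ UX hUXU₀).hom.toAlgebra
  haveI : IsScalarTower Γ(Y, U₀) Γ(X, V) Γ(X, UX) := IsScalarTower.of_algebraMap_eq' (by
    rw [RingHom.algebraMap_toAlgebra, RingHom.algebraMap_toAlgebra, RingHom.algebraMap_toAlgebra,
      ← Scheme.Hom.appLE_map f hVU' (homOfLE hUXV).op]
    rfl)
  have hét' := SliceContain.etale_quotient_of_away (B₀ := Γ(Y, U₀)) (C₁ := Γ(X, UX)) J₀ t hét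
  obtain ⟨J', hJ'⟩ : ∃ J' : Ideal Γ(X, UX), J' = J₀.map (algebraMap Γ(X, V) Γ(X, UX)) := ⟨_, rfl⟩
  rw [← hJ'] at hét'
  -- W and j
  haveI : IsClosedImmersion (Spec.map (CommRingCat.ofHom (Ideal.Quotient.mk J'))) :=
    IsClosedImmersion.spec_of_surjective _ Ideal.Quotient.mk_surjective
  have hjét : Etale ((Spec.map (CommRingCat.ofHom (Ideal.Quotient.mk J')) ≫ hUX.isoSpec.inv) ≫
      UX.ι ≫ f) := by
    have h1 : (Spec.map (CommRingCat.ofHom (Ideal.Quotient.mk J')) ≫ hUX.isoSpec.inv) ≫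
        UX.ι ≫ f = Spec.map (CommRingCat.ofHom (algebraMap Γ(Y, U₀) (Γ(X, UX) ⧸ J'))) ≫
          hU₀.fromSpec := by
      rw [Category.assoc, ← Category.assoc hUX.isoSpec.inv, IsAffineOpen.isoSpec_inv_ι,
        ← IsAffineOpen.SpecMap_appLE_fromSpec f hU₀ hUX hUXU₀, ← Category.assoc, ← Spec.map_comp]
      rfl
    rw [h1]
    haveI : Etale (Spec.map (CommRingCat.ofHom (algebraMap Γ(Y, U₀) (Γ(X, UX) ⧸ J')))) := by
      rw [HasRingHomProperty.Spec_iff (P := @Etale)]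
      exact RingHom.etale_algebraMap.2 hét'
    infer_instance
  -- g
  have hiUX : IsAffineOpen (i ⁻¹ᵁ UX) := hUX.preimage i
  have hJ'ker : ∀ a ∈ J', (i.app UX).hom a = 0 := by
    have hle : J' ≤ RingHom.ker (i.app UX).hom := by
      rw [hJ', Ideal.map_le_iff_le_comap]
      intro b hb
      rw [Ideal.mem_comap, RingHom.mem_ker]
      have hb0 : (i.app V).hom b = 0 := hJK hb
      have nat := i.naturality (homOfLE hUXV).op
      have h3 := congrArg (fun g => g.hom b) nat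
      simp only [CommRingCat.hom_comp, RingHom.comp_apply] at h3
      rw [RingHom.algebraMap_toAlgebra, h3, hb0, map_zero]
    exact fun a ha => hle ha
  let γ : (Γ(X, UX) ⧸ J') →+* Γ(Z, i ⁻¹ᵁ UX) := Ideal.Quotient.lift J' (i.app UX).hom hJ'ker
  refine ⟨UX, hx ▸ hxUX, Spec (CommRingCat.of (Γ(X, UX) ⧸ J')),
    Spec.map (CommRingCat.ofHom (Ideal.Quotient.mk J')) ≫ hUX.isoSpec.inv, inferInstance, hjét,
    hiUX.isoSpec.hom ≫ Spec.map (CommRingCat.ofHom γ), ?_⟩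
  rw [← cancel_mono UX.ι, morphismRestrict_ι]
  rw [Category.assoc, Category.assoc, Category.assoc, IsAffineOpen.isoSpec_inv_ι,
    ← Category.assoc (Spec.map _), ← Spec.map_comp]
  have h4 : CommRingCat.ofHom (Ideal.Quotient.mk J') ≫ CommRingCat.ofHom γ =
      i.appLE UX (i ⁻¹ᵁ UX) le_rfl := by
    rw [← Scheme.Hom.app_eq_appLE]; ext a; rfl
  rw [h4, IsAffineOpen.SpecMap_appLE_fromSpec i hUX hiUX le_rfl, ← Category.assoc,
    ← IsAffineOpen.isoSpec_inv_ι, Iso.hom_inv_id_assoc]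

end Groth.Agent.Lib.Helper67.SliceContainScheme
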