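import Mathlib
import Groth.Agent.Lib.Helper35.NoetherFibre
import Groth.Agent.Lib.Helper73.DimField

set_option autoImplicit false
set_option linter.style.haveILetI false
universe u
open TensorProduct MvPolynomial

namespace Groth.Agent.Lib.Helper67.StrongNNFibre


/-- residue fields along an integral algebra map have the same transcendence degree. -/
theorem trdeg_residueField_comap_of_isIntegral {k P A : Type u} [Field k] [CommRing P] [CommRing A]
    [Algebra k P] [Algebra k A] (ψ : P →ₐ[k] A) (hψ : ψ.toRingHom.IsIntegral)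
    (QA : Ideal A) [QA.IsPrime] (Q₀ : Ideal P) [Q₀.IsPrime] (hQ₀ : Q₀ = QA.comap ψ.toRingHom) :
    Algebra.trdeg k Q₀.ResidueField = Algebra.trdeg k QA.ResidueField := by
  letI : Algebra P A := ψ.toRingHom.toAlgebra
  haveI : IsScalarTower k P A := IsScalarTower.of_algebraMap_eq (fun r => (ψ.commutes r).symm)
  haveI : Algebra.IsIntegral P A := ⟨hψ⟩
  haveI : QA.LiesOver Q₀ := ⟨hQ₀⟩
  letI := Localization.AtPrime.algebraOfLiesOver Q₀ QA
  exact (Groth.Agent.Lib.Helper73.DimFormula.trdeg_eq_of_isAlgebraic_top (k := k)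
    (A := Q₀.ResidueField) (B := QA.ResidueField)).symm



/-- the residue field of a prime of the fibre ring `κ(p) ⊗ B` (with `S → B` surjective on stalks)
is the residue field of the prime of `S` below it. -/
theorem trdeg_residueField_fibre {R S B : Type u} [CommRing R] [CommRing S] [CommRing B]
    [Algebra R S] [Algebra S B] [Algebra R B] [IsScalarTower R S B]
    (hSB : (algebraMap S B).SurjectiveOnStalks)
    (p : Ideal R) [p.IsPrime] (q : Ideal S) [q.IsPrime] [q.LiesOver p]
    [Algebra (Localization.AtPrime p) (Localization.AtPrime q)]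
    [Localization.AtPrime.IsLiesOverAlgebra p q]
    (QA : Ideal (p.ResidueField ⊗[R] B)) [QA.IsPrime]
    (hQA : q = QA.comap ((Algebra.TensorProduct.includeRight (R := R) (A := p.ResidueField)
      (B := B)).toRingHom.comp (algebraMap S B))) :
    Algebra.trdeg p.ResidueField QA.ResidueField = Algebra.trdeg p.ResidueField q.ResidueField := by
  set j : S →+* p.ResidueField ⊗[R] B :=
    (Algebra.TensorProduct.includeRight (R := R) (A := p.ResidueField)
      (B := B)).toRingHom.comp (algebraMap S B) with hj
  have hjs : j.SurjectiveOnStalks :=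
    (p.surjectiveOnStalks_residueField.baseChange' (T := B)).comp hSB
  have hbij := hjs.residueFieldMap_bijective q QA hQA
  have hcomm : (Ideal.ResidueField.map q QA j hQA).comp
      (algebraMap p.ResidueField q.ResidueField) =
      algebraMap p.ResidueField QA.ResidueField := by
    apply Ideal.ResidueField.ringHom_ext
    refine RingHom.ext fun x => ?_
    simp only [RingHom.comp_apply]
    rw [← IsScalarTower.algebraMap_apply R p.ResidueField q.ResidueField,
      ← IsScalarTower.algebraMap_apply R p.ResidueField QA.ResidueField,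
      IsScalarTower.algebraMap_apply R S q.ResidueField, Ideal.ResidueField.map_algebraMap,
      IsScalarTower.algebraMap_apply R (p.ResidueField ⊗[R] B) QA.ResidueField]
    congr 1
    simp [hj, ← IsScalarTower.algebraMap_apply]
  let e : q.ResidueField ≃ₐ[p.ResidueField] QA.ResidueField :=
    AlgEquiv.ofBijective ⟨Ideal.ResidueField.map q QA j hQA, fun c => congr($hcomm c)⟩ hbij
  exact e.trdeg_eq.symm



/-- the ideal generated by a set of variables is stable under rescaling of the variables. -/
theorem comap_rescale_span {κ : Type*} [Field κ] {n : ℕ} (r : ℕ) (c : Fin n → κ)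
    (hc : ∀ i, c i ≠ 0) :
    (Ideal.span (Set.range fun i : {i : Fin n // r ≤ (i : ℕ)} =>
      (X (i : Fin n) : MvPolynomial (Fin n) κ))).comap
      (aeval (fun i => C (c i) * X i) : MvPolynomial (Fin n) κ →ₐ[κ] MvPolynomial (Fin n) κ) =
    Ideal.span (Set.range fun i : {i : Fin n // r ≤ (i : ℕ)} =>
      (X (i : Fin n) : MvPolynomial (Fin n) κ)) := by
  have key : ∀ d : Fin n → κ, Ideal.span (Set.range fun i : {i : Fin n // r ≤ (i : ℕ)} =>
      (X (i : Fin n) : MvPolynomial (Fin n) κ)) ≤
      (Ideal.span (Set.range fun i : {i : Fin n // r ≤ (i : ℕ)} =>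
      (X (i : Fin n) : MvPolynomial (Fin n) κ))).comap
      (aeval (fun i => C (d i) * X i) : MvPolynomial (Fin n) κ →ₐ[κ] MvPolynomial (Fin n) κ) := by
    intro d
    rw [Ideal.span_le]
    rintro _ ⟨i, rfl⟩
    rw [SetLike.mem_coe, Ideal.mem_comap]
    simp only [aeval_X]
    exact Ideal.mul_mem_left _ _ (Ideal.subset_span ⟨i, rfl⟩)
  apply le_antisymm
  · intro x hx
    rw [Ideal.mem_comap] at hx
    have h1 := key (fun i => (c i)⁻¹) hx
    rw [Ideal.mem_comap] at h1
    have h2 : (aeval (fun i => C (c i)⁻¹ * X i) : MvPolynomial (Fin n) κ →ₐ[κ] _)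
        ((aeval (fun i => C (c i) * X i) : MvPolynomial (Fin n) κ →ₐ[κ] _) x) = x := by
      rw [← AlgHom.comp_apply]
      have : (aeval (fun i => C (c i)⁻¹ * X i) : MvPolynomial (Fin n) κ →ₐ[κ]
          MvPolynomial (Fin n) κ).comp (aeval (fun i => C (c i) * X i)) = AlgHom.id κ _ := by
        apply MvPolynomial.algHom_ext
        intro i
        simp only [AlgHom.comp_apply, aeval_X, map_mul, AlgHom.id_apply, aeval_C,
          MvPolynomial.algebraMap_eq]
        rw [← mul_assoc, ← C_mul, mul_inv_cancel₀ (hc i), C_1, one_mul]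
      rw [this]
      rfl
    rwa [h2] at h1
  · exact key c

/-- lifting a map from a polynomial ring into a fibre ring, up to rescaling the variables. -/
theorem exists_lift_rescale {A κ B : Type u} [CommRing A] [Field κ] [CommRing B] [Algebra A κ]
    [Algebra A B]
    (hfrac : ∀ c : κ, ∃ a s : A, algebraMap A κ s ≠ 0 ∧ c * algebraMap A κ s = algebraMap A κ a)
    {n : ℕ} (ψ : MvPolynomial (Fin n) κ →ₐ[κ] κ ⊗[A] B) :
    ∃ (c : Fin n → κ) (b : Fin n → B), (∀ i, c i ≠ 0) ∧
      (aeval (fun i => (1 : κ) ⊗ₜ[A] b i) : MvPolynomial (Fin n) κ →ₐ[κ] κ ⊗[A] B) =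
        ψ.comp (aeval (fun i => C (c i) * X i)) := by
  choose σ b hσ hb using fun i : Fin n =>
    Groth.Agent.Lib.Helper35.NoetherFibre.exists_smul_eq_one_tmul hfrac (ψ (X i))
  refine ⟨fun i => algebraMap A κ (σ i), b, hσ, ?_⟩
  apply MvPolynomial.algHom_ext
  intro i
  simp only [AlgHom.comp_apply, aeval_X, map_mul]
  rw [← hb, ← MvPolynomial.algebraMap_eq, AlgHom.commutes, Algebra.smul_def]



/-- the endomorphism of the polynomial ring killing the variables of index `≥ r`. -/
noncomputable def ev (R : Type*) [CommRing R] (n r : ℕ) :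
    MvPolynomial (Fin n) R →ₐ[R] MvPolynomial (Fin n) R :=
  aeval (fun i : Fin n => if r ≤ (i : ℕ) then 0 else X i)

theorem sub_ev_mem {R : Type*} [CommRing R] (n r : ℕ) (t : MvPolynomial (Fin n) R) :
    t - ev R n r t ∈ Ideal.span (Set.range fun i : {i : Fin n // r ≤ (i : ℕ)} =>
      (X (i : Fin n) : MvPolynomial (Fin n) R)) := by
  induction t using MvPolynomial.induction_on with
  | C a => simp [ev]
  | add p q hp hq =>
    have : p + q - ev R n r (p + q) = (p - ev R n r p) + (q - ev R n r q) := by
      simp only [map_add]; ring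
    rw [this]; exact Ideal.add_mem _ hp hq
  | mul_X p i hp =>
    have : p * X i - ev R n r (p * X i) =
        (p - ev R n r p) * X i + ev R n r p * (X i - ev R n r (X i)) := by
      simp only [map_mul]; ring
    rw [this]
    refine Ideal.add_mem _ (Ideal.mul_mem_right _ _ hp) (Ideal.mul_mem_left _ _ ?_)
    by_cases h : r ≤ (i : ℕ)
    · have : ev R n r (X i) = 0 := by simp [ev, h]
      rw [this, sub_zero]
      exact Ideal.subset_span ⟨⟨i, h⟩, rfl⟩
    · have : ev R n r (X i) = X i := by simp [ev, h]
      rw [this, sub_self]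
      exact Ideal.zero_mem _

theorem ev_eq_zero_of_mem {R : Type*} [CommRing R] (n r : ℕ) (t : MvPolynomial (Fin n) R)
    (ht : t ∈ Ideal.span (Set.range fun i : {i : Fin n // r ≤ (i : ℕ)} =>
      (X (i : Fin n) : MvPolynomial (Fin n) R))) : ev R n r t = 0 := by
  have : Ideal.span (Set.range fun i : {i : Fin n // r ≤ (i : ℕ)} =>
      (X (i : Fin n) : MvPolynomial (Fin n) R)) ≤ RingHom.ker (ev R n r) := by
    rw [Ideal.span_le]
    rintro _ ⟨i, rfl⟩
    simp [ev, RingHom.mem_ker, i.2]
  exact this ht

theorem map_ev {R K : Type*} [CommRing R] [CommRing K] (f : R →+* K) (n r : ℕ)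
    (t : MvPolynomial (Fin n) R) :
    MvPolynomial.map f (ev R n r t) = ev K n r (MvPolynomial.map f t) := by
  have : (MvPolynomial.map f).comp (ev R n r).toRingHom =
      (ev K n r).toRingHom.comp (MvPolynomial.map f) := by
    apply MvPolynomial.ringHom_ext
    · intro a
      simp [ev]
    · intro i
      by_cases h : r ≤ (i : ℕ) <;> simp [ev, h]
  exact congr($this t)

/-- the inverse image in `R[x]` of the ideal `(x_r, …, x_{n-1})` of `κ(p)[x]`. -/
theorem comap_map_span {R : Type*} [CommRing R] (p : Ideal R) [p.IsPrime] (n r : ℕ) :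
    (Ideal.span (Set.range fun i : {i : Fin n // r ≤ (i : ℕ)} =>
      (X (i : Fin n) : MvPolynomial (Fin n) p.ResidueField))).comap
      (MvPolynomial.map (algebraMap R p.ResidueField)) =
    p.map (algebraMap R (MvPolynomial (Fin n) R)) ⊔
      Ideal.span (Set.range fun i : {i : Fin n // r ≤ (i : ℕ)} =>
        (X (i : Fin n) : MvPolynomial (Fin n) R)) := by
  apply le_antisymm
  · intro t ht
    rw [Ideal.mem_comap] at ht
    have h1 := ev_eq_zero_of_mem n r _ ht
    rw [← map_ev] at h1
    have h2 : ev R n r t ∈ p.map (algebraMap R (MvPolynomial (Fin n) R)) := by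
      rw [MvPolynomial.algebraMap_eq, MvPolynomial.mem_map_C_iff]
      intro m
      have := congrArg (MvPolynomial.coeff m) h1
      rw [MvPolynomial.coeff_map, MvPolynomial.coeff_zero,
        Ideal.algebraMap_residueField_eq_zero] at this
      exact this
    have h3 : t = ev R n r t + (t - ev R n r t) := by ring
    rw [h3]
    exact Ideal.add_mem _ (Ideal.mem_sup_left h2) (Ideal.mem_sup_right (sub_ev_mem n r t))
  · rw [sup_le_iff]
    constructor
    · rw [Ideal.map_le_iff_le_comap]
      intro a ha
      rw [Ideal.mem_comap, Ideal.mem_comap, MvPolynomial.algebraMap_eq, MvPolynomial.map_C,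
        (Ideal.algebraMap_residueField_eq_zero).mpr ha, C_0]
      exact Ideal.zero_mem _
    · rw [Ideal.span_le]
      rintro _ ⟨i, rfl⟩
      rw [SetLike.mem_coe, Ideal.mem_comap, MvPolynomial.map_X]
      exact Ideal.subset_span ⟨i, rfl⟩


/-- the two `κ(p)`-algebra structures on the residue field of a prime of the fibre ring agree. -/
theorem algebra_eq {R S' : Type u} [CommRing R] [CommRing S'] [Algebra R S']
    (p : Ideal R) [p.IsPrime] (QA : Ideal (p.ResidueField ⊗[R] S')) [QA.IsPrime] :
    (IsLocalRing.ResidueField.instAlgebra : Algebra p.ResidueField QA.ResidueField) =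
    (IsLocalRing.ResidueField.algebra (Localization.AtPrime QA) :
      Algebra p.ResidueField QA.ResidueField) := by
  apply Algebra.algebra_ext
  intro c
  have : (@algebraMap p.ResidueField QA.ResidueField _ _ IsLocalRing.ResidueField.instAlgebra) =
      (@algebraMap p.ResidueField QA.ResidueField _ _
        (IsLocalRing.ResidueField.algebra (Localization.AtPrime QA))) := by
    apply Ideal.ResidueField.ringHom_ext
    refine RingHom.ext fun x => ?_
    simp only [RingHom.comp_apply]
    have h1 := @IsScalarTower.algebraMap_apply R p.ResidueField QA.ResidueField _ _ _ _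
      IsLocalRing.ResidueField.instAlgebra _ _ x
    have h2 := @IsScalarTower.algebraMap_apply R p.ResidueField QA.ResidueField _ _ _ _
      (IsLocalRing.ResidueField.algebra (Localization.AtPrime QA)) _ _ x
    exact h1.symm.trans h2
  exact congr($this c)

end Groth.Agent.Lib.Helper67.StrongNNFibre
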