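/-
Valuative criteria with a dense "test" family (helper67).

Main results:
* `exists_valuationSubring_of_specializes`
* `compSubring` : composite of a valuation subring with a valuation subring of its residue field
* `exists_curve` : a valuation ring through a `K`-point whose generic point factors through a
  dominant quasi-compact morphism
-/
import Mathlib
import Groth.Agent.S2121
import Groth.Agent.S17897

set_option autoImplicit false
universe u
open CategoryTheory CategoryTheory.Limits AlgebraicGeometry IsLocalRing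

namespace Groth.Agent.Lib.Helper67.ValExt

/-! ### Part A: valuation subrings from specializations -/

set_option backward.isDefEq.respectTransparency.types false in
theorem exists_valuationSubring_of_specializes {X Y : Scheme.{u}} (f : X ⟶ Y) (x : X) (z : Y)
    (hspec : f x ⤳ z) :
    ∃ (A : ValuationSubring (X.residueField x)) (y : Spec (CommRingCat.of A) ⟶ Y),
      X.fromSpecResidueField x ≫ f = Spec.map (CommRingCat.ofHom A.subtype) ≫ y ∧
      y (closedPoint A) = z := by
  let φ₀ : Y.presheaf.stalk z ⟶ X.residueField x :=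
    Y.presheaf.stalkSpecializes hspec ≫ f.stalkMap x ≫ X.residue x
  obtain ⟨A, hA, hA_local⟩ := exists_factor_valuationRing φ₀.hom
  let stalk_to_A : Y.presheaf.stalk z ⟶ .of A :=
    CommRingCat.ofHom (φ₀.hom.codRestrict _ hA)
  have w : X.fromSpecResidueField x ≫ f =
      Spec.map (CommRingCat.ofHom (algebraMap A (X.residueField x))) ≫
        Spec.map stalk_to_A ≫ Y.fromSpecStalk z := by
    rw [Scheme.fromSpecResidueField, Category.assoc, ← Scheme.SpecMap_stalkMap_fromSpecStalk,
      ← Scheme.SpecMap_stalkSpecializes_fromSpecStalk hspec]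
    simp_rw [← Spec.map_comp_assoc]
    rfl
  refine ⟨A, Spec.map stalk_to_A ≫ Y.fromSpecStalk z, w, ?_⟩
  simp only [Scheme.Hom.comp_base, TopCat.coe_comp, Function.comp_apply]
  have : Spec.map stalk_to_A (closedPoint A) = closedPoint (Y.presheaf.stalk z) :=
    comap_closedPoint (S := A) (φ₀.hom.codRestrict A.toSubring hA)
  rw [this, Y.fromSpecStalk_closedPoint]

/-! ### Part B: composite valuation subrings -/

section Composite

variable {L : Type u} [Field L] (V : ValuationSubring L)
  (A : ValuationSubring (ResidueField V))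

/-- The composite valuation subring: elements of `V` whose residue lies in `A`. -/
def compSubring : ValuationSubring L where
  __ := (A.toSubring.comap (residue V)).map V.subtype
  mem_or_inv_mem' := by
    intro x
    by_cases hx : x ∈ V
    · by_cases hr : residue V ⟨x, hx⟩ ∈ A
      · left
        exact ⟨⟨x, hx⟩, hr, rfl⟩
      · right
        have hinv : (residue V ⟨x, hx⟩)⁻¹ ∈ A := (A.mem_or_inv_mem _).resolve_left hr
        have hne : residue V ⟨x, hx⟩ ≠ 0 := by
          intro h0
          exact hr (h0 ▸ A.zero_mem)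
        have hu : IsUnit (⟨x, hx⟩ : V) := by
          by_contra hnu
          exact hne ((residue_eq_zero_iff _).mpr ((mem_maximalIdeal _).mpr hnu))
        obtain ⟨u, hu'⟩ := hu
        refine ⟨((u⁻¹ : Vˣ) : V), ?_, ?_⟩
        · change residue V ((u⁻¹ : Vˣ) : V) ∈ A
          have : residue V ((u⁻¹ : Vˣ) : V) = (residue V ⟨x, hx⟩)⁻¹ := by
            rw [← hu']
            refine eq_inv_of_mul_eq_one_left ?_
            rw [← map_mul, Units.inv_mul, map_one]
          rw [this]
          exact hinv
        · have h1 : ((u : V) : L) = x := congr(($hu' : L))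
          have h2 : (((u⁻¹ : Vˣ) : V) : L) * ((u : V) : L) = 1 := by
            exact_mod_cast congr((($(Units.inv_mul u) : V) : L))
          change (((u⁻¹ : Vˣ) : V) : L) = x⁻¹
          rw [← h1]
          exact eq_inv_of_mul_eq_one_left h2
    · right
      have hx' : x⁻¹ ∈ V := (V.mem_or_inv_mem x).resolve_left hx
      refine ⟨⟨x⁻¹, hx'⟩, ?_, rfl⟩
      change residue V ⟨x⁻¹, hx'⟩ ∈ A
      have hnu : ¬ IsUnit (⟨x⁻¹, hx'⟩ : V) := by
        rintro ⟨u, hu'⟩
        apply hx
        have h1 : ((u : V) : L) = x⁻¹ := congr(($hu' : L))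
        have h2 : (((u⁻¹ : Vˣ) : V) : L) * ((u : V) : L) = 1 := by
          exact_mod_cast congr((($(Units.inv_mul u) : V) : L))
        have : (((u⁻¹ : Vˣ) : V) : L) = x := by
          rw [h1] at h2
          have := eq_inv_of_mul_eq_one_left h2
          rwa [inv_inv] at this
        rw [← this]
        exact ((u⁻¹ : Vˣ) : V).2
      rw [(residue_eq_zero_iff _).mpr ((mem_maximalIdeal _).mpr hnu)]
      exact A.zero_mem

lemma mem_compSubring_iff {x : L} :
    x ∈ compSubring V A ↔ ∃ v : V, residue V v ∈ A ∧ (v : L) = x := Iff.rfl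

lemma compSubring_le : compSubring V A ≤ V := by
  rintro x ⟨v, -, rfl⟩
  exact v.2

/-- The inclusion of the composite into `V`. -/
def compIncl : compSubring V A →+* V :=
  (compSubring V A).inclusion V (compSubring_le V A)

lemma coe_compIncl (t : compSubring V A) : ((compIncl V A t : V) : L) = (t : L) := rfl

lemma residue_compIncl_mem (t : compSubring V A) : residue V (compIncl V A t) ∈ A := by
  obtain ⟨v, hv, hvt⟩ := t.2
  have : compIncl V A t = v := Subtype.ext hvt.symm
  rw [this]
  exact hv

/-- The residue map from the composite onto `A`. -/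
noncomputable def compRes : compSubring V A →+* A :=
  ((residue V).comp (compIncl V A)).codRestrict A (residue_compIncl_mem V A)

lemma coe_compRes (t : compSubring V A) :
    ((compRes V A t : A) : ResidueField V) = residue V (compIncl V A t) := rfl

end Composite

/-! ### Part C: curves through a point and lifting after extension -/

/-- Through any `K`-point of `X` there is a valuation ring `V` (of some field `L`) mapping to `X`
whose generic point factors through a given dominant quasi-compact `h : U ⟶ X` and whose closed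
point is a field extension of the given `K`-point. -/
theorem exists_curve {U X : Scheme.{u}} (h : U ⟶ X) [QuasiCompact h] (hd : DenseRange h.base)
    (K : Type u) [Field K] (i₁ : Spec (.of K) ⟶ X) :
    ∃ (L : Type u) (_ : Field L) (V : ValuationSubring L) (ψ : Spec (.of V) ⟶ X)
      (uL : Spec (.of L) ⟶ U) (ι : K →+* ResidueField V),
      Spec.map (CommRingCat.ofHom V.subtype) ≫ ψ = uL ≫ h ∧
      Spec.map (CommRingCat.ofHom (residue V)) ≫ ψ = Spec.map (CommRingCat.ofHom ι) ≫ i₁ := by
  set x := i₁ (closedPoint K) with hx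
  obtain ⟨_, ⟨W, hW, rfl⟩, hxW, -⟩ :=
    X.isBasis_affineOpens.exists_subset_of_mem_open (Set.mem_univ x) isOpen_univ
  -- factor `i₁` through the affine open `W`
  have hrange : Set.range i₁ ⊆ Set.range hW.fromSpec := by
    rintro _ ⟨r, rfl⟩
    rw [hW.range_fromSpec]
    have : r = closedPoint K := Subsingleton.elim _ _
    rw [this]
    exact hxW
  let i₁' : Spec (.of K) ⟶ Spec Γ(X, W) := IsOpenImmersion.lift hW.fromSpec i₁ hrange
  have hi₁' : i₁' ≫ hW.fromSpec = i₁ := IsOpenImmersion.lift_fac _ _ _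
  obtain ⟨β, hβ⟩ : ∃ β : Γ(X, W) ⟶ .of K, Spec.map β = i₁' :=
    ⟨Spec.preimage i₁', Spec.map_preimage i₁'⟩
  -- the polynomial ring
  let B : Type u := Γ(X, W)
  let P : Type u := MvPolynomial K B
  let π : P →+* K := MvPolynomial.eval₂Hom β.hom id
  have hπsurj : Function.Surjective π := fun k => ⟨MvPolynomial.X k, MvPolynomial.eval₂Hom_X' _ _ _⟩
  let cB : B →+* P := MvPolynomial.C
  have hπc : π.comp cB = β.hom := by
    ext b
    exact MvPolynomial.eval₂Hom_C _ _ _
  obtain ⟨g, hg⟩ : ∃ g : Spec (.of P) ⟶ X, g = Spec.map (CommRingCat.ofHom cB) ≫ hW.fromSpec :=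
    ⟨_, rfl⟩
  have hflat : Flat g := by
    have : Flat (Spec.map (CommRingCat.ofHom cB)) := by
      rw [HasRingHomProperty.Spec_iff (P := @Flat)]
      change (algebraMap B P).Flat
      rw [RingHom.flat_algebraMap_iff]
      infer_instance
    rw [hg]
    infer_instance
  have hπg : Spec.map (CommRingCat.ofHom π) ≫ g = i₁ := by
    have e : CommRingCat.ofHom cB ≫ CommRingCat.ofHom π = β := by
      refine CommRingCat.hom_ext ?_
      simp only [CommRingCat.hom_comp, CommRingCat.hom_ofHom]
      exact hπc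
    rw [hg, ← hi₁', ← hβ, ← Spec.map_comp_assoc, e]
  set p : Spec (.of P) := Spec.map (CommRingCat.ofHom π) (closedPoint K) with hp
  have hgp : g p = x := by
    rw [hp, ← Scheme.Hom.comp_apply, hπg]
  -- a point of `U` specializing to `x`
  obtain ⟨u, hu⟩ := Groth.Agent.S2121.exists_specializes_of_mem_closure_range h x
    (hd.closure_range ▸ Set.mem_univ x)
  obtain ⟨p', hp'p, hp'u⟩ := (Flat.generalizingMap g) (a := p) (b := h u) (hgp ▸ hu)
  obtain ⟨z, hz1, hz2⟩ := Scheme.Pullback.exists_preimage_pullback (f := h) (g := g) u p' hp'u.symm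
  obtain ⟨V, yV, hyV, hyVcl⟩ := exists_valuationSubring_of_specializes (pullback.snd h g) z p
    (hz2 ▸ hp'p)
  obtain ⟨θ, hθ⟩ : ∃ θ : CommRingCat.of P ⟶ .of V, Spec.map θ = yV :=
    ⟨Spec.preimage yV, Spec.map_preimage yV⟩
  -- the residue field embedding
  have hker : RingHom.ker π ≤ RingHom.ker ((residue V).comp θ.hom) := by
    intro q hq
    rw [RingHom.mem_ker] at hq ⊢
    rw [RingHom.comp_apply, residue_eq_zero_iff]
    have h1 : q ∈ p.asIdeal := by
      change q ∈ Ideal.comap π (closedPoint K).asIdeal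
      rw [Ideal.mem_comap, hq]
      exact Ideal.zero_mem _
    rw [← hyVcl, ← hθ] at h1
    exact h1
  let ι : K →+* ResidueField V := π.liftOfSurjective hπsurj ⟨(residue V).comp θ.hom, hker⟩
  have hι : ι.comp π = (residue V).comp θ.hom := RingHom.liftOfSurjective_comp _ hπsurj _
  refine ⟨(pullback h g).residueField z, inferInstance, V, yV ≫ g,
    (pullback h g).fromSpecResidueField z ≫ pullback.fst h g, ι, ?_, ?_⟩
  · rw [← Category.assoc, ← hyV, Category.assoc, Category.assoc, pullback.condition]
  · have e : θ ≫ CommRingCat.ofHom (residue V) = CommRingCat.ofHom π ≫ CommRingCat.ofHom ι := by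
      refine CommRingCat.hom_ext ?_
      simp only [CommRingCat.hom_comp, CommRingCat.hom_ofHom]
      exact hι.symm
    calc Spec.map (CommRingCat.ofHom (residue V)) ≫ yV ≫ g
        = Spec.map (θ ≫ CommRingCat.ofHom (residue V)) ≫ g := by
          rw [← hθ, Spec.map_comp, Category.assoc]
      _ = Spec.map (CommRingCat.ofHom π ≫ CommRingCat.ofHom ι) ≫ g := by rw [e]
      _ = Spec.map (CommRingCat.ofHom ι) ≫ Spec.map (CommRingCat.ofHom π) ≫ g := by
          rw [Spec.map_comp, Category.assoc]
      _ = Spec.map (CommRingCat.ofHom ι) ≫ i₁ := by rw [hπg]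

set_option backward.isDefEq.respectTransparency.types false in
/-- **Lifting after extension.** Let `h : U ⟶ X` be quasi-compact with dense image and suppose
every valuative square over `f` whose generic point factors through `h` has a unique lift. Then
every valuative square over `f` has a lift after passing to a suitable extension of valuation
rings. -/
theorem exists_lift_after_extension {U X S : Scheme.{u}} (f : X ⟶ S) (h : U ⟶ X) [QuasiCompact h]
    (hd : DenseRange h.base)
    (H : ∀ sq : ValuativeCommSq f, (∃ i : Spec (.of sq.K) ⟶ U, i ≫ h = sq.i₁) →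
      Nonempty (Unique sq.commSq.LiftStruct))
    (sq : ValuativeCommSq f) :
    ∃ (K₁ : Type u) (_ : Field K₁) (A₁ : ValuationSubring K₁) (ι : sq.K →+* K₁)
      (a : sq.R →+* A₁) (_ : IsLocalHom a) (l : Spec (.of A₁) ⟶ X),
      (∀ r, (a r : K₁) = ι (algebraMap sq.R sq.K r)) ∧
      Spec.map (CommRingCat.ofHom A₁.subtype) ≫ l = Spec.map (CommRingCat.ofHom ι) ≫ sq.i₁ ∧
      l ≫ f = Spec.map (CommRingCat.ofHom a) ≫ sq.i₂ := by
  obtain ⟨L, _, V, ψ, uL, ι, hψ1, hψ2⟩ := exists_curve h hd sq.K sq.i₁
  obtain ⟨A₁, hA, hAloc⟩ := exists_factor_valuationRing (ι.comp (algebraMap sq.R sq.K))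
  let a : sq.R →+* A₁ := (ι.comp (algebraMap sq.R sq.K)).codRestrict A₁.toSubring hA
  have ha : ∀ r, ((a r : A₁) : ResidueField V) = ι (algebraMap sq.R sq.K r) := fun r => rfl
  set s₀ := sq.i₂ (closedPoint sq.R) with hs₀
  set ε := Scheme.stalkClosedPointTo sq.i₂ with hε'
  have hε : Spec.map ε ≫ S.fromSpecStalk s₀ = sq.i₂ :=
    Scheme.Spec_stalkClosedPointTo_fromSpecStalk _
  have hw : sq.i₁ ≫ f = Spec.map (CommRingCat.ofHom (algebraMap sq.R sq.K)) ≫ sq.i₂ :=
    sq.commSq.w
  -- the closed point of `ψ ≫ f` specializes to `s₀`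
  have hspec : (ψ ≫ f) (closedPoint V) ⤳ s₀ := by
    have h1 : (Spec.map (CommRingCat.ofHom (residue V))) (closedPoint (ResidueField V)) =
        closedPoint V := comap_closedPoint (residue V)
    have h2 : (ψ ≫ f) (closedPoint V) =
        sq.i₂ ((Spec.map (CommRingCat.ofHom (algebraMap sq.R sq.K)))
          ((Spec.map (CommRingCat.ofHom ι)) (closedPoint (ResidueField V)))) := by
      rw [← h1, ← Scheme.Hom.comp_apply, ← Category.assoc, hψ2, Category.assoc, hw]
      rfl
    rw [h2]
    exact (specializes_closedPoint _).map sq.i₂.continuous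
  set δ : S.presheaf.stalk s₀ ⟶ .of V :=
    S.presheaf.stalkSpecializes hspec ≫ Scheme.stalkClosedPointTo (ψ ≫ f) with hδ'
  have hδ : Spec.map δ ≫ S.fromSpecStalk s₀ = ψ ≫ f := by
    rw [hδ', Spec.map_comp, Category.assoc, Scheme.SpecMap_stalkSpecializes_fromSpecStalk,
      Scheme.Spec_stalkClosedPointTo_fromSpecStalk]
  have hkey : δ ≫ CommRingCat.ofHom (residue V) =
      ε ≫ CommRingCat.ofHom (algebraMap sq.R sq.K) ≫ CommRingCat.ofHom ι := by
    apply Spec.map_injective
    rw [← cancel_mono (S.fromSpecStalk s₀)]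
    rw [Spec.map_comp, Category.assoc, hδ, ← Category.assoc, hψ2, Category.assoc, hw,
      Spec.map_comp, Spec.map_comp, Category.assoc, Category.assoc, hε]
  have hkey' : ∀ t, residue V (δ.hom t) = ι (algebraMap sq.R sq.K (ε.hom t)) := fun t =>
    congr($hkey t)
  have hmemδ : ∀ t, residue V (δ.hom t) ∈ A₁ := by
    intro t
    rw [hkey']
    exact hA (ε.hom t)
  let V' := compSubring V A₁
  let δ' : S.presheaf.stalk s₀ →+* V' :=
    (V.subtype.comp δ.hom).codRestrict V' (fun t => ⟨δ.hom t, hmemδ t, rfl⟩)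
  have hδ'1 : CommRingCat.ofHom δ' ≫ CommRingCat.ofHom (compIncl V A₁) = δ := by
    ext t
    rfl
  have hδ'2 : CommRingCat.ofHom δ' ≫ CommRingCat.ofHom (compRes V A₁) =
      ε ≫ CommRingCat.ofHom a := by
    ext t
    exact hkey' t
  set φ' : Spec (.of V') ⟶ S := Spec.map (CommRingCat.ofHom δ') ≫ S.fromSpecStalk s₀ with hφ'
  have hφ'a : Spec.map (CommRingCat.ofHom (compIncl V A₁)) ≫ φ' = ψ ≫ f := by
    rw [hφ', ← Spec.map_comp_assoc, hδ'1, hδ]
  have hφ'b : Spec.map (CommRingCat.ofHom (compRes V A₁)) ≫ φ' =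
      Spec.map (CommRingCat.ofHom a) ≫ sq.i₂ := by
    rw [hφ', ← Spec.map_comp_assoc, hδ'2, Spec.map_comp, Category.assoc, hε]
  have halg : Spec.map (CommRingCat.ofHom (algebraMap V' L)) =
      Spec.map (CommRingCat.ofHom V.subtype) ≫ Spec.map (CommRingCat.ofHom (compIncl V A₁)) := by
    rw [← Spec.map_comp]
    rfl
  -- the valuative square for `V'`
  let sq' : ValuativeCommSq f :=
    { R := V', K := L, i₁ := Spec.map (CommRingCat.ofHom V.subtype) ≫ ψ, i₂ := φ',
      commSq := ⟨by rw [halg]; simp only [Category.assoc]; rw [hφ'a]⟩ }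
  obtain ⟨u'⟩ := H sq' ⟨uL, hψ1.symm⟩
  let l' := u'.default
  have hl'1 : Spec.map (CommRingCat.ofHom (algebraMap V' L)) ≫ l'.l =
      Spec.map (CommRingCat.ofHom V.subtype) ≫ ψ := l'.fac_left
  have hl'2 : l'.l ≫ f = φ' := l'.fac_right
  -- comparison on `V`
  let sqV : ValuativeCommSq f :=
    { R := V, K := L, i₁ := Spec.map (CommRingCat.ofHom V.subtype) ≫ ψ, i₂ := ψ ≫ f,
      commSq := ⟨by rw [Category.assoc]; rfl⟩ }
  obtain ⟨uV⟩ := H sqV ⟨uL, hψ1.symm⟩
  let lift1 : sqV.commSq.LiftStruct := ⟨ψ, rfl, rfl⟩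
  let lift2 : sqV.commSq.LiftStruct :=
    ⟨Spec.map (CommRingCat.ofHom (compIncl V A₁)) ≫ l'.l, by
      change Spec.map (CommRingCat.ofHom V.subtype) ≫ _ = _
      rw [← Category.assoc, ← halg, hl'1], by
      rw [Category.assoc, hl'2, hφ'a]⟩
  have h12 : lift2 = lift1 := (uV.uniq lift2).trans (uV.uniq lift1).symm
  have hcomp : Spec.map (CommRingCat.ofHom (compIncl V A₁)) ≫ l'.l = ψ :=
    congrArg CommSq.LiftStruct.l h12
  refine ⟨ResidueField V, inferInstance, A₁, ι, a, hAloc,
    Spec.map (CommRingCat.ofHom (compRes V A₁)) ≫ l'.l, ha, ?_, ?_⟩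
  · have e : CommRingCat.ofHom (compRes V A₁) ≫ CommRingCat.ofHom A₁.subtype =
        CommRingCat.ofHom (compIncl V A₁) ≫ CommRingCat.ofHom (residue V) := rfl
    rw [← Spec.map_comp_assoc, e, Spec.map_comp, Category.assoc, hcomp, hψ2]
  · rw [Category.assoc, hl'2, hφ'b]

/-! ### Part D: universal closedness and separatedness from a dense test family -/

/-- **Universal closedness from a dense test family.** -/
theorem universallyClosed_of_dense {U X S : Scheme.{u}} (f : X ⟶ S) (h : U ⟶ X)
    [QuasiCompact f] [QuasiCompact h] (hd : DenseRange h.base)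
    (H : ∀ sq : ValuativeCommSq f, (∃ i : Spec (.of sq.K) ⟶ U, i ≫ h = sq.i₁) →
      Nonempty (Unique sq.commSq.LiftStruct)) :
    UniversallyClosed f := by
  rw [universallyClosed_eq_universallySpecializing]
  refine ⟨?_, ‹_›⟩
  intro X' S' i₁ i₂ f' hpb
  intro x' s' hs
  obtain ⟨A₀, y₀, hy₀, hy₀cl⟩ := exists_valuationSubring_of_specializes f' x' s' hs
  let sq : ValuativeCommSq f :=
    { R := A₀, K := X'.residueField x', i₁ := X'.fromSpecResidueField x' ≫ i₁, i₂ := y₀ ≫ i₂,
      commSq := ⟨by
        rw [Category.assoc, ← hpb.w, ← Category.assoc, hy₀, Category.assoc]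
        rfl⟩ }
  obtain ⟨K₁, _, A₁, ι, a, haloc, l, ha, hl1, hl2⟩ := exists_lift_after_extension f h hd H sq
  have hl1' : Spec.map (CommRingCat.ofHom A₁.subtype) ≫ l =
      Spec.map (CommRingCat.ofHom ι) ≫ X'.fromSpecResidueField x' ≫ i₁ := hl1
  have hl2' : l ≫ f = Spec.map (CommRingCat.ofHom a) ≫ y₀ ≫ i₂ := hl2
  let l' : Spec (.of A₁) ⟶ X' := hpb.lift (Spec.map (CommRingCat.ofHom a) ≫ y₀) l (by
    rw [Category.assoc, hl2'])
  have hl'1 : l' ≫ f' = Spec.map (CommRingCat.ofHom a) ≫ y₀ := hpb.lift_fst _ _ _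
  have hl'2 : l' ≫ i₁ = l := hpb.lift_snd _ _ _
  have hgen : Spec.map (CommRingCat.ofHom A₁.subtype) ≫ l' =
      Spec.map (CommRingCat.ofHom ι) ≫ X'.fromSpecResidueField x' := by
    apply hpb.hom_ext
    · have e : CommRingCat.ofHom a ≫ CommRingCat.ofHom A₁.subtype =
          CommRingCat.ofHom A₀.subtype ≫ CommRingCat.ofHom ι := by
        ext r
        exact ha r
      rw [Category.assoc, hl'1, ← Spec.map_comp_assoc, e, Category.assoc, hy₀, Spec.map_comp,
        Category.assoc]
    · rw [Category.assoc, hl'2, hl1', Category.assoc]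
  refine ⟨l' (closedPoint A₁), ?_, ?_⟩
  · have h1 : l' ((Spec.map (CommRingCat.ofHom A₁.subtype)) (closedPoint K₁)) = x' := by
      rw [← Scheme.Hom.comp_apply, hgen, Scheme.Hom.comp_apply,
        Scheme.fromSpecResidueField_apply]
    have h2 := (specializes_closedPoint
      ((Spec.map (CommRingCat.ofHom A₁.subtype)) (closedPoint K₁))).map l'.continuous
    rw [h1] at h2
    exact h2
  · rw [← Scheme.Hom.comp_apply, hl'1, Scheme.Hom.comp_apply]
    have : (Spec.map (CommRingCat.ofHom a)) (closedPoint A₁) = closedPoint A₀ :=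
      comap_closedPoint a
    rw [this, hy₀cl]

/-- **Separatedness from a dense test family.** -/
theorem isSeparated_of_dense {U X S : Scheme.{u}} (f : X ⟶ S) (h : U ⟶ X)
    [QuasiSeparated f] [QuasiCompact h] (hd : DenseRange h.base)
    (H : ∀ sq : ValuativeCommSq f, (∃ i : Spec (.of sq.K) ⟶ U, i ≫ h = sq.i₁) →
      Subsingleton sq.commSq.LiftStruct) :
    IsSeparated f where
  isClosedImmersion_diagonal := by
    suffices hΔ : UniversallyClosed (pullback.diagonal f) from
      .of_isPreimmersion _ (pullback.diagonal f).isClosedMap.isClosed_range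
    refine universallyClosed_of_dense (pullback.diagonal f) h hd ?_
    intro S hS
    have hc : CommSq S.i₁ (Spec.map (CommRingCat.ofHom (algebraMap S.R S.K)))
        f (S.i₂ ≫ pullback.fst f f ≫ f) := ⟨by simp [← S.commSq.w_assoc]⟩
    let S' : ValuativeCommSq f := ⟨S.R, S.K, S.i₁, S.i₂ ≫ pullback.fst f f ≫ f, hc⟩
    have : Subsingleton S'.commSq.LiftStruct := H S' hS
    let S'l₁ : S'.commSq.LiftStruct := ⟨S.i₂ ≫ pullback.fst f f,
      by simp [S', ← S.commSq.w_assoc], by simp [S']⟩
    let S'l₂ : S'.commSq.LiftStruct := ⟨S.i₂ ≫ pullback.snd f f,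
      by simp [S', ← S.commSq.w_assoc], by simp [S', pullback.condition]⟩
    have h₁₂ : S'l₁ = S'l₂ := Subsingleton.elim _ _
    let l₀ : S.commSq.LiftStruct := by
      refine ⟨S.i₂ ≫ pullback.fst _ _, ?_, ?_⟩
      · simp [← S.commSq.w_assoc]
      · simp only [Category.assoc]
        apply IsPullback.hom_ext (IsPullback.of_hasPullback _ _)
        · simp
        · simp only [Category.assoc, pullback.diagonal_snd, Category.comp_id]
          exact congrArg CommSq.LiftStruct.l h₁₂
    refine ⟨⟨⟨l₀⟩, fun l => ?_⟩⟩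
    ext
    rw [← cancel_mono (pullback.diagonal f), l.fac_right]
    exact l₀.fac_right.symm

end Groth.Agent.Lib.Helper67.ValExt
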