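/-
Refined valuative criteria: test only valuation rings of residue fields of points of a
dominant quasi-compact `h : Z ⟶ Y` (helper67).
-/
import Mathlib
import Groth.Agent.S17897
import Groth.Agent.Lib.Helper67.ValExt

set_option autoImplicit false
universe u
open CategoryTheory CategoryTheory.Limits AlgebraicGeometry IsLocalRing

namespace Groth.Agent.Lib.Helper67.ValExt2

/-! ### Abstract valuation rings versus valuation subrings -/

section Range

variable (A K : Type u) [CommRing A] [IsDomain A] [ValuationRing A] [Field K] [Algebra A K]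
  [IsFractionRing A K]

/-- The image of a valuation ring in its fraction field, as a valuation subring. -/
def rangeVS : ValuationSubring K :=
  { (algebraMap A K).range with
    mem_or_inv_mem' := fun x => by
      rcases ValuationRing.isInteger_or_isInteger A x with ⟨a, ha⟩ | ⟨a, ha⟩
      · exact Or.inl ⟨a, ha⟩
      · exact Or.inr ⟨a, ha⟩ }

/-- A valuation ring is isomorphic to its image in the fraction field. -/
noncomputable def toRangeVS : A ≃+* rangeVS A K :=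
  RingEquiv.ofBijective ((algebraMap A K).codRestrict (rangeVS A K) (fun a => ⟨a, rfl⟩))
    ⟨fun a b hab => IsFractionRing.injective A K congr(($hab : K)),
      fun ⟨_, a, rfl⟩ => ⟨a, rfl⟩⟩

lemma coe_toRangeVS (a : A) : ((toRangeVS A K a : rangeVS A K) : K) = algebraMap A K a := rfl

end Range

section Convert

variable {X Y : Scheme.{u}} (f : Y ⟶ X) (sq : ValuativeCommSq f)

/-- The ring map `sq.R → rangeVS`. -/
noncomputable abbrev eHom : CommRingCat.of sq.R ⟶ CommRingCat.of (rangeVS sq.R sq.K) :=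
  CommRingCat.ofHom (toRangeVS sq.R sq.K).toRingHom

/-- The inverse ring map. -/
noncomputable abbrev eInv : CommRingCat.of (rangeVS sq.R sq.K) ⟶ CommRingCat.of sq.R :=
  CommRingCat.ofHom (toRangeVS sq.R sq.K).symm.toRingHom

lemma eHom_eInv : eHom f sq ≫ eInv f sq = 𝟙 _ := by
  ext a
  exact (toRangeVS sq.R sq.K).symm_apply_apply a

lemma eInv_eHom : eInv f sq ≫ eHom f sq = 𝟙 _ := by
  ext a
  exact congr((($((toRangeVS sq.R sq.K).apply_symm_apply a)) : sq.K))

lemma eHom_subtype : eHom f sq ≫ CommRingCat.ofHom (rangeVS sq.R sq.K).subtype =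
    CommRingCat.ofHom (algebraMap sq.R sq.K) := rfl

lemma eInv_algebraMap : eInv f sq ≫ CommRingCat.ofHom (algebraMap sq.R sq.K) =
    CommRingCat.ofHom (rangeVS sq.R sq.K).subtype := by
  rw [← eHom_subtype, ← Category.assoc, eInv_eHom, Category.id_comp]

/-- Uniqueness of lifts can be checked on the valuation subring version of the square. -/
theorem subsingleton_liftStruct_of_subring
    (huniq : ∀ l₁ l₂ : Spec (CommRingCat.of (rangeVS sq.R sq.K)) ⟶ Y,
      Spec.map (CommRingCat.ofHom (rangeVS sq.R sq.K).subtype) ≫ l₁ = sq.i₁ →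
      l₁ ≫ f = Spec.map (eHom f sq) ≫ sq.i₂ →
      Spec.map (CommRingCat.ofHom (rangeVS sq.R sq.K).subtype) ≫ l₂ = sq.i₁ →
      l₂ ≫ f = Spec.map (eHom f sq) ≫ sq.i₂ → l₁ = l₂) :
    Subsingleton sq.commSq.LiftStruct := by
  refine ⟨fun a b => ?_⟩
  have key : ∀ c : sq.commSq.LiftStruct,
      Spec.map (CommRingCat.ofHom (rangeVS sq.R sq.K).subtype) ≫ Spec.map (eHom f sq) ≫ c.l =
        sq.i₁ ∧ (Spec.map (eHom f sq) ≫ c.l) ≫ f = Spec.map (eHom f sq) ≫ sq.i₂ := by
    intro c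
    refine ⟨?_, ?_⟩
    · rw [← Spec.map_comp_assoc, eHom_subtype]
      exact c.fac_left
    · rw [Category.assoc, c.fac_right]
  have h12 := huniq _ _ (key a).1 (key a).2 (key b).1 (key b).2
  ext
  have := congr(Spec.map (eInv f sq) ≫ $h12)
  rwa [← Spec.map_comp_assoc, ← Spec.map_comp_assoc, eHom_eInv, Spec.map_id, Category.id_comp,
    Category.id_comp] at this

/-- Existence and uniqueness of lifts can be checked on the valuation subring version of the
square. -/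
theorem unique_liftStruct_of_subring
    (hex : ∃! l : Spec (CommRingCat.of (rangeVS sq.R sq.K)) ⟶ Y,
      Spec.map (CommRingCat.ofHom (rangeVS sq.R sq.K).subtype) ≫ l = sq.i₁ ∧
      l ≫ f = Spec.map (eHom f sq) ≫ sq.i₂) :
    Nonempty (Unique sq.commSq.LiftStruct) := by
  obtain ⟨l, ⟨hl1, hl2⟩, hl3⟩ := hex
  haveI : Subsingleton sq.commSq.LiftStruct :=
    subsingleton_liftStruct_of_subring f sq fun l₁ l₂ h1 h2 h3 h4 =>
      (hl3 l₁ ⟨h1, h2⟩).trans (hl3 l₂ ⟨h3, h4⟩).symm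
  have l₀ : sq.commSq.LiftStruct := by
    refine ⟨Spec.map (eInv f sq) ≫ l, ?_, ?_⟩
    · rw [← Spec.map_comp_assoc, eInv_algebraMap, hl1]
    · rw [Category.assoc, hl2, ← Spec.map_comp_assoc, eHom_eInv, Spec.map_id, Category.id_comp]
  exact ⟨⟨⟨l₀⟩, fun _ => Subsingleton.elim _ _⟩⟩

end Convert

/-! ### Reduction to valuation rings of residue fields -/

section Refined

variable {X Y Z : Scheme.{u}} (h : Z ⟶ Y) (f : Y ⟶ X)

/-- If lifts exist uniquely for valuation rings of residue fields of points of `Z`, they exist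
uniquely for all valuative squares whose generic point factors through `Z`. -/
theorem existsUnique_lift_of_residueField
    (Hc : ∀ (z : ↥Z) (R : ValuationSubring ↑(Z.residueField z))
      (φ : Spec (CommRingCat.of ↥R) ⟶ X),
      Spec.map (CommRingCat.ofHom R.subtype) ≫ φ = Z.fromSpecResidueField z ≫ h ≫ f →
      ∃! φ' : Spec (CommRingCat.of ↥R) ⟶ Y,
        Spec.map (CommRingCat.ofHom R.subtype) ≫ φ' = Z.fromSpecResidueField z ≫ h ∧ φ' ≫ f = φ)
    (K₀ : Type u) [Field K₀] (R₀ : ValuationSubring K₀) (i : Spec (CommRingCat.of K₀) ⟶ Z)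
    (φ : Spec (CommRingCat.of ↥R₀) ⟶ X)
    (w : Spec.map (CommRingCat.ofHom R₀.subtype) ≫ φ = i ≫ h ≫ f) :
    ∃! l : Spec (CommRingCat.of ↥R₀) ⟶ Y,
      Spec.map (CommRingCat.ofHom R₀.subtype) ≫ l = i ≫ h ∧ l ≫ f = φ := by
  set z := i (closedPoint K₀) with hz
  let g : Z.residueField z ⟶ .of K₀ := Z.descResidueField (Scheme.stalkClosedPointTo i)
  have hg : Spec.map g ≫ Z.fromSpecResidueField z = i :=
    Scheme.descResidueField_stalkClosedPointTo_fromSpecResidueField K₀ Z i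
  let ρ : ↥(R₀.comap g.hom) →+* ↥R₀ :=
    (g.hom.comp (R₀.comap g.hom).subtype).codRestrict R₀ (fun x => x.2)
  have hρ : ∀ x : ↥(R₀.comap g.hom), ((ρ x : ↥R₀) : K₀) = g.hom (x : ↑(Z.residueField z)) :=
    fun x => rfl
  obtain ⟨φ', ⟨hφ'1, hφ'2⟩, hφ'3⟩ :=
    Groth.Agent.S17897.result (h ≫ f) K₀ R₀ i φ w z g hg ρ hρ
  obtain ⟨ℓ, ⟨hℓ1, hℓ2⟩, hℓ3⟩ := Hc z (R₀.comap g.hom) φ' hφ'2
  have e : CommRingCat.ofHom ρ ≫ CommRingCat.ofHom R₀.subtype =
      CommRingCat.ofHom (R₀.comap g.hom).subtype ≫ g := rfl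
  refine ⟨Spec.map (CommRingCat.ofHom ρ) ≫ ℓ, ⟨?_, ?_⟩, ?_⟩
  · rw [← Spec.map_comp_assoc, e, Spec.map_comp, Category.assoc, hℓ1, ← Category.assoc, hg]
  · rw [Category.assoc, hℓ2, hφ'1]
  · rintro l ⟨hl1, hl2⟩
    obtain ⟨l', ⟨hl'1, hl'2⟩, -⟩ := Groth.Agent.S17897.result h K₀ R₀ i l hl1 z g hg ρ hρ
    have h1 : l' ≫ f = φ' := hφ'3 _
      ⟨by rw [← Category.assoc, hl'1, hl2], by rw [← Category.assoc, hl'2, Category.assoc]⟩
    have h2 : l' = ℓ := hℓ3 _ ⟨hl'2, h1⟩
    rw [← hl'1, h2]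

/-- If lifts are unique for valuation rings of residue fields of points of `Z`, they are unique
for all valuative squares whose generic point factors through `Z`. -/
theorem lift_unique_of_residueField
    (Hs : ∀ (z : ↥Z) (R : ValuationSubring ↑(Z.residueField z))
      (φ : Spec (CommRingCat.of ↥R) ⟶ X),
      Spec.map (CommRingCat.ofHom R.subtype) ≫ φ = Z.fromSpecResidueField z ≫ h ≫ f →
      ∀ φ₁ φ₂ : Spec (CommRingCat.of ↥R) ⟶ Y,
        Spec.map (CommRingCat.ofHom R.subtype) ≫ φ₁ = Z.fromSpecResidueField z ≫ h → φ₁ ≫ f = φ →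
        Spec.map (CommRingCat.ofHom R.subtype) ≫ φ₂ = Z.fromSpecResidueField z ≫ h → φ₂ ≫ f = φ →
        φ₁ = φ₂)
    (K₀ : Type u) [Field K₀] (R₀ : ValuationSubring K₀) (i : Spec (CommRingCat.of K₀) ⟶ Z)
    (φ : Spec (CommRingCat.of ↥R₀) ⟶ X) (l₁ l₂ : Spec (CommRingCat.of ↥R₀) ⟶ Y)
    (h1 : Spec.map (CommRingCat.ofHom R₀.subtype) ≫ l₁ = i ≫ h) (h1' : l₁ ≫ f = φ)
    (h2 : Spec.map (CommRingCat.ofHom R₀.subtype) ≫ l₂ = i ≫ h) (h2' : l₂ ≫ f = φ) :
    l₁ = l₂ := by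
  have w : Spec.map (CommRingCat.ofHom R₀.subtype) ≫ φ = i ≫ h ≫ f := by
    rw [← h1', ← Category.assoc, h1, Category.assoc]
  set z := i (closedPoint K₀) with hz
  let g : Z.residueField z ⟶ .of K₀ := Z.descResidueField (Scheme.stalkClosedPointTo i)
  have hg : Spec.map g ≫ Z.fromSpecResidueField z = i :=
    Scheme.descResidueField_stalkClosedPointTo_fromSpecResidueField K₀ Z i
  let ρ : ↥(R₀.comap g.hom) →+* ↥R₀ :=
    (g.hom.comp (R₀.comap g.hom).subtype).codRestrict R₀ (fun x => x.2)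
  have hρ : ∀ x : ↥(R₀.comap g.hom), ((ρ x : ↥R₀) : K₀) = g.hom (x : ↑(Z.residueField z)) :=
    fun x => rfl
  obtain ⟨φ', ⟨hφ'1, hφ'2⟩, hφ'3⟩ :=
    Groth.Agent.S17897.result (h ≫ f) K₀ R₀ i φ w z g hg ρ hρ
  obtain ⟨l₁', ⟨hl₁'1, hl₁'2⟩, -⟩ := Groth.Agent.S17897.result h K₀ R₀ i l₁ h1 z g hg ρ hρ
  obtain ⟨l₂', ⟨hl₂'1, hl₂'2⟩, -⟩ := Groth.Agent.S17897.result h K₀ R₀ i l₂ h2 z g hg ρ hρ
  have e1 : l₁' ≫ f = φ' := hφ'3 _
    ⟨by rw [← Category.assoc, hl₁'1, h1'], by rw [← Category.assoc, hl₁'2, Category.assoc]⟩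
  have e2 : l₂' ≫ f = φ' := hφ'3 _
    ⟨by rw [← Category.assoc, hl₂'1, h2'], by rw [← Category.assoc, hl₂'2, Category.assoc]⟩
  have := Hs z (R₀.comap g.hom) φ' hφ'2 l₁' l₂' hl₁'2 e1 hl₂'2 e2
  rw [← hl₁'1, ← hl₂'1, this]

/-- Separatedness from the refined uniqueness criterion. -/
theorem isSeparated_of_residueField [QuasiSeparated f] [QuasiCompact h] (hd : DenseRange h.base)
    (Hs : ∀ (z : ↥Z) (R : ValuationSubring ↑(Z.residueField z))
      (φ : Spec (CommRingCat.of ↥R) ⟶ X),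
      Spec.map (CommRingCat.ofHom R.subtype) ≫ φ = Z.fromSpecResidueField z ≫ h ≫ f →
      ∀ φ₁ φ₂ : Spec (CommRingCat.of ↥R) ⟶ Y,
        Spec.map (CommRingCat.ofHom R.subtype) ≫ φ₁ = Z.fromSpecResidueField z ≫ h → φ₁ ≫ f = φ →
        Spec.map (CommRingCat.ofHom R.subtype) ≫ φ₂ = Z.fromSpecResidueField z ≫ h → φ₂ ≫ f = φ →
        φ₁ = φ₂) :
    IsSeparated f := by
  refine ValExt.isSeparated_of_dense f h hd fun sq hsq => ?_
  obtain ⟨i, hi⟩ := hsq
  refine subsingleton_liftStruct_of_subring f sq fun l₁ l₂ h1 h2 h3 h4 => ?_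
  exact lift_unique_of_residueField h f Hs sq.K (rangeVS sq.R sq.K) i
    (Spec.map (eHom f sq) ≫ sq.i₂) l₁ l₂ (h1.trans hi.symm) h2 (h3.trans hi.symm) h4

/-- Universal closedness from the refined existence and uniqueness criterion. -/
theorem universallyClosed_of_residueField [QuasiCompact f] [QuasiCompact h]
    (hd : DenseRange h.base)
    (Hc : ∀ (z : ↥Z) (R : ValuationSubring ↑(Z.residueField z))
      (φ : Spec (CommRingCat.of ↥R) ⟶ X),
      Spec.map (CommRingCat.ofHom R.subtype) ≫ φ = Z.fromSpecResidueField z ≫ h ≫ f →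
      ∃! φ' : Spec (CommRingCat.of ↥R) ⟶ Y,
        Spec.map (CommRingCat.ofHom R.subtype) ≫ φ' = Z.fromSpecResidueField z ≫ h ∧
          φ' ≫ f = φ) :
    UniversallyClosed f := by
  refine ValExt.universallyClosed_of_dense f h hd fun sq hsq => ?_
  obtain ⟨i, hi⟩ := hsq
  refine unique_liftStruct_of_subring f sq ?_
  have w : Spec.map (CommRingCat.ofHom (rangeVS sq.R sq.K).subtype) ≫
      Spec.map (eHom f sq) ≫ sq.i₂ = i ≫ h ≫ f := by
    rw [← Spec.map_comp_assoc, eHom_subtype, ← sq.commSq.w, ← hi, Category.assoc]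
  have := existsUnique_lift_of_residueField h f Hc sq.K (rangeVS sq.R sq.K) i _ w
  rwa [hi] at this

end Refined

end Groth.Agent.Lib.Helper67.ValExt2
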